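import Cfsg.Agent.Lib.LenSeven.Squares
import Cfsg.Agent.Lib.Products

/-!
A subgroup of the automorphism group of an elementary group of order 8 in which a subgroup of order 4 is maximal.
-/

set_option autoImplicit false
set_option linter.style.haveILetI false
set_option linter.unusedSectionVars false

open Subgroup

namespace CfsgLib.LenSeven

variable {X : Type*} [Group X] [Finite X]

theorem exp_two_comm (h2 : ∀ x : X, x * x = 1) (a b : X) : a * b = b * a := by
  have h1 := inv_eq_of_mul_eq_one_right (h2 (a * b))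
  rw [mul_inv_rev, inv_eq_of_mul_eq_one_right (h2 a), inv_eq_of_mul_eq_one_right (h2 b)] at h1
  exact h1.symm

theorem exp_two_eq (h2 : ∀ x : X, x * x = 1) {a b : X} (h : a * b = 1) : a = b :=
  (eq_inv_of_mul_eq_one_left h).trans (inv_eq_of_mul_eq_one_right (h2 b))

/-- A fixed point pins down an odd automorphism up to the action on three cosets. -/
theorem fixes_of_coset (h2 : ∀ x : X, x * x = 1) (hX : Nat.card X = 8) (φ : MulAut X) {n : ℕ} (hn : Odd n)
    (hφn : φ ^ n = 1) {f : X} (hf1 : f ≠ 1) (hf : φ f = f) {a : X} (ha : a ≠ 1) (haf : a ≠ f)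
    (hfix : φ a = a ∨ φ a = a * f) : φ = 1 := by
  classical
  haveI : Fact (Nat.Prime 2) := ⟨Nat.prime_two⟩
  have hφa : φ a = a := by
    refine fix_of_pair φ hn hφn hfix ?_
    rcases hfix with e | e
    · exact Or.inr (by rw [map_mul, e, hf])
    · exact Or.inl (by rw [map_mul, e, hf, mul_assoc, h2, mul_one])
  set W : Subgroup X := MonoidHom.eqLocus φ.toMonoidHom (MonoidHom.id X) with hW
  have hmem : ∀ x, x ∈ W ↔ φ x = x := fun x => Iff.rfl
  haveI : Fintype W := Fintype.ofFinite _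
  have h4 : 4 ≤ Nat.card W := by
    have hle := Finset.card_le_univ ({1, ⟨f, (hmem f).mpr hf⟩, ⟨a, (hmem a).mpr hφa⟩,
      ⟨a * f, (hmem _).mpr (by rw [map_mul, hφa, hf])⟩} : Finset W)
    have e1 : a * f ≠ 1 := fun e => haf (exp_two_eq h2 e)
    rw [Finset.card_insert_of_notMem (by simp [Subtype.ext_iff, Ne.symm hf1, Ne.symm ha, Ne.symm e1]),
      Finset.card_insert_of_notMem (by simp [Subtype.ext_iff, Ne.symm haf, ha]),
      Finset.card_insert_of_notMem (by simp [Subtype.ext_iff, hf1]), Finset.card_singleton,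
      ← Nat.card_eq_fintype_card] at hle
    exact hle
  refine MulEquiv.ext fun x => ?_
  show φ x = x
  by_contra hx
  have hi : W.index = 2 := by
    have h1 := W.card_mul_index
    rw [hX] at h1
    have h3 : W.index ≤ 2 := by nlinarith
    have h5 : W.index ≠ 1 := fun e => hx ((hmem x).mp (index_eq_one.mp e ▸ mem_top x))
    have h6 : W.index ≠ 0 := index_ne_zero_of_finite
    omega
  have h1 : φ x ∉ W := fun h => hx (φ.injective ((hmem _).mp h))
  have h3 : x⁻¹ * φ x ∈ W := (mul_mem_iff_of_index_two hi).mpr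
    (iff_of_false (fun h => hx ((hmem x).mp (by simpa using inv_mem h))) h1)
  have h5 := eq_one_of_step φ hn hφn (q := x) (mul_inv_cancel_left x _).symm ((hmem _).mp h3) (k := 1)
    (by rw [pow_one, pow_two, h2])
  exact hx (inv_mul_eq_one.mp h5).symm

/-- `x ↦ x * A x` -/
def moveHom (h2 : ∀ x : X, x * x = 1) (A : MulAut X) : X →* X where
  toFun x := x * A x
  map_one' := by simp
  map_mul' x y := by
    rw [map_mul]
    calc x * y * (A x * A y) = x * (y * A x) * A y := by group
      _ = x * (A x * y) * A y := by rw [exp_two_comm h2 y (A x)]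
      _ = _ := by group

theorem moveHom_ker (h2 : ∀ x : X, x * x = 1) {A : MulAut X} {x : X} : x ∈ (moveHom h2 A).ker ↔ A x = x := by
  show x * A x = 1 ↔ _
  exact ⟨fun h => (exp_two_eq h2 h).symm, fun h => by rw [h, h2]⟩

theorem moveHom_range_le (h2 : ∀ x : X, x * x = 1) {A : MulAut X} (hA : A * A = 1) :
    (moveHom h2 A).range ≤ (moveHom h2 A).ker := by
  rintro _ ⟨x, rfl⟩
  rw [moveHom_ker]
  show A (x * A x) = x * A x
  rw [map_mul, show A (A x) = x by rw [← MulAut.mul_apply, hA, MulAut.one_apply], exp_two_comm h2]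

theorem four_le_moveHom_ker (h2 : ∀ x : X, x * x = 1) (hX : Nat.card X = 8) {A : MulAut X} (hA : A * A = 1) :
    4 ≤ Nat.card (moveHom h2 A).ker := by
  have h1 := (moveHom h2 A).ker.card_mul_index
  rw [index_ker, hX] at h1
  have h3 := card_le_of_le (moveHom_range_le h2 hA)
  have h6 : Nat.card (moveHom h2 A).ker ∣ 2 ^ 3 := ⟨_, h1.symm⟩
  obtain ⟨i, hi, hi'⟩ := (Nat.dvd_prime_pow Nat.prime_two).mp h6
  rw [hi'] at h1 h3 ⊢
  interval_cases i <;> norm_num at * <;> omega

/-- An involutory automorphism commutes with no non-trivial odd one. -/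
theorem eq_one_of_comm (h2 : ∀ x : X, x * x = 1) (hX : Nat.card X = 8) {W φ : MulAut X} (hW : W ≠ 1)
    (hWW : W * W = 1) {n : ℕ} (hn : Odd n) (hφn : φ ^ n = 1) (hc : W * φ = φ * W) : φ = 1 := by
  classical
  set g := moveHom h2 W with hg
  have hcm : ∀ x, φ (W x) = W (φ x) := fun x => by rw [← MulAut.mul_apply, ← MulAut.mul_apply, hc]
  have hgφ : ∀ x, φ (g x) = g (φ x) := fun x => by
    show φ (x * W x) = φ x * W (φ x)
    rw [map_mul, hcm]
  have h4 := four_le_moveHom_ker h2 hX hWW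
  have h1 := g.ker.card_mul_index
  rw [index_ker, hX] at h1
  obtain ⟨a, ha⟩ : ∃ a, W a ≠ a := by
    by_contra hh
    push Not at hh
    exact hW (MulEquiv.ext hh)
  have ht1 : g a ≠ 1 := fun e => ha ((moveHom_ker h2).mp e)
  haveI : Fintype g.range := Fintype.ofFinite _
  have hR2 : 2 ≤ Nat.card g.range := by
    have := Finset.card_le_univ ({1, ⟨g a, a, rfl⟩} : Finset g.range)
    rwa [Finset.card_pair (by simp [Subtype.ext_iff, Ne.symm ht1]), ← Nat.card_eq_fintype_card] at this
  have hR : Nat.card g.range = 2 := by nlinarith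
  have hRall : ∀ y ∈ g.range, y ≠ 1 → y = g a := by
    intro y hy hy1
    by_contra hne
    have hle := Finset.card_le_univ ({1, ⟨g a, a, rfl⟩, ⟨y, hy⟩} : Finset g.range)
    rw [Finset.card_insert_of_notMem (by simp [Subtype.ext_iff, Ne.symm ht1, Ne.symm hy1]),
      Finset.card_pair (by simp [Subtype.ext_iff, Ne.symm hne]), ← Nat.card_eq_fintype_card, hR] at hle
    omega
  have hφt : φ (g a) = g a :=
    hRall _ ⟨φ a, (hgφ a).symm⟩ fun e => ht1 (φ.injective (e.trans (map_one φ).symm))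
  have hK : Nat.card g.ker = 4 := by rw [hR] at h1; omega
  obtain ⟨c, hc1, hcR⟩ : ∃ c ∈ g.ker, c ∉ g.range := by
    by_contra hh
    push Not at hh
    have := card_le_of_le (show g.ker ≤ g.range from hh)
    omega
  have hφc : φ c ∈ g.ker := by
    rw [moveHom_ker] at hc1 ⊢
    rw [← hcm, hc1]
  have hφcR : φ c ∉ g.range := fun hh => by
    by_cases e : φ c = 1
    · exact hcR ((φ.injective (e.trans (map_one φ).symm)).symm ▸ one_mem _)
    · exact hcR ((φ.injective ((hRall _ hh e).trans hφt.symm)).symm ▸ ⟨a, rfl⟩)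
  have hidx : (g.range.subgroupOf g.ker).index = 2 := by
    have h3 := (g.range.subgroupOf g.ker).card_mul_index
    rw [Nat.card_congr (subgroupOfEquivOfLe (moveHom_range_le h2 hWW)).toEquiv, hR, hK] at h3
    omega
  have hprod : c * φ c ∈ g.range :=
    (mul_mem_iff_of_index_two hidx (a := ⟨c, hc1⟩) (b := ⟨φ c, hφc⟩)).mpr (iff_of_false hcR hφcR)
  refine fixes_of_coset h2 hX φ hn hφn ht1 hφt (a := c) (fun e => hcR (e ▸ one_mem _))
    (fun e => hcR (e ▸ ⟨a, rfl⟩)) ?_
  by_cases e : c * φ c = 1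
  · exact Or.inl (exp_two_eq h2 e).symm
  · refine Or.inr ?_
    rw [← hRall _ hprod e, ← mul_assoc, h2, one_mul]

/-- An odd automorphism inverted by an involution fixes a non-trivial point. -/
theorem fix_of_inverted (h2 : ∀ x : X, x * x = 1) (hX : Nat.card X = 8) {U φ : MulAut X} (hUU : U * U = 1)
    {n : ℕ} (hn : Odd n) (hφn : φ ^ n = 1) (hinv : U * φ * U⁻¹ = φ⁻¹) : ∃ f : X, f ≠ 1 ∧ φ f = f := by
  set V := φ * U * φ⁻¹ with hV
  have hVV : V * V = 1 := by
    rw [hV, show φ * U * φ⁻¹ * (φ * U * φ⁻¹) = φ * (U * U) * φ⁻¹ by group, hUU, mul_one, mul_inv_cancel]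
  obtain ⟨f, hf1, hfU, hfV⟩ : ∃ f : X, f ≠ 1 ∧ U f = f ∧ V f = f := by
    by_contra hh
    push Not at hh
    have h0 : (moveHom h2 U).ker ⊓ (moveHom h2 V).ker = ⊥ := eq_bot_iff.mpr fun f hf => mem_bot.mpr (by
      by_contra hf1
      exact hh f hf1 ((moveHom_ker h2).mp hf.1) ((moveHom_ker h2).mp hf.2))
    have h1 := (Products.card_mul_card_le (moveHom h2 U).ker (moveHom h2 V).ker).trans
      (Nat.mul_le_mul_right _ (Subgroup.card_le_card_group _))
    rw [h0, card_bot, hX] at h1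
    have := four_le_moveHom_ker h2 hX hUU
    have := four_le_moveHom_ker h2 hX hVV
    nlinarith
  refine ⟨f, hf1, fix_of_sq φ hn hφn ?_⟩
  have hUi : U⁻¹ = U := inv_eq_of_mul_eq_one_right hUU
  have h5 : V * U = φ * φ := by
    calc V * U = φ * (U * φ * U⁻¹)⁻¹ * (U * U) * (U⁻¹ * U⁻¹) * (U * U) := by rw [hV]; group
      _ = φ * φ := by rw [hinv, hUi, hUU, inv_inv, mul_one, mul_one, mul_one]
  rw [← MulAut.mul_apply, ← h5, MulAut.mul_apply, hfU, hfV]

/-- No subgroup of order 4 is maximal and self-normalising in a group of automorphisms. -/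
theorem no_coatom_four (h2 : ∀ x : X, x * x = 1) (hX : Nat.card X = 8) {M S : Subgroup (MulAut X)} (hSM : S < M)
    (hS : Nat.card S = 4) (hodd : Odd (S.relIndex M))
    (hmax : ∀ Y, S ≤ Y → Y ≤ M → Y = S ∨ Y = M) (hnn : ∃ m ∈ M, ∃ s ∈ S, m * s * m⁻¹ ∉ S) : False := by
  classical
  haveI : Fact (Nat.Prime 2) := ⟨Nat.prime_two⟩
  haveI : Finite (MulAut X) := Finite.of_injective (fun φ : MulAut X => (φ : X → X)) DFunLike.coe_injective
  set S' := S.subgroupOf M with hS'
  have hS'c : Nat.card S' = 2 ^ 2 := by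
    rw [hS', Nat.card_congr (subgroupOfEquivOfLe hSM.le).toEquiv, hS]; norm_num
  obtain ⟨P, hP⟩ : ∃ P : Sylow 2 M, (P : Subgroup M) = S' := by
    refine ⟨(IsPGroup.of_card hS'c).toSylow ?_, rfl⟩
    have : ¬ 2 ∣ S.relIndex M := fun h => by
      rw [Nat.odd_iff] at hodd
      omega
    exact this
  have hN : Subgroup.normalizer ((P : Subgroup M) : Set M) = (P : Subgroup M) := by
    rw [hP]
    refine le_antisymm (fun m hm => ?_) Subgroup.le_normalizer
    by_contra hmS
    rcases hmax ((Subgroup.normalizer (S' : Set M)).map M.subtype) (fun s hs =>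
      ⟨⟨s, hSM.le hs⟩, Subgroup.le_normalizer (show (⟨s, hSM.le hs⟩ : M) ∈ S' from hs), rfl⟩) (map_subtype_le _) with e | e
    · exact hmS (e.le ⟨m, hm, rfl⟩)
    · obtain ⟨g, hg, s, hs, hns⟩ := hnn
      obtain ⟨g', hg', he⟩ := e.ge hg
      have h3 := (mem_normalizer_iff.mp hg' ⟨s, hSM.le hs⟩).mp hs
      rw [← he] at hns
      exact hns h3
  have hP4 : Nat.card (P : Subgroup M) = 4 := by rw [hP, hS'c]; norm_num
  have hab : ∀ a ∈ (P : Subgroup M), ∀ b ∈ (P : Subgroup M), a * b = b * a := by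
    haveI hcom := IsPGroup.commutative_of_card_eq_prime_sq (p := 2) (G := (P : Subgroup M)) (by rw [hP]; exact hS'c)
    exact fun a ha b hb => congrArg Subtype.val (hcom ⟨a, ha⟩ ⟨b, hb⟩)
  have hNC : Subgroup.normalizer ((P : Subgroup M) : Set M) ≤ centralizer ((P : Subgroup M) : Set M) := by
    rw [hN]
    exact fun a ha => mem_centralizer_iff.mpr fun b hb => hab b hb a ha
  set K := (MonoidHom.transferSylow P hNC).ker with hK
  have hcomp := MonoidHom.ker_transferSylow_isComplement' P hNC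
  have hKc : Odd (Nat.card K) := by
    have h1 := hcomp.card_mul
    have h3 := (P : Subgroup M).card_mul_index
    rw [← hK] at h1
    have h4 : Nat.card K = (P : Subgroup M).index := by
      apply Nat.eq_of_mul_eq_mul_left (show 0 < Nat.card (P : Subgroup M) from Nat.card_pos)
      rw [h3, mul_comm, h1]
    rw [h4, hP]
    exact hodd
  have hodd' : ∀ k ∈ K, (k : MulAut X) ^ Nat.card K = 1 := fun k hk => by
    have h := congrArg (M.subtype.comp K.subtype) (pow_card_eq_one' (x := (⟨k, hk⟩ : K)))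
    rw [map_pow, map_one] at h
    exact h
  have hS2 : ∀ s ∈ (P : Subgroup M), (s * s) * (s * s) = 1 := fun s hs => by
    have h : (⟨s, hs⟩ : (P : Subgroup M)) ^ Nat.card (P : Subgroup M) = 1 := pow_card_eq_one'
    rw [hP4] at h
    simpa [pow_succ, mul_assoc] using congrArg Subtype.val h
  -- no element of `P` centralises a non-trivial element of `K`
  have hfpf : ∀ v ∈ (P : Subgroup M), v ≠ 1 → ∀ k ∈ K, v * k = k * v → k = 1 := by
    intro v hv hv1 k hk hvk
    obtain ⟨w, hw1, hww, hwk⟩ : ∃ w : M, w ≠ 1 ∧ w * w = 1 ∧ w * k = k * w := by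
      by_cases h : v * v = 1
      · exact ⟨v, hv1, h, hvk⟩
      · exact ⟨v * v, h, hS2 v hv, by rw [mul_assoc, hvk, ← mul_assoc, hvk, mul_assoc]⟩
    exact Subtype.ext (eq_one_of_comm h2 hX (W := (w : MulAut X)) (φ := (k : MulAut X))
      (fun e => hw1 (Subtype.ext e)) (congrArg Subtype.val hww) hKc (hodd' k hk) (congrArg Subtype.val hwk))
  obtain ⟨v₀, hv₀, hvv₀⟩ : ∃ v ∈ (P : Subgroup M), v ≠ 1 := by
    by_contra hh
    push Not at hh
    have : (P : Subgroup M) = ⊥ := eq_bot_iff.mpr fun x hx => mem_bot.mpr (hh x hx)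
    rw [this, card_bot] at hP4
    omega
  obtain ⟨u, hu, hu1, huu⟩ : ∃ u ∈ (P : Subgroup M), u ≠ 1 ∧ u * u = 1 := by
    by_cases h : v₀ * v₀ = 1
    · exact ⟨v₀, hv₀, hvv₀, h⟩
    · exact ⟨v₀ * v₀, mul_mem hv₀ hv₀, h, hS2 v₀ hv₀⟩
  haveI hKn : K.Normal := MonoidHom.normal_ker _
  obtain ⟨k, hk, hk1⟩ : ∃ k ∈ K, k ≠ 1 := by
    by_contra hh
    push Not at hh
    have h3 : K = ⊥ := eq_bot_iff.mpr fun x hx => mem_bot.mpr (hh x hx)
    have h1 := hcomp.card_mul
    rw [← hK, h3, card_bot, one_mul, hP] at h1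
    exact hSM.not_ge (subgroupOf_eq_top.mp (eq_top_of_card_eq _ h1))
  -- the involution `u` inverts `K`
  have hinv : ∀ y ∈ K, u * y * u⁻¹ = y⁻¹ := by
    intro y hy
    let F : K → K := fun x => ⟨(x : M)⁻¹ * (u * x * u⁻¹), mul_mem (inv_mem x.2) (hKn.conj_mem x x.2 u)⟩
    have hinj : Function.Injective F := fun x z e => by
      have e' : (x : M)⁻¹ * (u * x * u⁻¹) = (z : M)⁻¹ * (u * z * u⁻¹) := congrArg Subtype.val e
      have := hfpf u hu hu1 ((z : M) * (x : M)⁻¹) (mul_mem z.2 (inv_mem x.2)) (by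
        calc u * ((z : M) * (x : M)⁻¹) = (z : M) * ((z : M)⁻¹ * (u * z * u⁻¹)) * (u * (x : M)⁻¹) := by group
          _ = (z : M) * ((x : M)⁻¹ * (u * x * u⁻¹)) * (u * (x : M)⁻¹) := by rw [e']
          _ = (z : M) * (x : M)⁻¹ * u := by group)
      exact Subtype.ext (mul_inv_eq_one.mp this).symm
    obtain ⟨x, hx⟩ := (Finite.injective_iff_surjective.mp hinj) ⟨y, hy⟩
    have hx' : (x : M)⁻¹ * (u * x * u⁻¹) = y := congrArg Subtype.val hx
    have hui : u⁻¹ = u := inv_eq_of_mul_eq_one_right huu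
    rw [← hx']
    calc u * ((x : M)⁻¹ * (u * x * u⁻¹)) * u⁻¹ = u * (x : M)⁻¹ * u * x * (u⁻¹ * u⁻¹) := by group
      _ = u * (x : M)⁻¹ * u⁻¹ * x := by rw [hui, huu, mul_one]
      _ = _ := by group
  have hKab : ∀ x ∈ K, x * k = k * x := fun x hx => by
    have h1 := hinv _ (mul_mem hx hk)
    rw [show u * (x * k) * u⁻¹ = u * x * u⁻¹ * (u * k * u⁻¹) by group, hinv x hx, hinv k hk] at h1
    have h3 := congrArg (·⁻¹) h1
    simp only [mul_inv_rev, inv_inv] at h3
    exact h3.symm
  obtain ⟨f, hf1, hkf⟩ := fix_of_inverted h2 hX (U := (u : MulAut X)) (φ := (k : MulAut X))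
    (congrArg Subtype.val huu) hKc (hodd' k hk) (congrArg Subtype.val (hinv k hk))
  have huniq : ∀ x : X, (k : MulAut X) x = x → x = 1 ∨ x = f := fun x hx => by
    by_contra hh
    push Not at hh
    exact hk1 (Subtype.ext (fixes_of_coset h2 hX _ hKc (hodd' k hk) hf1 hkf hh.1 hh.2 (Or.inl hx)))
  have hKf : ∀ x ∈ K, (x : MulAut X) f = f := fun x hx => by
    have h1 : (k : MulAut X) ((x : MulAut X) f) = (x : MulAut X) f := by
      rw [← MulAut.mul_apply, show (k : MulAut X) * x = x * k from congrArg Subtype.val (hKab x hx).symm,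
        MulAut.mul_apply, hkf]
    exact (huniq _ h1).resolve_left fun e => hf1 ((x : MulAut X).injective (e.trans (map_one _).symm))
  haveI : Fintype X := Fintype.ofFinite X
  obtain ⟨a, ha, haf⟩ : ∃ a : X, a ≠ 1 ∧ a ≠ f := by
    by_contra hh
    push Not at hh
    have hle := Finset.card_le_card (show (Finset.univ : Finset X) ⊆ {1, f} from fun x _ => by
      by_cases hx : x = 1
      · simp [hx]
      · simp [hh x hx])
    rw [Finset.card_univ, ← Nat.card_eq_fintype_card, hX] at hle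
    have := hle.trans Finset.card_le_two
    omega
  -- `K` permutes the three non-trivial cosets of `f` regularly
  set F := zpowers f with hF
  have hford : orderOf f = 2 := orderOf_eq_prime (by rw [pow_two, h2]) hf1
  have hFmem : ∀ z ∈ F, z = 1 ∨ z = f := fun z hz => by
    obtain ⟨i, rfl⟩ := mem_zpowers_iff.mp hz
    rcases Int.emod_two_eq_zero_or_one i with e | e <;> rw [← zpow_mod_orderOf, hford] <;> simp [e]
  haveI : Fintype K := Fintype.ofFinite _
  haveI : F.Normal := ⟨fun n hn g => by rw [exp_two_comm h2 g n, mul_inv_cancel_right]; exact hn⟩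
  haveI : Fintype (X ⧸ F) := Fintype.ofFinite _
  have hK3 : Fintype.card K ≤ 3 := by
    have hQ : Fintype.card (X ⧸ F) = 4 := by
      have h1 := F.card_mul_index
      rw [Nat.card_zpowers, hford, hX, index_eq_card, Nat.card_eq_fintype_card] at h1
      omega
    let T : K → X ⧸ F := fun x => (((x : M) : MulAut X) a : X ⧸ F)
    have hTinj : Function.Injective T := fun x y e => by
      have h1 := hFmem _ (QuotientGroup.eq.mp e)
      set φx : MulAut X := ((x : M) : MulAut X) with hφx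
      set φy : MulAut X := ((y : M) : MulAut X) with hφy
      have hxf : φx⁻¹ f = f := by
        apply φx.injective
        rw [← MulAut.mul_apply, mul_inv_cancel, MulAut.one_apply, hKf x x.2]
      have h3 : (φx⁻¹ * φy) a = a ∨ (φx⁻¹ * φy) a = a * f := by
        have hxx : φx⁻¹ (φx a) = a := by rw [← MulAut.mul_apply, inv_mul_cancel, MulAut.one_apply]
        rcases h1 with e1 | e1
        · exact Or.inl (by rw [MulAut.mul_apply, ← inv_mul_eq_one.mp e1, hxx])
        · refine Or.inr ?_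
          rw [MulAut.mul_apply, show φy a = φx a * f from inv_mul_eq_iff_eq_mul.mp e1, map_mul, hxx, hxf]
      have h5 := fixes_of_coset h2 hX (φx⁻¹ * φy) hKc
        (hodd' ((x : M)⁻¹ * y) (mul_mem (inv_mem x.2) y.2)) hf1
        (by rw [MulAut.mul_apply, hKf y y.2, hxf]) ha haf h3
      exact Subtype.ext (Subtype.ext (inv_mul_eq_one.mp h5))
    have hTne : ∀ x : K, T x ≠ 1 := fun x e => by
      rcases hFmem _ ((QuotientGroup.eq_one_iff _).mp e) with e1 | e1
      · exact ha (((x : M) : MulAut X).injective (e1.trans (map_one _).symm))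
      · exact haf (((x : M) : MulAut X).injective (e1.trans (hKf x x.2).symm))
    have hle := Finset.card_le_card (show (Finset.univ : Finset K).image T ⊆ Finset.univ.erase 1 from fun z hz => by
      obtain ⟨x, -, rfl⟩ := Finset.mem_image.mp hz
      exact Finset.mem_erase.mpr ⟨hTne x, Finset.mem_univ _⟩)
    rwa [Finset.card_image_of_injective _ hTinj, Finset.card_erase_of_mem (Finset.mem_univ _), Finset.card_univ,
      Finset.card_univ, hQ] at hle
  haveI : Fintype (P : Subgroup M) := Fintype.ofFinite _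
  let C : ↥(P : Subgroup M) → K := fun v => ⟨(v : M) * k * (v : M)⁻¹, hKn.conj_mem k hk v⟩
  obtain ⟨v₁, -, v₂, -, hne, heq⟩ := Finset.exists_ne_map_eq_of_card_lt_of_maps_to
    (s := (Finset.univ : Finset (P : Subgroup M))) (t := (Finset.univ : Finset K).erase 1) (f := C)
    (by
      rw [Finset.card_erase_of_mem (Finset.mem_univ _), Finset.card_univ, Finset.card_univ,
        ← Nat.card_eq_fintype_card (α := (P : Subgroup M)), hP4]
      omega)
    (fun v _ => Finset.mem_erase.mpr ⟨fun e => hk1 (conj_eq_one_iff.mp (congrArg Subtype.val e)), Finset.mem_univ _⟩)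
  have heq' : (v₁ : M) * k * (v₁ : M)⁻¹ = (v₂ : M) * k * (v₂ : M)⁻¹ := congrArg Subtype.val heq
  refine hk1 (hfpf ((v₂ : M)⁻¹ * v₁) (mul_mem (inv_mem v₂.2) v₁.2)
    (fun h => hne (Subtype.ext (inv_mul_eq_one.mp h).symm)) k hk ?_)
  calc (v₂ : M)⁻¹ * (v₁ : M) * k = (v₂ : M)⁻¹ * ((v₁ : M) * k * (v₁ : M)⁻¹) * v₁ := by group
    _ = (v₂ : M)⁻¹ * ((v₂ : M) * k * (v₂ : M)⁻¹) * v₁ := by rw [heq']
    _ = k * ((v₂ : M)⁻¹ * v₁) := by group

end CfsgLib.LenSeven
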