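import Cfsg.Agent.Lib.ChainEight.Chain
import Cfsg.Agent.Lib.Products

/-!
Simple groups with no chain of eight steps: first facts and overgroups of a Sylow 2-subgroup of order 32.
-/

set_option autoImplicit false
set_option linter.style.haveILetI false
set_option linter.unusedSectionVars false

open Subgroup

namespace CfsgLib.LenSeven

open CfsgLib.ChainEight (Ch ch_pgroup ch_zero)

variable {G : Type*} [Group G] [Finite G]

/-- A non-abelian simple group with no chain of eight steps. -/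
structure Hyp (G : Type*) [Group G] [Finite G] : Prop where
  simple : IsSimpleGroup G
  na : ¬ IsMulCommutative G
  chain : ¬ Ch (⊤ : Subgroup G) 8

theorem Hyp.of_len [IsSimpleGroup G] (hG : ¬ IsMulCommutative G)
    (hlen : ∀ c : Fin 9 → Subgroup G, ¬ StrictAnti c) : Hyp G :=
  ⟨inferInstance, hG, fun ⟨c, hc, _⟩ => hlen c hc⟩

theorem Hyp.ch_le (h : Hyp G) {H : Subgroup G} (hH : H ≠ ⊤) {n : ℕ} (hn : Ch H n) : n ≤ 6 := by
  by_contra hc
  exact h.chain ((hn.of_le (show 7 ≤ n by omega)).step (lt_top_iff_ne_top.mpr hH))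

theorem Hyp.eq_bot_or_top (h : Hyp G) (N : Subgroup G) (hN : N.Normal) : N = ⊥ ∨ N = ⊤ := by
  haveI := h.simple
  exact hN.eq_bot_or_eq_top

theorem Hyp.normalizer_ne_top (h : Hyp G) {X : Subgroup G} (hX : X ≠ ⊥) (hX' : X ≠ ⊤) :
    Subgroup.normalizer (X : Set G) ≠ ⊤ := fun e =>
  (h.eq_bot_or_top X (Subgroup.normalizer_eq_top_iff.1 e)).elim hX hX'

theorem Hyp.ne_top_of_isPGroup (h : Hyp G) {X : Subgroup G} (hX : IsPGroup 2 X) : X ≠ ⊤ := by
  intro e
  subst e
  haveI := h.simple
  haveI : Fact (Nat.Prime 2) := ⟨Nat.prime_two⟩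
  have hG : IsPGroup 2 G := hX.of_equiv topEquiv
  haveI : Group.IsNilpotent G := hG.isNilpotent
  haveI : Nontrivial G := IsSimpleGroup.toNontrivial
  rcases h.eq_bot_or_top _ (inferInstance : (center G).Normal) with e | e
  · exact (Subgroup.nontrivial_iff_ne_bot _).mp hG.center_nontrivial e
  · exact h.na ⟨⟨fun x y => (mem_center_iff.mp (e ▸ mem_top x) y).symm⟩⟩

theorem Hyp.center_eq_bot (h : Hyp G) : center G = ⊥ := by
  rcases h.eq_bot_or_top _ (inferInstance : (center G).Normal) with e | e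
  · exact e
  · exact absurd ⟨⟨fun x y => (mem_center_iff.mp (e ▸ mem_top x) y).symm⟩⟩ h.na

theorem Hyp.centralizer_ne_top (h : Hyp G) {t : G} (ht : t ≠ 1) : centralizer ({t} : Set G) ≠ ⊤ := fun e => by
  have : t ∈ center G := mem_center_iff.mpr fun g => mem_centralizer_singleton_iff.mp (e ▸ mem_top g)
  rw [h.center_eq_bot] at this
  exact ht this

theorem Hyp.no_index_two (h : Hyp G) (H : Subgroup G) : H.index ≠ 2 := fun hi => by
  rcases h.eq_bot_or_top H (normal_of_index_eq_two hi) with rfl | rfl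
  · rw [index_bot] at hi
    exact h.ne_top_of_isPGroup (IsPGroup.of_card (n := 1) (by rw [card_top, hi, pow_one])) rfl
  · rw [index_top] at hi
    omega

theorem Hyp.sylow_le_six (h : Hyp G) (S : Sylow 2 G) {a : ℕ} (hS : Nat.card (S : Subgroup G) = 2 ^ a) : a ≤ 6 :=
  haveI : Fact (Nat.Prime 2) := ⟨Nat.prime_two⟩
  h.ch_le (h.ne_top_of_isPGroup S.2) (ch_pgroup (p := 2) a _ hS)

/-- There is nothing between a subgroup of order 32 and a proper overgroup, nor above the latter. -/
theorem Hyp.between (h : Hyp G) {S X M : Subgroup G} (hS : Nat.card S = 32) (h1 : S < X) (h2 : X ≤ M) (hM : M ≠ ⊤) :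
    X = M := by
  haveI : Fact (Nat.Prime 2) := ⟨Nat.prime_two⟩
  by_contra hne
  have := h.ch_le hM (((ch_pgroup (p := 2) 5 S (by rw [hS]; norm_num)).step h1).step (lt_of_le_of_ne h2 hne))
  omega

/-- The conjugate of a subgroup by an element. -/
theorem mem_map_conj {H : Subgroup G} {m y : G} : y ∈ H.map (MulAut.conj m).toMonoidHom ↔ m⁻¹ * y * m ∈ H := by
  constructor
  · rintro ⟨x, hx, rfl⟩
    simpa [MulAut.conj_apply, mul_assoc] using hx
  · exact fun hy => ⟨_, hy, by simp [MulAut.conj_apply, mul_assoc]⟩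

theorem card_map_conj (H : Subgroup G) (m : G) : Nat.card ↥(H.map (MulAut.conj m).toMonoidHom) = Nat.card H :=
  (Nat.card_congr (H.equivMapOfInjective _ (MulAut.conj m).injective).toEquiv).symm

end CfsgLib.LenSeven
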