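import Cfsg.Agent.Lib.LenSeven.Base
import Cfsg.Agent.Lib.TransferExtremal
import Cfsg.Agent.S3225

/-!
A self-centralising elementary group of order 8 is normal in some Sylow 2-subgroup of order 32.
-/

set_option autoImplicit false
set_option linter.style.haveILetI false
set_option linter.unusedSectionVars false

open Subgroup
open scoped Pointwise

namespace CfsgLib.LenSeven

variable {G : Type*} [Group G] [Finite G]

/-- The data of `P = N_S(E)`. -/
structure Cfg (E P : Subgroup G) (u w d : G) : Prop where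
  le : E ≤ P
  comm : ∀ a ∈ E, ∀ b ∈ E, a * b = b * a
  sq : ∀ a ∈ E, a * a = 1
  cardE : Nat.card E = 8
  card : Nat.card P = 16
  uP : u ∈ P
  uE : u ∉ E
  u2 : u * u = 1
  mem : ∀ p ∈ P, p ∈ E ∨ p * u ∈ E
  wE : w ∈ E
  w1 : w ≠ 1
  wu : w * u = u * w
  dE : d ∈ E
  du : d * u = u * d
  d1 : d ≠ 1
  dw : d ≠ w
  four : ∀ a ∈ E, a * u = u * a → a = 1 ∨ a = w ∨ a = d ∨ a = d * w
  psq : ∀ p ∈ P, p * p = 1 ∨ p * p = w
  pcomm : ∀ p ∈ P, ∀ q ∈ P, p * q = q * p ∨ p * q = w * (q * p)
  self : ∀ p ∈ P, (∀ a ∈ E, p * a = a * p) → p ∈ E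

namespace Cfg

variable {E P : Subgroup G} {u w d : G}

theorem central (K : Cfg E P u w d) {z : G} (hz : z ∈ E) (hzu : z * u = u * z) {p : G} (hp : p ∈ P) :
    p * z = z * p := by
  rcases K.mem p hp with h | h
  · exact K.comm p h z hz
  · have e : p = p * u * u := by rw [mul_assoc, K.u2, mul_one]
    rw [e, mul_assoc, ← hzu, ← mul_assoc, K.comm _ h z hz, mul_assoc]

theorem swap (K : Cfg E P u w d) (hd' : w * d = d * w) : Cfg E P u w (d * w) :=
  { K with
    dE := mul_mem K.dE K.wE
    du := by rw [mul_assoc, K.wu, ← mul_assoc, K.du, mul_assoc]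
    d1 := fun e => K.dw (mul_right_cancel (e.trans (K.sq w K.wE).symm))
    dw := fun e => K.d1 (mul_eq_right.mp e)
    four := fun a ha hau => by
      rcases K.four a ha hau with h | h | h | h
      · exact Or.inl h
      · exact Or.inr (Or.inl h)
      · exact Or.inr (Or.inr (Or.inr (by rw [h, mul_assoc, K.sq w K.wE, mul_one])))
      · exact Or.inr (Or.inr (Or.inl h)) }

/-- How a Sylow subgroup over `P` acts. -/
theorem outer (K : Cfg E P u w d) (S : Sylow 2 G) (hS : Nat.card (S : Subgroup G) = 32) (hPS : P ≤ (S : Subgroup G))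
    (hnE : ¬ (S : Subgroup G) ≤ Subgroup.normalizer (E : Set G)) :
    (∀ s ∈ (S : Subgroup G), ∀ p ∈ P, s * p * s⁻¹ ∈ P) ∧
      (∀ s ∈ (S : Subgroup G), ∀ t ∈ (S : Subgroup G), s ∉ P → t ∉ P → s⁻¹ * t ∈ P) ∧
      (∀ s ∈ (S : Subgroup G), s * s ∈ P) ∧
      (∀ s ∈ (S : Subgroup G), s * w = w * s) ∧
      (∀ s ∈ (S : Subgroup G), s ∉ P → ∀ a ∈ E, s * a * s⁻¹ ∈ E → a * u = u * a) ∧
      (∀ s ∈ (S : Subgroup G), s ∉ P → ∀ b ∈ P, b * b = 1 → s * b = b * s → b ∈ E ∧ b * u = u * b) := by
  haveI : Fact (Nat.Prime 2) := ⟨Nat.prime_two⟩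
  have hi : (P.subgroupOf S).index = 2 := by
    have h1 := (P.subgroupOf S).card_mul_index
    rw [Nat.card_congr (subgroupOfEquivOfLe hPS).toEquiv, K.card, hS] at h1
    omega
  haveI := normal_of_index_eq_two hi
  have hn : ∀ s ∈ (S : Subgroup G), ∀ p ∈ P, s * p * s⁻¹ ∈ P := fun s hs p hp =>
    (inferInstance : (P.subgroupOf S).Normal).conj_mem ⟨p, hPS hp⟩ hp ⟨s, hs⟩
  have hdiff : ∀ s ∈ (S : Subgroup G), ∀ t ∈ (S : Subgroup G), s ∉ P → t ∉ P → s⁻¹ * t ∈ P :=
    fun s hs t ht hsP htP => (mul_mem_iff_of_index_two hi (a := (⟨s, hs⟩ : (S : Subgroup G))⁻¹) (b := ⟨t, ht⟩)).mpr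
      (iff_of_false (fun h => hsP (by have h' := inv_mem h; rwa [inv_inv] at h')) htP)
  have hw : ∀ s ∈ (S : Subgroup G), s * w = w * s := fun s hs => by
    obtain ⟨p, hp, hpw⟩ : ∃ p ∈ P, p * p = w := by
      by_contra hc
      push Not at hc
      apply K.uE
      refine K.self u K.uP fun a ha => ?_
      have h0 : ∀ p ∈ P, p * p = 1 := fun p hp => (K.psq p hp).resolve_right (hc p hp)
      have hua := h0 _ (mul_mem K.uP (K.le ha))
      have h' := inv_eq_of_mul_eq_one_right hua
      rw [mul_inv_rev, inv_eq_of_mul_eq_one_right K.u2, inv_eq_of_mul_eq_one_right (K.sq a ha)] at h'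
      exact h'.symm
    have h1 := K.psq _ (hn s hs p hp)
    have h2 : s * p * s⁻¹ * (s * p * s⁻¹) = s * w * s⁻¹ := by rw [← hpw]; group
    rw [h2] at h1
    rcases h1 with h1 | h1
    · exact absurd (conj_eq_one_iff.mp h1) K.w1
    · exact mul_inv_eq_iff_eq_mul.mp h1
  have hT : ∀ s ∈ (S : Subgroup G), s ∉ P → ∀ a ∈ E, s * a * s⁻¹ ∈ E → a * u = u * a := by
    intro s hs hsP a ha hsa
    by_contra hau
    refine hnE fun t ht => ?_
    have hsE : s ∈ Subgroup.normalizer (E : Set G) := by
      refine mem_normalizer_fintype fun c hc => ?_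
      have hz : ∀ z ∈ E, z * u = u * z → s * z * s⁻¹ ∈ E := fun z hz hzu => by
        refine K.self _ (hn s hs z (K.le hz)) fun b hb => ?_
        have hb' : s⁻¹ * b * s ∈ P := by
          have := hn s⁻¹ (inv_mem hs) b (K.le hb)
          rwa [inv_inv] at this
        have h1 := K.central hz hzu hb'
        calc s * z * s⁻¹ * b = s * (z * (s⁻¹ * b * s)) * s⁻¹ := by group
          _ = s * (s⁻¹ * b * s * z) * s⁻¹ := by rw [h1]
          _ = b * (s * z * s⁻¹) := by group
      by_cases hcu : c * u = u * c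
      · exact hz c hc hcu
      · -- `c` differs from `a` by an element centralised by `u`
        have hca : a * c * u = u * (a * c) := by
          have key : ∀ x ∈ E, ¬ x * u = u * x → x * u = w * (u * x) :=
            fun x hx hxu => (K.pcomm x (K.le hx) u K.uP).resolve_left hxu
          calc a * c * u = a * (w * (u * c)) := by rw [mul_assoc, key c hc hcu]
            _ = w * (a * u * c) := by rw [← mul_assoc a, K.comm a ha w K.wE]; group
            _ = w * w * (u * a * c) := by rw [key a ha hau]; group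
            _ = u * (a * c) := by rw [K.sq w K.wE]; group
        have h2 := hz _ (mul_mem ha hc) hca
        have e : s * c * s⁻¹ = s * a * s⁻¹ * (s * (a * c) * s⁻¹) := by
          calc s * c * s⁻¹ = s * (a * a * c) * s⁻¹ := by rw [K.sq a ha, one_mul]
            _ = _ := by group
        rw [e]
        exact mul_mem hsa h2
    by_cases htP : t ∈ P
    · refine mem_normalizer_fintype fun c hc => ?_
      rcases K.pcomm t htP c (K.le hc) with e | e
      · rwa [e, mul_inv_cancel_right]
      · rw [e, ← mul_assoc w, mul_inv_cancel_right]; exact mul_mem K.wE hc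
    · have h1 : s⁻¹ * t ∈ Subgroup.normalizer (E : Set G) := by
        refine mem_normalizer_fintype fun c hc => ?_
        rcases K.pcomm _ (hdiff s hs t ht hsP htP) c (K.le hc) with e | e
        · rwa [e, mul_inv_cancel_right]
        · rw [e, ← mul_assoc w, mul_inv_cancel_right]; exact mul_mem K.wE hc
      have := Subgroup.mul_mem _ hsE h1
      rwa [mul_inv_cancel_left] at this
  refine ⟨hn, hdiff, fun s hs => mul_self_mem_of_index_two hi ⟨s, hs⟩, hw, hT, fun s hs hsP b hb hb2 hsb => ?_⟩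
  by_cases hbE : b ∈ E
  · exact ⟨hbE, hT s hs hsP b hbE (by rwa [hsb, mul_inv_cancel_right])⟩
  -- `b` is the image of an element of `E`
  exfalso
  obtain ⟨a, ha, hau⟩ : ∃ a ∈ E, ¬ a * u = u * a := by
    by_contra hc
    push Not at hc
    exact K.uE (K.self u K.uP fun a ha => (hc a ha).symm)
  have ha' : s * a * s⁻¹ ∉ E := fun hh => hau (hT s hs hsP a ha hh)
  have hout : ∀ q ∈ P, q ∉ E → q * q = 1 → q * u ∈ E ∧ q * u * u = u * (q * u) := fun q hq hqE hq2 => by
    refine ⟨(K.mem q hq).resolve_left hqE, ?_⟩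
    have h1 := K.sq _ ((K.mem q hq).resolve_left hqE)
    have h' := inv_eq_of_mul_eq_one_right h1
    rw [mul_inv_rev, inv_eq_of_mul_eq_one_right K.u2, inv_eq_of_mul_eq_one_right hq2] at h'
    rw [mul_assoc, K.u2, mul_one, ← h', ← mul_assoc, K.u2, one_mul]
  obtain ⟨h1, h2⟩ := hout b hb hbE hb2
  obtain ⟨h3, h4⟩ := hout _ (hn s hs a (K.le ha)) ha'
    (by rw [show s * a * s⁻¹ * (s * a * s⁻¹) = s * (a * a) * s⁻¹ by group, K.sq a ha, mul_one, mul_inv_cancel])
  -- `b` and `s a s⁻¹` differ by a central element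
  set z := b * u * (s * a * s⁻¹ * u) with hz
  have hzE : z ∈ E := mul_mem h1 h3
  have hzu : z * u = u * z := by rw [hz, mul_assoc, h4, ← mul_assoc, h2, mul_assoc]
  have hzb : s * a * s⁻¹ * z = b := by
    rw [hz, K.comm _ h1 _ h3]
    calc s * a * s⁻¹ * (s * a * s⁻¹ * u * (b * u)) = s * (a * a) * s⁻¹ * (u * (b * u)) := by group
      _ = u * (b * u) := by rw [K.sq a ha]; group
      _ = b := by rw [← h2, mul_assoc b, K.u2, mul_one]
  have hy : s⁻¹ * z * s * u = u * (s⁻¹ * z * s) := by
    have hc : s * u * s⁻¹ * z = z * (s * u * s⁻¹) := K.central hzE hzu (hn s hs u K.uP)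
    calc s⁻¹ * z * s * u = s⁻¹ * (z * (s * u * s⁻¹)) * s := by group
      _ = s⁻¹ * (s * u * s⁻¹ * z) * s := by rw [hc]
      _ = u * (s⁻¹ * z * s) := by group
  have hyE : s⁻¹ * z * s ∈ E := K.self _ (by have := hn s⁻¹ (inv_mem hs) z (K.le hzE); rwa [inv_inv] at this)
    fun c hc => by
      have hc2 : s * c * s⁻¹ * z = z * (s * c * s⁻¹) := K.central hzE hzu (hn s hs c (K.le hc))
      calc s⁻¹ * z * s * c = s⁻¹ * (z * (s * c * s⁻¹)) * s := by group
        _ = s⁻¹ * (s * c * s⁻¹ * z) * s := by rw [hc2]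
        _ = c * (s⁻¹ * z * s) := by group
  refine hbE ?_
  have : s⁻¹ * b * s = a * (s⁻¹ * z * s) := by rw [← hzb]; group
  have hb' : s⁻¹ * b * s = b := by rw [mul_assoc, ← hsb, inv_mul_cancel_left]
  rw [← hb', this]
  exact mul_mem ha hyE

/-- A commutator of the shape `e (s e s⁻¹)` has square `w`. -/
theorem exists_comm (K : Cfg E P u w d) (S : Sylow 2 G) (hS : Nat.card (S : Subgroup G) = 32) (hPS : P ≤ (S : Subgroup G))
    (hnE : ¬ (S : Subgroup G) ≤ Subgroup.normalizer (E : Set G)) {s : G} (hs : s ∈ (S : Subgroup G)) (hsP : s ∉ P) :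
    ∃ e ∈ E, ¬ e * u = u * e ∧ s * e * s⁻¹ ∉ E ∧ s * e * s⁻¹ ∈ P ∧
      e * (s * e * s⁻¹) * (e * (s * e * s⁻¹)) = w ∧ ¬ e * (s * e * s⁻¹) = s * e * s⁻¹ * e := by
  obtain ⟨hn, -, -, -, hT, -⟩ := K.outer S hS hPS hnE
  obtain ⟨e, he, heu⟩ : ∃ a ∈ E, ¬ a * u = u * a := by
    by_contra hc
    push Not at hc
    exact K.uE (K.self u K.uP fun a ha => (hc a ha).symm)
  have he' : s * e * s⁻¹ ∉ E := fun hh => heu (hT s hs hsP e he hh)
  have heP := hn s hs e (K.le he)
  have hne : ¬ e * (s * e * s⁻¹) = s * e * s⁻¹ * e := by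
    intro hh
    have h1 := (K.mem _ heP).resolve_left he'
    apply heu
    apply mul_left_cancel (a := s * e * s⁻¹)
    rw [← mul_assoc, ← hh, mul_assoc, K.comm e he _ h1, mul_assoc]
  refine ⟨e, he, heu, he', heP, ?_, hne⟩
  refine (K.psq _ (mul_mem (K.le he) heP)).resolve_left fun hh => hne ?_
  have h' := inv_eq_of_mul_eq_one_right hh
  rw [mul_inv_rev, show (s * e * s⁻¹)⁻¹ = s * e⁻¹ * s⁻¹ by group, inv_eq_of_mul_eq_one_right (K.sq e he)] at h'
  exact h'.symm

/-- A central element other than `w` is not conjugate to `w`. -/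
theorem burn (K : Cfg E P u w d) (S : Sylow 2 G) (hS : Nat.card (S : Subgroup G) = 32) (hPS : P ≤ (S : Subgroup G))
    (hnE : ¬ (S : Subgroup G) ≤ Subgroup.normalizer (E : Set G)) (hd : ∀ s ∈ (S : Subgroup G), s * d = d * s)
    {g : G} (hg : g * d * g⁻¹ = w) : False := by
  haveI : Fact (Nat.Prime 2) := ⟨Nat.prime_two⟩
  obtain ⟨hn, hdiff, -, hw, -, -⟩ := K.outer S hS hPS hnE
  obtain ⟨n, hn', hnd⟩ := Sylow.conj_eq_normalizer_conj_of_mem_centralizer S w g
    (mem_centralizer_iff.mpr fun s hs => hw s hs)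
    (by
      rw [show g⁻¹ * w * g = d by rw [← hg]; group]
      exact mem_centralizer_iff.mpr fun s hs => hd s hs)
  rw [show g⁻¹ * w * g = d by rw [← hg]; group] at hnd
  obtain ⟨s, hs, hsP⟩ : ∃ s ∈ (S : Subgroup G), s ∉ P := SetLike.not_le_iff_exists.mp fun hle => by
    have := card_le_of_le hle
    rw [hS, K.card] at this
    omega
  obtain ⟨e, he, -, -, heP, hcw, -⟩ := K.exists_comm S hS hPS hnE hs hsP
  have hcomP : ∀ a ∈ (S : Subgroup G), ∀ b ∈ (S : Subgroup G), a * b * a⁻¹ * b⁻¹ ∈ P := by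
    intro a ha b hb
    have hi : (P.subgroupOf S).index = 2 := by
      have h1 := (P.subgroupOf S).card_mul_index
      rw [Nat.card_congr (subgroupOfEquivOfLe hPS).toEquiv, K.card, hS] at h1
      omega
    show (⟨a, ha⟩ : (S : Subgroup G)) * ⟨b, hb⟩ * ⟨a, ha⟩⁻¹ * ⟨b, hb⟩⁻¹ ∈ P.subgroupOf S
    simp only [mul_mem_iff_of_index_two hi, inv_mem_iff]
    tauto
  have hconj : ∀ y ∈ (S : Subgroup G), n⁻¹ * y * n ∈ (S : Subgroup G) := fun y hy =>
    (Subgroup.mem_normalizer_iff''.mp hn' y).mp hy
  have h1 : n⁻¹ * (e * (s * e * s⁻¹)) * n ∈ P := by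
    have h2 := hcomP _ (hconj e (hPS (K.le he))) _ (hconj s hs)
    rw [show n⁻¹ * (e * (s * e * s⁻¹)) * n = n⁻¹ * (e * s * e⁻¹ * s⁻¹) * n by
      rw [inv_eq_of_mul_eq_one_right (K.sq e he)]; group]
    convert h2 using 1
    group
  rcases K.psq _ h1 with h | h
  · rw [show n⁻¹ * (e * (s * e * s⁻¹)) * n * (n⁻¹ * (e * (s * e * s⁻¹)) * n) =
      n⁻¹ * (e * (s * e * s⁻¹) * (e * (s * e * s⁻¹))) * n by group, hcw] at h
    exact K.w1 (by rw [show w = n * (n⁻¹ * w * n) * n⁻¹ by group, h]; group)
  · rw [show n⁻¹ * (e * (s * e * s⁻¹)) * n * (n⁻¹ * (e * (s * e * s⁻¹)) * n) =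
      n⁻¹ * (e * (s * e * s⁻¹) * (e * (s * e * s⁻¹))) * n by group, hcw] at h
    exact K.dw (hnd.trans h)

/-- Some good central element is conjugate to `w`. -/
theorem fused (K : Cfg E P u w d) (h : Hyp G) (S : Sylow 2 G) (hS : Nat.card (S : Subgroup G) = 32)
    (hPS : P ≤ (S : Subgroup G)) (hnE : ¬ (S : Subgroup G) ≤ Subgroup.normalizer (E : Set G))
    (hself : ∀ s ∈ (S : Subgroup G), (∀ a ∈ E, s * a = a * s) → s ∈ E) :
    (∃ g : G, g * d * g⁻¹ = w) ∨ ∃ d', Cfg E P u w d' ∧ (∀ s ∈ (S : Subgroup G), s * d' = d' * s) ∧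
      ∃ g : G, g * d' * g⁻¹ = w := by
  haveI : Fact (Nat.Prime 2) := ⟨Nat.prime_two⟩
  obtain ⟨hn, hdiff, hsq, hw, hT, hfixed⟩ := K.outer S hS hPS hnE
  obtain ⟨s, hs, hsP⟩ : ∃ s ∈ (S : Subgroup G), s ∉ P := SetLike.not_le_iff_exists.mp fun hle => by
    have := card_le_of_le hle
    rw [hS, K.card] at this
    omega
  obtain ⟨e, he, heu, he', heP, hcw, hne⟩ := K.exists_comm S hS hPS hnE hs hsP
  set e' := s * e * s⁻¹ with he'def
  have he2 : e * e = 1 := K.sq e he
  have he'2 : e' * e' = 1 := by rw [he'def, show s * e * s⁻¹ * (s * e * s⁻¹) = s * (e * e) * s⁻¹ by group, he2]; group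
  set P0 := closure ({e, e'} : Set G) with hP0
  have hP0P : P0 ≤ P := (closure_le _).mpr (by
    rintro x (rfl | rfl)
    · exact K.le he
    · exact heP)
  have hw0 : w ∈ P0 := hcw ▸ mul_mem (mul_mem (subset_closure (Or.inl rfl)) (subset_closure (Or.inr rfl)))
    (mul_mem (subset_closure (Or.inl rfl)) (subset_closure (Or.inr rfl)))
  have hwc : ∀ p ∈ P, p * w = w * p := fun p hp => K.central K.wE K.wu hp
  have hew : e' * e = w * (e * e') :=
    (K.pcomm e' heP e (K.le he)).resolve_left fun hh => hne hh.symm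
  -- the eight elements
  have hlist : ∀ x ∈ P0, ∃ z, (z = 1 ∨ z = w) ∧ (x = z ∨ x = z * e ∨ x = z * e' ∨ x = z * (e * e')) := by
    intro x hx
    have hzz : ∀ z, (z = 1 ∨ z = w) → (z * w = 1 ∨ z * w = w) := by
      rintro z (rfl | rfl)
      · exact Or.inr (one_mul w)
      · exact Or.inl (K.sq _ K.wE)
    induction hx using closure_induction_left with
    | one => exact ⟨1, Or.inl rfl, Or.inl rfl⟩
    | mul_left y hy z' _ ih =>
      obtain ⟨z, hz, hx⟩ := ih
      have hzc : ∀ p ∈ P, p * z = z * p := by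
        rcases hz with rfl | rfl
        · exact fun p _ => by rw [mul_one, one_mul]
        · exact hwc
      rcases hy with hye | hye <;> rw [hye]
      · rcases hx with hx | hx | hx | hx <;> rw [hx]
        · exact ⟨z, hz, Or.inr (Or.inl (hzc _ (K.le he)))⟩
        · exact ⟨z, hz, Or.inl (by rw [← mul_assoc, hzc _ (K.le he), mul_assoc, he2, mul_one])⟩
        · exact ⟨z, hz, Or.inr (Or.inr (Or.inr (by rw [← mul_assoc, hzc _ (K.le he), mul_assoc])))⟩
        · exact ⟨z, hz, Or.inr (Or.inr (Or.inl (by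
            rw [← mul_assoc, hzc _ (K.le he), mul_assoc, ← mul_assoc e e, he2, one_mul])))⟩
      · rcases hx with hx | hx | hx | hx <;> rw [hx]
        · exact ⟨z, hz, Or.inr (Or.inr (Or.inl (hzc _ heP)))⟩
        · exact ⟨z * w, hzz z hz, Or.inr (Or.inr (Or.inr (by
            rw [← mul_assoc, hzc _ heP, mul_assoc, hew, ← mul_assoc, ← mul_assoc, ← mul_assoc])))⟩
        · exact ⟨z, hz, Or.inl (by rw [← mul_assoc, hzc _ heP, mul_assoc, he'2, mul_one])⟩
        · exact ⟨z * w, hzz z hz, Or.inr (Or.inl (by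
            rw [← mul_assoc, hzc _ heP, mul_assoc z, ← mul_assoc e', hew, mul_assoc w, mul_assoc e, he'2, mul_one,
              ← mul_assoc]))⟩
    | inv_mul_cancel y hy z' _ ih =>
      obtain ⟨z, hz, hx⟩ := ih
      have hzc : ∀ p ∈ P, p * z = z * p := by
        rcases hz with rfl | rfl
        · exact fun p _ => by rw [mul_one, one_mul]
        · exact hwc
      rcases hy with hye | hye <;> rw [hye]
      · rw [inv_eq_of_mul_eq_one_right he2]
        rcases hx with hx | hx | hx | hx <;> rw [hx]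
        · exact ⟨z, hz, Or.inr (Or.inl (hzc _ (K.le he)))⟩
        · exact ⟨z, hz, Or.inl (by rw [← mul_assoc, hzc _ (K.le he), mul_assoc, he2, mul_one])⟩
        · exact ⟨z, hz, Or.inr (Or.inr (Or.inr (by rw [← mul_assoc, hzc _ (K.le he), mul_assoc])))⟩
        · exact ⟨z, hz, Or.inr (Or.inr (Or.inl (by
            rw [← mul_assoc, hzc _ (K.le he), mul_assoc, ← mul_assoc e e, he2, one_mul])))⟩
      · rw [inv_eq_of_mul_eq_one_right he'2]
        rcases hx with hx | hx | hx | hx <;> rw [hx]
        · exact ⟨z, hz, Or.inr (Or.inr (Or.inl (hzc _ heP)))⟩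
        · exact ⟨z * w, hzz z hz, Or.inr (Or.inr (Or.inr (by
            rw [← mul_assoc, hzc _ heP, mul_assoc, hew, ← mul_assoc, ← mul_assoc, ← mul_assoc])))⟩
        · exact ⟨z, hz, Or.inl (by rw [← mul_assoc, hzc _ heP, mul_assoc, he'2, mul_one])⟩
        · exact ⟨z * w, hzz z hz, Or.inr (Or.inl (by
            rw [← mul_assoc, hzc _ heP, mul_assoc z, ← mul_assoc e', hew, mul_assoc w, mul_assoc e, he'2, mul_one,
              ← mul_assoc]))⟩
  have hzP0 : ∀ z ∈ E, z * u = u * z → z ∈ P0 → z = 1 ∨ z = w := by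
    intro z hz hzu hz0
    obtain ⟨c, hc, hx⟩ := hlist z hz0
    have hcE : c ∈ E := by rcases hc with rfl | rfl; exacts [one_mem _, K.wE]
    rcases hx with rfl | rfl | rfl | rfl
    · exact hc
    · exfalso
      apply heu
      rcases hc with rfl | rfl
      · simpa using hzu
      · apply mul_left_cancel (a := c)
        rw [← mul_assoc, hzu, ← mul_assoc, ← mul_assoc, K.wu]
    · exact absurd (by simpa using mul_mem (inv_mem hcE) hz) he'
    · exact absurd (by simpa [mul_assoc] using mul_mem (inv_mem (mul_mem hcE he)) hz) he'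
  have hd0 : d ∉ P0 := fun hh => (hzP0 d K.dE K.du hh).elim K.d1 K.dw
  have hcov : ∀ p ∈ P, p ∈ P0 ∨ p * d ∈ P0 := by
    have hdd : d * d = 1 := K.sq d K.dE
    have hE : ∀ a ∈ E, a ∈ P0 ∨ a * d ∈ P0 := by
      intro a ha
      have h4 : ∀ z ∈ E, z * u = u * z → z ∈ P0 ∨ z * d ∈ P0 := by
        intro z hz hzu
        rcases K.four z hz hzu with rfl | rfl | rfl | rfl
        · exact Or.inl (one_mem _)
        · exact Or.inl hw0
        · exact Or.inr (hdd ▸ one_mem _)
        · refine Or.inr ?_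
          rw [mul_assoc, K.comm _ K.wE _ K.dE, ← mul_assoc, hdd, one_mul]
          exact hw0
      by_cases hau : a * u = u * a
      · exact h4 a ha hau
      · have key : ∀ x ∈ E, ¬ x * u = u * x → x * u = w * (u * x) :=
          fun x hx hxu => (K.pcomm x (K.le hx) u K.uP).resolve_left hxu
        have hae : a * e * u = u * (a * e) := by
          calc a * e * u = a * (w * (u * e)) := by rw [mul_assoc, key e he heu]
            _ = w * (a * u * e) := by rw [← mul_assoc a, K.comm a ha w K.wE]; group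
            _ = w * w * (u * a * e) := by rw [key a ha hau]; group
            _ = u * (a * e) := by rw [K.sq w K.wE]; group
        rcases h4 _ (mul_mem ha he) hae with h | h
        · refine Or.inl ?_
          have := mul_mem h (subset_closure (Or.inl rfl) : e ∈ P0)
          rwa [mul_assoc, he2, mul_one] at this
        · refine Or.inr ?_
          have := mul_mem h (subset_closure (Or.inl rfl) : e ∈ P0)
          rwa [mul_assoc, K.comm d K.dE e he, ← mul_assoc, mul_assoc a, he2, mul_one] at this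
    intro p hp
    by_cases hpE : p ∈ E
    · exact hE p hpE
    have hpe : p * e' ∈ E := by
      have h1 := (K.mem p hp).resolve_left hpE
      have h2 := (K.mem e' heP).resolve_left he'
      have := mul_mem h1 (inv_mem h2)
      rwa [mul_inv_rev, inv_eq_of_mul_eq_one_right he'2, mul_assoc, mul_inv_cancel_left] at this
    rcases hE _ hpe with h | h
    · refine Or.inl ?_
      have := mul_mem h (subset_closure (Or.inr rfl) : e' ∈ P0)
      rwa [mul_assoc, he'2, mul_one] at this
    · refine Or.inr ?_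
      have := mul_mem h (subset_closure (Or.inr rfl) : e' ∈ P0)
      rwa [mul_assoc, ← K.central K.dE K.du heP, ← mul_assoc, mul_assoc p, he'2, mul_one] at this
  have hPn : ∀ p ∈ P, ∀ x ∈ P0, p * x * p⁻¹ ∈ P0 := fun p hp x hx => by
    rcases K.pcomm p hp x (hP0P hx) with h1 | h1
    · rwa [h1, mul_inv_cancel_right]
    · rw [h1, ← mul_assoc w, mul_inv_cancel_right]
      exact mul_mem hw0 hx
  have hsn : ∀ x ∈ P0, s * x * s⁻¹ ∈ P0 := by
    intro x hx
    have : P0 ≤ P0.comap (MulAut.conj s).toMonoidHom := (closure_le _).mpr (by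
      rintro y (rfl | rfl)
      · exact subset_closure (Or.inr rfl)
      · show s * (s * e * s⁻¹) * s⁻¹ ∈ P0
        rw [show s * (s * e * s⁻¹) * s⁻¹ = s * s * e * (s * s)⁻¹ by group]
        exact hPn _ (hsq s hs) e (subset_closure (Or.inl rfl)))
    exact this hx
  by_cases hL : ∃ t ∈ (S : Subgroup G), t ∉ P ∧ t * t ∈ P0
  · obtain ⟨t, ht, htP, htt⟩ := hL
    have htn : t ∈ Subgroup.normalizer (P0 : Set G) := by
      refine mem_normalizer_fintype fun x hx => ?_
      have e1 : t * x * t⁻¹ = s * (s⁻¹ * t * x * (s⁻¹ * t)⁻¹) * s⁻¹ := by group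
      rw [e1]
      exact hsn _ (hPn _ (hdiff s hs t ht hsP htP) x hx)
    set L := zpowers t ⊔ P0 with hLdef
    have hmemL : ∀ y ∈ L, y ∈ P0 ∨ (y ∉ P ∧ t⁻¹ * y ∈ P0) := by
      intro y hy
      have hy' : y ∈ ((zpowers t : Subgroup G) : Set G) * ((P0 : Subgroup G) : Set G) := by
        rw [← Subgroup.coe_mul_of_left_le_normalizer_right _ _ (zpowers_le.mpr htn)]; exact hy
      obtain ⟨p, hp, q, hq, rfl⟩ := hy'
      obtain ⟨i, rfl⟩ := mem_zpowers_iff.mp hp
      rcases Int.even_or_odd i with ⟨k, rfl⟩ | ⟨k, rfl⟩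
      · left
        show t ^ (k + k) * q ∈ P0
        rw [← two_mul, zpow_mul, zpow_two]
        exact mul_mem (zpow_mem htt k) hq
      · right
        have e1 : t ^ (2 * k + 1) = t * (t * t) ^ k := by rw [add_comm, zpow_add, zpow_one, zpow_mul, zpow_two]
        have hq' : (t * t) ^ k * q ∈ P0 := mul_mem (zpow_mem htt k) hq
        refine ⟨fun hh => htP ?_, ?_⟩
        · have := mul_mem (show t ^ (2 * k + 1) * q ∈ P from hh) (inv_mem (hP0P hq'))
          rw [e1, mul_assoc t, mul_inv_cancel_right] at this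
          exact this
        · show t⁻¹ * (t ^ (2 * k + 1) * q) ∈ P0
          rw [e1, mul_assoc t, inv_mul_cancel_left]
          exact hq'
    have hLS : L ≤ (S : Subgroup G) := sup_le (zpowers_le.mpr ht) (hP0P.trans hPS)
    have hdL : d ∉ L := fun hh => (hmemL d hh).elim hd0 fun h' => h'.1 (K.le K.dE)
    have hdd : d * d = 1 := K.sq d K.dE
    have hLi : L.relIndex (S : Subgroup G) = 2 := by
      show (L.subgroupOf S).index = 2
      rw [index_eq_two_iff]
      refine ⟨⟨d, hPS (K.le K.dE)⟩, fun y => ?_⟩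
      simp only [mem_subgroupOf, Subgroup.coe_mul]
      have hcases : (y : G) ∈ L ∨ (y : G) * d ∈ L := by
        by_cases hy : (y : G) ∈ P
        · exact (hcov _ hy).imp (fun h => mem_sup_right h) fun h => mem_sup_right h
        · rcases hcov _ (hdiff t ht y y.2 htP hy) with h | h
          · refine Or.inl ?_
            have := mul_mem (mem_sup_left (mem_zpowers t) : t ∈ L) (mem_sup_right h)
            rwa [mul_inv_cancel_left] at this
          · refine Or.inr ?_
            have := mul_mem (mem_sup_left (mem_zpowers t) : t ∈ L) (mem_sup_right h)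
            rwa [mul_assoc t⁻¹, mul_inv_cancel_left] at this
      rcases hcases with h | h
      · exact Or.inr ⟨h, fun hh => hdL (by simpa using mul_mem (inv_mem h) hh)⟩
      · exact Or.inl ⟨h, fun hh => hdL (by simpa using mul_mem (inv_mem hh) h)⟩
    obtain ⟨g, hgL, hle⟩ := TransferExtremal.exists_conj (fun M _ => h.no_index_two M) S L hLS hLi d
      (by rw [pow_two, hdd])
    set b := g * d * g⁻¹ with hb
    set Cb := centralizer ({b} : Set G) ⊓ (S : Subgroup G) with hCb
    have hC16 : 16 ≤ Nat.card Cb := by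
      rw [← K.card]
      refine (card_le_of_le ?_).trans hle
      exact fun p hp => ⟨mem_centralizer_singleton_iff.mpr (K.central K.dE K.du hp), hPS hp⟩
    have hb2 : b * b = 1 := by rw [hb, show g * d * g⁻¹ * (g * d * g⁻¹) = g * (d * d) * g⁻¹ by group, hdd]; group
    have hb1 : b ≠ 1 := fun hh => K.d1 (conj_eq_one_iff.mp hh)
    by_cases hbP : b ∈ P
    · by_cases hbc : ∀ p ∈ P, p * b = b * p
      · have hbE : b ∈ E := K.self b hbP fun a ha => (hbc a (K.le ha)).symm
        have hbu : b * u = u * b := (hbc u K.uP).symm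
        rcases K.four b hbE hbu with hh | hh | hh | hh
        · exact absurd hh hb1
        · exact Or.inl ⟨g, hh⟩
        · exact absurd (hh ▸ hgL) hdL
        · exfalso
          apply hdL
          have h2 : d * w ∈ L := hh ▸ hgL
          simpa [mul_assoc, K.sq w K.wE] using mul_mem h2 (mem_sup_right hw0 : w ∈ L)
      · exfalso
        have hCP : ¬ Cb ≤ P := fun hle' => hbc fun p hp => by
          have h1 := eq_of_le_of_card_ge hle' (by rw [K.card]; exact hC16)
          exact mem_centralizer_singleton_iff.mp (h1.ge hp).1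
        obtain ⟨y, hy, hyP⟩ := SetLike.not_le_iff_exists.mp hCP
        obtain ⟨hbE, hbu⟩ := hfixed y hy.2 hyP b hbP hb2 (mem_centralizer_singleton_iff.mp hy.1)
        exact hbc fun p hp => K.central hbE hbu hp
    · exfalso
      have hbS : b ∈ (S : Subgroup G) := hLS hgL
      have h8 : 8 ≤ Nat.card ↥(Cb ⊓ P) := by
        have h1 := (Products.card_mul_card_le Cb P).trans
          (Nat.mul_le_mul_right _ (card_le_of_le (sup_le inf_le_right hPS)))
        rw [K.card, hS] at h1
        omega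
      have h4 : 4 ≤ Nat.card ↥(Cb ⊓ P ⊓ E) := by
        have h1 := (Products.card_mul_card_le (Cb ⊓ P) E).trans
          (Nat.mul_le_mul_right _ (card_le_of_le (sup_le inf_le_right K.le)))
        rw [K.cardE, K.card] at h1
        omega
      have hdC : d ∈ Cb := by
        by_contra hdC
        haveI : Fintype ↥(Cb ⊓ P ⊓ E) := Fintype.ofFinite _
        classical
        have hsub : ∀ x : ↥(Cb ⊓ P ⊓ E), (x : G) = 1 ∨ (x : G) = w := fun x => by
          have hx := x.2
          have hbx : b * x = x * b := (mem_centralizer_singleton_iff.mp hx.1.1.1).symm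
          have hxu := hT b hbS hbP x hx.2 (by rw [hbx, mul_inv_cancel_right]; exact hx.2)
          rcases K.four x hx.2 hxu with hh | hh | hh | hh
          · exact Or.inl hh
          · exact Or.inr hh
          · exact absurd (hh ▸ hx.1.1) hdC
          · refine absurd ?_ hdC
            have hwC : w ∈ Cb := ⟨mem_centralizer_singleton_iff.mpr (hw b hbS).symm, hPS (K.le K.wE)⟩
            have h3 : d * w * w ∈ Cb := mul_mem (hh ▸ hx.1.1) hwC
            rwa [mul_assoc, K.sq w K.wE, mul_one] at h3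
        have hcl := Finset.card_le_card (s := (Finset.univ : Finset ↥(Cb ⊓ P ⊓ E)).image Subtype.val)
          (t := {1, w}) fun y hy => by
            obtain ⟨x, -, rfl⟩ := Finset.mem_image.mp hy
            simpa using hsub x
        rw [Finset.card_image_of_injective _ Subtype.val_injective, Finset.card_univ, ← Nat.card_eq_fintype_card] at hcl
        have := hcl.trans Finset.card_le_two
        omega
      have hdcen : ∀ y ∈ (S : Subgroup G), y * d = d * y := fun y hy => by
        by_cases hyP : y ∈ P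
        · exact K.central K.dE K.du hyP
        · have h1 := hdiff b hbS y hy hbP hyP
          have h2 := K.central K.dE K.du h1
          have h3 : b * d = d * b := (mem_centralizer_singleton_iff.mp hdC.1).symm
          calc y * d = b * (b⁻¹ * y * d) := by group
            _ = b * (d * (b⁻¹ * y)) := by rw [h2]
            _ = d * b * (b⁻¹ * y) := by rw [← mul_assoc, h3]
            _ = d * y := by group
      have hall : (S : Subgroup G) ≤ Cb := by
        have h1 : Nat.card (S : Subgroup G) ≤ Nat.card Cb :=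
          (card_le_of_le (show (S : Subgroup G) ≤ centralizer ({d} : Set G) ⊓ (S : Subgroup G) from
            fun y hy => ⟨mem_centralizer_singleton_iff.mpr (hdcen y hy), hy⟩)).trans hle
        exact (eq_of_le_of_card_ge inf_le_right h1).ge
      exact hbP (K.le (hself b hbS fun a ha => (mem_centralizer_singleton_iff.mp (hall (hPS (K.le ha))).1).symm))
  · push Not at hL
    have h1or : ∀ t ∈ (S : Subgroup G), t ∉ P → 2 < orderOf t := by
      intro t ht htP
      have h2 : t * t ≠ 1 := fun hh => hL t ht htP (hh ▸ one_mem _)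
      by_contra hlt
      have hpos := orderOf_pos t
      rcases (show orderOf t = 1 ∨ orderOf t = 2 by omega) with hh | hh
      · exact htP (orderOf_eq_one_iff.mp hh ▸ one_mem _)
      · exact h2 (by rw [← pow_two, ← hh, pow_orderOf_eq_one])
    have hev : Even (Nat.card G) := by
      rw [even_iff_two_dvd]
      exact (show 2 ∣ 32 by norm_num).trans (hS ▸ card_subgroup_dvd_card _)
    have hPi : P.relIndex (S : Subgroup G) = 2 := by
      have h1 := (P.subgroupOf S).card_mul_index
      rw [Nat.card_congr (subgroupOfEquivOfLe hPS).toEquiv, K.card, hS] at h1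
      show (P.subgroupOf S).index = 2
      omega
    have hP4 : ∀ p ∈ P, p ^ 4 = 1 := fun p hp => by
      rw [show p ^ 4 = p * p * (p * p) by simp [pow_succ, mul_assoc]]
      rcases K.psq p hp with hh | hh <;> rw [hh]
      · exact one_mul 1
      · exact K.sq w K.wE
    by_cases h4 : ∃ t ∈ (S : Subgroup G), t ∉ P ∧ t ^ 4 = 1
    · obtain ⟨t, ht, htP, ht4⟩ := h4
      have htt : t * t * (t * t) = 1 := by rw [← ht4]; simp [pow_succ, mul_assoc]
      obtain ⟨hdE, hdu⟩ := hfixed t ht htP (t * t) (hsq t ht) htt (by group)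
      have hnot := hL t ht htP
      have hcase : t * t = d ∨ t * t = d * w := by
        rcases K.four _ hdE hdu with hh | hh | hh | hh
        · exact absurd (hh ▸ one_mem _) hnot
        · exact absurd (hh ▸ hw0) hnot
        · exact Or.inl hh
        · exact Or.inr hh
      have K' : Cfg E P u w (t * t) := by
        rcases hcase with hh | hh <;> rw [hh]
        · exact K
        · exact K.swap (K.comm _ K.wE _ K.dE)
      have hord : orderOf t = 2 ^ 2 := by
        refine orderOf_eq_prime_pow (n := 1) (p := 2) ?_ (by norm_num; exact ht4)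
        rw [pow_one, pow_two]
        exact fun hh => hnot (hh ▸ one_mem _)
      obtain ⟨g, hg⟩ := Cfsg.Agent.S3225.result hev h.no_index_two S P hPS hPi 2 (by norm_num)
        (fun y hy hyP => by norm_num; exact h1or y hy hyP) t ht hord
      refine Or.inr ⟨t * t, K', fun y hy => ?_, g, ?_⟩
      · by_cases hyP : y ∈ P
        · exact K.central hdE hdu hyP
        · have h2 := K.central hdE hdu (hdiff t ht y hy htP hyP)
          calc y * (t * t) = t * (t⁻¹ * y * (t * t)) := by group
            _ = t * (t * t * (t⁻¹ * y)) := by rw [h2]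
            _ = t * t * y := by group
      · rw [show g * (t * t) * g⁻¹ = g * t * g⁻¹ * (g * t * g⁻¹) by group]
        refine (K.psq _ hg).resolve_left fun hh => hnot ?_
        rw [show g * t * g⁻¹ * (g * t * g⁻¹) = g * (t * t) * g⁻¹ by group, conj_eq_one_iff] at hh
        exact hh ▸ one_mem _
    · push Not at h4
      exfalso
      have h8 : ∀ t ∈ (S : Subgroup G), t ∉ P → orderOf t = 2 ^ 3 := fun t ht htP => by
        refine orderOf_eq_prime_pow (n := 2) (p := 2) (by norm_num; exact h4 t ht htP) ?_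
        have := hP4 _ (hsq t ht)
        rw [← this, ← pow_two, ← pow_mul]; norm_num
      obtain ⟨g, hg⟩ := Cfsg.Agent.S3225.result hev h.no_index_two S P hPS hPi 3 (by norm_num)
        (fun y hy hyP => by rw [h8 y hy hyP]; norm_num) s hs (h8 s hs hsP)
      have h1 := hP4 _ hg
      rw [conj_pow, conj_eq_one_iff] at h1
      exact h4 s hs hsP h1

end Cfg

/-- A self-centralising elementary group of order 8 is normal in some Sylow 2-subgroup. -/
theorem Hyp.exists_sylow_normalizing (h : Hyp G) (S : Sylow 2 G) (hS : Nat.card (S : Subgroup G) = 32)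
    {E : Subgroup G} (hES : E ≤ (S : Subgroup G)) (hE8 : Nat.card E = 8) (hE2 : ∀ a ∈ E, a * a = 1)
    (hself : ∀ s ∈ (S : Subgroup G), (∀ a ∈ E, s * a = a * s) → s ∈ E) :
    ∃ S' : Sylow 2 G, E ≤ (S' : Subgroup G) ∧ (S' : Subgroup G) ≤ Subgroup.normalizer (E : Set G) := by
  classical
  haveI : Fact (Nat.Prime 2) := ⟨Nat.prime_two⟩
  by_contra hno
  push Not at hno
  have hcomm : ∀ a ∈ E, ∀ b ∈ E, a * b = b * a := fun a ha b hb => by
    have h1 := inv_eq_of_mul_eq_one_right (hE2 _ (mul_mem ha hb))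
    rw [mul_inv_rev, inv_eq_of_mul_eq_one_right (hE2 a ha), inv_eq_of_mul_eq_one_right (hE2 b hb)] at h1
    exact h1.symm
  set P := (S : Subgroup G) ⊓ Subgroup.normalizer (E : Set G) with hP
  have hPS : P ≤ (S : Subgroup G) := inf_le_left
  have hEP : E ≤ P := le_inf hES Subgroup.le_normalizer
  have hcardP : Nat.card P = 16 := by
    have h1 : P ≠ (S : Subgroup G) := fun hh => hno S hES (hh ▸ inf_le_right)
    have h2 : E ≠ P := by
      intro hh
      haveI : Group.IsNilpotent (S : Subgroup G) := S.2.isNilpotent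
      have hN := Group.normalizerCondition_of_isNilpotent (G := (S : Subgroup G)) (E.subgroupOf S) (by
        rw [lt_top_iff_ne_top, Ne, Subgroup.subgroupOf_eq_top]
        intro hle
        have := card_le_of_le hle
        rw [hS, hE8] at this
        omega)
      obtain ⟨y, hyN, hyE⟩ := SetLike.exists_of_lt hN
      refine hyE (show (y : G) ∈ E from hh.ge ⟨y.2, Subgroup.mem_normalizer_fintype fun a ha => ?_⟩)
      exact (Subgroup.mem_normalizer_iff.mp hyN ⟨a, hES ha⟩).mp ha
    obtain ⟨i, hi⟩ := (S.2.to_le hPS).exists_card_eq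
    have h3 : 2 ^ 3 < 2 ^ i := by
      rw [← hi, show (2 : ℕ) ^ 3 = 8 by norm_num, ← hE8]
      exact lt_of_le_of_ne (card_le_of_le hEP) fun hh => h2 (eq_of_le_of_card_ge hEP hh.ge)
    have h4 : 2 ^ i < 2 ^ 5 := by
      rw [← hi, show (2 : ℕ) ^ 5 = 32 by norm_num, ← hS]
      exact lt_of_le_of_ne (card_le_of_le hPS) fun hh => h1 (eq_of_le_of_card_ge hPS hh.ge)
    rw [Nat.pow_lt_pow_iff_right (by norm_num)] at h3 h4
    rw [hi, show i = 4 by omega]
    norm_num
  have hPn : ∀ p ∈ P, ∀ a ∈ E, p * a * p⁻¹ ∈ E := fun p hp a ha => (mem_normalizer_iff.mp hp.2 a).mp ha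
  have hselfP : ∀ p ∈ P, (∀ a ∈ E, p * a = a * p) → p ∈ E := fun p hp => hself p (hPS hp)
  have hi : (E.subgroupOf P).index = 2 := by
    have h1 := (E.subgroupOf P).card_mul_index
    rw [Nat.card_congr (subgroupOfEquivOfLe hEP).toEquiv, hE8, hcardP] at h1
    omega
  have hmul : ∀ p ∈ P, ∀ q ∈ P, p ∉ E → q ∉ E → p * q ∈ E := fun p hp q hq hp' hq' =>
    (mul_mem_iff_of_index_two hi (a := ⟨p, hp⟩) (b := ⟨q, hq⟩)).mpr (iff_of_false hp' hq')
  -- an involution outside `E`
  obtain ⟨u, huP, huE, hu2⟩ : ∃ u ∈ P, u ∉ E ∧ u * u = 1 := by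
    by_contra hc
    push Not at hc
    refine hno S hES fun s hs => mem_normalizer_fintype fun a ha => ?_
    have hPi : (P.subgroupOf S).index = 2 := by
      have h1 := (P.subgroupOf S).card_mul_index
      rw [Nat.card_congr (subgroupOfEquivOfLe hPS).toEquiv, hcardP, hS] at h1
      omega
    haveI := normal_of_index_eq_two hPi
    have h1 : s * a * s⁻¹ ∈ P :=
      (inferInstance : (P.subgroupOf S).Normal).conj_mem ⟨a, hPS (hEP ha)⟩ (hEP ha) ⟨s, hs⟩
    by_contra hh
    exact hc _ h1 hh (by rw [show s * a * s⁻¹ * (s * a * s⁻¹) = s * (a * a) * s⁻¹ by group, hE2 a ha]; group)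
  have hmem : ∀ p ∈ P, p ∈ E ∨ p * u ∈ E := fun p hp => (em (p ∈ E)).imp id fun hh => hmul p hp u huP hh huE
  let f : ↥E →* ↥E :=
    { toFun := fun a => ⟨a * (u * a * u⁻¹), mul_mem a.2 (hPn u huP a a.2)⟩
      map_one' := Subtype.ext (by simp)
      map_mul' := fun a b => Subtype.ext (by
        show (a : G) * b * (u * (a * b) * u⁻¹) = a * (u * a * u⁻¹) * (b * (u * b * u⁻¹))
        calc (a : G) * b * (u * (a * b) * u⁻¹) = a * (b * (u * a * u⁻¹)) * (u * b * u⁻¹) := by group
          _ = a * (u * a * u⁻¹ * b) * (u * b * u⁻¹) := by rw [hcomm b b.2 _ (hPn u huP a a.2)]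
          _ = _ := by group) }
  have hker : ∀ a : ↥E, f a = 1 ↔ (a : G) * u = u * a := by
    intro a
    rw [Subtype.ext_iff]
    show (a : G) * (u * a * u⁻¹) = 1 ↔ _
    constructor
    · intro hh
      have h1 := inv_eq_of_mul_eq_one_right hh
      rw [inv_eq_of_mul_eq_one_right (hE2 a a.2)] at h1
      exact (eq_mul_inv_iff_mul_eq.mp h1)
    · intro hh
      rw [← hh, mul_inv_cancel_right]
      exact hE2 a a.2
  have hfix : ∀ a : ↥E, f (f a) = 1 := fun a => (hker _).mpr (by
    show (a : G) * (u * a * u⁻¹) * u = u * (a * (u * a * u⁻¹))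
    have hu' : u⁻¹ = u := inv_eq_of_mul_eq_one_right hu2
    rw [hu']
    calc (a : G) * (u * a * u) * u = a * (u * a) * (u * u) := by group
      _ = a * (u * a) := by rw [hu2, mul_one]
      _ = a * (u * a * u) * u := by rw [mul_assoc (a : G) (u * a * u) u, mul_assoc (u * (a : G)) u u, hu2, mul_one]
      _ = u * a * u * a * u := by rw [hcomm a a.2 _ (by have := hPn u huP a a.2; rwa [hu'] at this)]
      _ = u * (a * (u * a * u)) := by group)
  have hK : Nat.card f.ker = 4 := by
    have h1 := f.ker.card_mul_index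
    rw [index_ker, hE8] at h1
    have h2 : Nat.card f.range ≤ Nat.card f.ker :=
      card_le_of_le (by rintro _ ⟨a, rfl⟩; exact hfix a)
    have h3 : f.ker ≠ ⊤ := fun hh => huE (hselfP u huP fun a ha => ((hker ⟨a, ha⟩).mp
      (show (⟨a, ha⟩ : E) ∈ f.ker from hh ▸ mem_top _)).symm)
    have h4 : Nat.card f.ker < 8 := by
      rw [← hE8]
      exact lt_of_le_of_ne (Subgroup.card_le_card_group _) fun hh => h3 (eq_top_of_card_eq _ hh)
    have h6 : Nat.card f.ker ∣ 2 ^ 3 := ⟨_, h1.symm⟩
    obtain ⟨i, hi, hi'⟩ := (Nat.dvd_prime_pow Nat.prime_two).mp h6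
    rw [hi'] at h1 h2 h4 ⊢
    interval_cases i <;> norm_num at * <;> omega
  obtain ⟨a₀, ha₀⟩ : ∃ a₀ : ↥E, f a₀ ≠ 1 := by
    by_contra hc
    push Not at hc
    have : f.ker = ⊤ := eq_top_iff.mpr fun a _ => hc a
    rw [this, card_top, hE8] at hK
    omega
  set w : ↥E := f a₀ with hwdef
  have hR : ∀ a, f a = 1 ∨ f a = w := by
    intro a
    have h1 := f.ker.card_mul_index
    rw [index_ker, hE8, hK] at h1
    have h2 : Nat.card f.range = 2 := by omega
    obtain ⟨x, y, -, huniv⟩ := Nat.card_eq_two_iff.mp h2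
    have hm : ∀ z : f.range, z = x ∨ z = y := fun z => by
      have := huniv.symm ▸ Set.mem_univ z
      simpa using this
    rcases hm ⟨f a, a, rfl⟩ with e1 | e1 <;> rcases hm ⟨1, one_mem _⟩ with e2 | e2 <;>
      rcases hm ⟨w, a₀, rfl⟩ with e3 | e3
    all_goals
      first
      | exact Or.inl (congrArg Subtype.val (e1.trans e2.symm))
      | exact Or.inr (congrArg Subtype.val (e1.trans e3.symm))
      | exact absurd (congrArg Subtype.val (e3.trans e2.symm)) ha₀
  have hwu : (w : G) * u = u * w := (hker w).mp (hfix a₀)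
  haveI : Fintype f.ker := Fintype.ofFinite _
  have hwk : w ∈ f.ker := hfix a₀
  obtain ⟨d, hd1, hdw⟩ : ∃ d : f.ker, d ≠ 1 ∧ (d : ↥E) ≠ w := by
    by_contra hc
    push Not at hc
    have hle : (Finset.univ : Finset f.ker) ⊆ {1, ⟨w, hwk⟩} := fun x _ => by
      by_cases hx : x = 1
      · simp [hx]
      · refine Finset.mem_insert_of_mem (Finset.mem_singleton.mpr (Subtype.ext ?_))
        exact hc x hx
    have h1 := (Finset.card_le_card hle).trans Finset.card_le_two
    rw [Finset.card_univ, ← Nat.card_eq_fintype_card, hK] at h1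
    omega
  have huniv : ∀ x : f.ker, x = 1 ∨ x = ⟨w, hwk⟩ ∨ x = d ∨ x = d * ⟨w, hwk⟩ := by
    intro x
    have hw1 : (⟨w, hwk⟩ : f.ker) ≠ 1 := fun hh => ha₀ (congrArg Subtype.val hh)
    have hdw' : d ≠ ⟨w, hwk⟩ := fun hh => hdw (congrArg Subtype.val hh)
    have hcardS : ({1, ⟨w, hwk⟩, d, d * ⟨w, hwk⟩} : Finset f.ker).card = 4 := by
      rw [Finset.card_insert_of_notMem, Finset.card_insert_of_notMem, Finset.card_pair]
      · exact fun hh => hw1 (mul_eq_left.mp hh.symm)
      · simp only [Finset.mem_insert, Finset.mem_singleton, not_or]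
        exact ⟨hdw'.symm, fun hh => hd1 (mul_eq_right.mp hh.symm)⟩
      · simp only [Finset.mem_insert, Finset.mem_singleton, not_or]
        refine ⟨hw1.symm, Ne.symm hd1, fun hh => hdw' ?_⟩
        have h2 : (⟨w, hwk⟩ : f.ker) * ⟨w, hwk⟩ = 1 := Subtype.ext (Subtype.ext (hE2 w w.2))
        exact mul_right_cancel (hh.symm.trans h2.symm)
    set T : Finset f.ker := {1, ⟨w, hwk⟩, d, d * ⟨w, hwk⟩} with hT
    have hx : x ∈ T := (Finset.eq_univ_of_card T (by rw [hcardS, ← Nat.card_eq_fintype_card, hK])).symm ▸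
      Finset.mem_univ x
    rw [hT] at hx
    simp only [Finset.mem_insert, Finset.mem_singleton] at hx
    exact hx
  have hau : ∀ a ∈ E, a * u = u * a ∨ a * u = (w : G) * (u * a) := by
    intro a ha
    rcases hR ⟨a, ha⟩ with hh | hh
    · exact Or.inl ((hker _).mp hh)
    · right
      have h1 : a * (u * a * u⁻¹) = (w : G) := congrArg Subtype.val hh
      rw [inv_eq_of_mul_eq_one_right hu2] at h1
      rw [← h1]
      calc a * u = a * u * ((a * a)) := by rw [hE2 a ha, mul_one]
        _ = a * (u * a) * (u * u) * a := by rw [hu2]; group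
        _ = _ := by group
  have hwc : ∀ p ∈ P, p * (w : G) = w * p := fun p hp => by
    rcases hmem p hp with h1 | h1
    · exact hcomm p h1 w w.2
    · have e : p = p * u * u := by rw [mul_assoc, hu2, mul_one]
      rw [e, mul_assoc, ← hwu, ← mul_assoc, hcomm _ h1 w w.2, mul_assoc]
  have hpcomm : ∀ p ∈ P, ∀ q ∈ P, p * q = q * p ∨ p * q = (w : G) * (q * p) := by
    have hw2 : (w : G) * w = 1 := hE2 w w.2
    have hsym : ∀ x y : G, (x * y = y * x ∨ x * y = (w : G) * (y * x)) → (y * x = x * y ∨ y * x = (w : G) * (x * y)) :=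
      fun x y hh => hh.imp Eq.symm fun e => by rw [e, ← mul_assoc, hw2, one_mul]
    have hmul' : ∀ p ∈ P, ∀ x ∈ P, ∀ y : G, (p * x = x * p ∨ p * x = (w : G) * (x * p)) →
        (p * y = y * p ∨ p * y = (w : G) * (y * p)) → (p * (x * y) = x * y * p ∨ p * (x * y) = (w : G) * (x * y * p)) := by
      intro p hp x hx y h1 h2
      have hxw : ∀ v, x * ((w : G) * v) = w * (x * v) := fun v => by rw [← mul_assoc, hwc x hx, mul_assoc]
      rw [← mul_assoc]
      rcases h1 with h1 | h1 <;> rcases h2 with h2 | h2 <;> rw [h1]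
      · left; rw [mul_assoc, h2, mul_assoc]
      · right; rw [mul_assoc, h2, hxw, mul_assoc]
      · right; rw [mul_assoc, mul_assoc, h2, mul_assoc]
      · left; rw [mul_assoc, mul_assoc, h2, hxw, ← mul_assoc (w : G), hw2, one_mul, mul_assoc]
    have hEall : ∀ p ∈ P, ∀ a ∈ E, p * a = a * p ∨ p * a = (w : G) * (a * p) := by
      intro p hp a ha
      apply hsym
      rcases hmem p hp with h1 | h1
      · exact Or.inl (hcomm a ha p h1)
      · have e : p = p * u * u := by rw [mul_assoc, hu2, mul_one]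
        rw [e]
        exact hmul' a (hEP ha) _ (hEP h1) u (Or.inl (hcomm a ha _ h1)) (hau a ha)
    intro p hp q hq
    rcases hmem q hq with h1 | h1
    · exact hEall p hp q h1
    · have e : q = q * u * u := by rw [mul_assoc, hu2, mul_one]
      rw [e]
      refine hmul' p hp _ (hEP h1) u (hEall p hp _ h1) ?_
      rcases hmem p hp with h2 | h2
      · exact hau p h2
      · have e' : p = p * u * u := by rw [mul_assoc, hu2, mul_one]
        rw [e']
        exact hsym _ _ (hmul' u huP _ (hEP h2) u (hsym _ _ (hau _ h2)) (Or.inl rfl))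
  have hpsq : ∀ p ∈ P, p * p = 1 ∨ p * p = (w : G) := by
    intro p hp
    rcases hmem p hp with h1 | h1
    · exact Or.inl (hE2 p h1)
    · have h2 := congrArg (· * p) (mul_inv_cancel_right p u).symm
      rcases hR ⟨_, h1⟩ with hh | hh
      · have := congrArg Subtype.val hh
        left
        rw [inv_eq_of_mul_eq_one_right hu2] at h2
        calc p * p = p * u * (u * (p * u) * u) := by
              rw [show u * (p * u) * u = u * p * (u * u) by group, hu2, mul_one, mul_assoc p, ← mul_assoc u, hu2, one_mul]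
          _ = 1 := by
              have h3 : p * u * (u * (p * u) * u⁻¹) = 1 := this
              rwa [inv_eq_of_mul_eq_one_right hu2] at h3
      · right
        have h3 : p * u * (u * (p * u) * u⁻¹) = (w : G) := congrArg Subtype.val hh
        rw [inv_eq_of_mul_eq_one_right hu2] at h3
        rw [← h3, show u * (p * u) * u = u * p * (u * u) by group, hu2, mul_one, mul_assoc p, ← mul_assoc u, hu2, one_mul]
  have K : Cfg E P u (w : G) ((d : ↥E) : G) :=
    { le := hEP
      comm := hcomm
      sq := hE2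
      cardE := hE8
      card := hcardP
      uP := huP
      uE := huE
      u2 := hu2
      mem := hmem
      wE := w.2
      w1 := fun hh => ha₀ (Subtype.ext hh)
      wu := hwu
      dE := (d : ↥E).2
      du := (hker _).mp d.2
      d1 := fun hh => hd1 (Subtype.ext (Subtype.ext hh))
      dw := fun hh => hdw (Subtype.ext hh)
      four := fun a ha hh => by
        rcases huniv ⟨⟨a, ha⟩, (hker _).mpr hh⟩ with h1 | h1 | h1 | h1
        · exact Or.inl (congrArg (fun x : f.ker => ((x : ↥E) : G)) h1)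
        · exact Or.inr (Or.inl (congrArg (fun x : f.ker => ((x : ↥E) : G)) h1))
        · exact Or.inr (Or.inr (Or.inl (congrArg (fun x : f.ker => ((x : ↥E) : G)) h1)))
        · exact Or.inr (Or.inr (Or.inr (congrArg (fun x : f.ker => ((x : ↥E) : G)) h1)))
      psq := hpsq
      pcomm := hpcomm
      self := hselfP }
  have hnE : ∀ S' : Sylow 2 G, P ≤ (S' : Subgroup G) → ¬ (S' : Subgroup G) ≤ Subgroup.normalizer (E : Set G) :=
    fun S' hS' => hno S' (hEP.trans hS')
  rcases K.fused h S hS hPS (hnE S hPS) hself with ⟨g, hg⟩ | ⟨d', K', hd', g, hg⟩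
  · -- a Sylow subgroup of `C(d)` over `P`
    obtain ⟨-, -, -, hw, -, -⟩ := K.outer S hS hPS (hnE S hPS)
    set C := centralizer ({((d : ↥E) : G)} : Set G) with hC
    have hPC : P ≤ C := fun p hp => mem_centralizer_singleton_iff.mpr (K.central K.dE K.du hp)
    obtain ⟨T, hT⟩ := ((S.2.to_le hPS).of_equiv (subgroupOfEquivOfLe hPC).symm : IsPGroup 2 (P.subgroupOf C)).exists_le_sylow
    have hS'C : (S : Subgroup G).map (MulAut.conj g⁻¹).toMonoidHom ≤ C := by
      rintro _ ⟨y, hy, rfl⟩
      refine mem_centralizer_singleton_iff.mpr ?_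
      show g⁻¹ * y * g⁻¹⁻¹ * _ = _ * (g⁻¹ * y * g⁻¹⁻¹)
      have e : ((d : ↥E) : G) = g⁻¹ * (w : G) * g := by rw [← hg]; group
      rw [e, inv_inv]
      calc g⁻¹ * y * g * (g⁻¹ * (w : G) * g) = g⁻¹ * (y * w) * g := by group
        _ = g⁻¹ * (w * y) * g := by rw [hw y hy]
        _ = g⁻¹ * (w : G) * g * (g⁻¹ * y * g) := by group
    have hT32 : Nat.card ((T : Subgroup C).map C.subtype) = 2 ^ 5 := by
      rw [← Nat.card_congr ((T : Subgroup C).equivMapOfInjective C.subtype C.subtype_injective).toEquiv]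
      obtain ⟨i, hi⟩ := T.2.exists_card_eq
      have hmax : i ≤ 5 := by
        have h1 : IsPGroup 2 ((T : Subgroup C).map C.subtype) := T.2.map C.subtype
        obtain ⟨S', hS'⟩ := h1.exists_le_sylow
        have h2 := card_le_of_le hS'
        rw [← Nat.card_congr ((T : Subgroup C).equivMapOfInjective C.subtype C.subtype_injective).toEquiv, hi,
          S'.card_eq_multiplicity, ← S.card_eq_multiplicity, hS, show (32 : ℕ) = 2 ^ 5 by norm_num,
          Nat.pow_le_pow_iff_right (by norm_num)] at h2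
        exact h2
      have hdvd : 2 ^ 5 ∣ Nat.card C := by
        rw [show (2 : ℕ) ^ 5 = 32 by norm_num, ← hS, ← card_map_conj (S : Subgroup G) g⁻¹]
        exact card_dvd_of_le hS'C
      have := (Nat.pow_dvd_pow_iff_le_right (by norm_num : 1 < 2)).mp (hi ▸ T.pow_dvd_card_of_pow_dvd_card hdvd)
      rw [hi, show i = 5 by omega]
    obtain ⟨S', hS'⟩ := (T.2.map C.subtype).exists_le_sylow
    have hS'32 : Nat.card (S' : Subgroup G) = 32 := by
      rw [S'.card_eq_multiplicity, ← S.card_eq_multiplicity, hS]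
    have hSeq : (S' : Subgroup G) = (T : Subgroup C).map C.subtype :=
      (eq_of_le_of_card_ge hS' (by rw [hT32, hS'32]; norm_num)).symm
    have hPS' : P ≤ (S' : Subgroup G) := fun p hp => hSeq.ge ⟨⟨p, hPC hp⟩, hT hp, rfl⟩
    exact K.burn S' hS'32 hPS' (hnE S' hPS')
      (fun s hs => mem_centralizer_singleton_iff.mp (map_subtype_le _ (hSeq.le hs))) hg
  · exact K'.burn S hS hPS (hnE S hPS) hd' hg

end CfsgLib.LenSeven
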