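import Mathlib

/-!
Non-abelian groups of order 16 with an automorphism of odd order, and small facts on odd automorphisms.
-/

set_option autoImplicit false
set_option linter.style.haveILetI false
set_option linter.unusedSectionVars false

open scoped commutatorElement

namespace CfsgLib.LenSeven

variable {X : Type*} [Group X]

/-- An odd automorphism that moves `q` by a fixed 2-element fixes it. -/
theorem eq_one_of_step (φ : MulAut X) {n : ℕ} (hn : Odd n) (hφ : φ ^ n = 1) {q z : X} (hq : φ q = q * z)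
    (hz : φ z = z) {k : ℕ} (hk : z ^ 2 ^ k = 1) : z = 1 := by
  have h1 : ∀ i : ℕ, (φ ^ i) q = q * z ^ i := by
    intro i
    induction i with
    | zero => simp
    | succ i ih => rw [pow_succ', MulAut.mul_apply, ih, map_mul, hq, map_pow, hz, mul_assoc, ← pow_succ']
  have h2 : z ^ n = 1 := by
    have h := h1 n
    rw [hφ, MulAut.one_apply] at h
    exact mul_eq_left.mp h.symm
  have h3 : orderOf z ∣ Nat.gcd n (2 ^ k) :=
    Nat.dvd_gcd (orderOf_dvd_of_pow_eq_one h2) (orderOf_dvd_of_pow_eq_one hk)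
  rw [(Nat.Coprime.pow_right k (Nat.coprime_two_right.mpr hn)).gcd_eq_one] at h3
  exact orderOf_eq_one_iff.mp (Nat.dvd_one.mp h3)

/-- An odd automorphism that permutes two elements fixes them. -/
theorem fix_of_pair (φ : MulAut X) {n : ℕ} (hn : Odd n) (hφ : φ ^ n = 1) {a b : X} (ha : φ a = a ∨ φ a = b)
    (hb : φ b = a ∨ φ b = b) : φ a = a := by
  rcases ha with ha | ha
  · exact ha
  rcases hb with hb | hb
  · have h1 : ∀ i : ℕ, (φ ^ (2 * i)) a = a := by
      intro i
      induction i with
      | zero => simp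
      | succ i ih => rw [show 2 * (i + 1) = 2 * i + 1 + 1 by ring, pow_succ, pow_succ, MulAut.mul_apply,
          MulAut.mul_apply, ha, hb, ih]
    obtain ⟨m, rfl⟩ := hn
    have h2 : (φ ^ (2 * m + 1)) a = φ a := by rw [pow_succ', MulAut.mul_apply, h1 m]
    rw [hφ, MulAut.one_apply] at h2
    exact h2.symm
  · obtain rfl : a = b := φ.injective (ha.trans hb.symm)
    exact hb

/-- If the square of an odd automorphism fixes `q`, so does the automorphism. -/
theorem fix_of_sq (φ : MulAut X) {n : ℕ} (hn : Odd n) (hφ : φ ^ n = 1) {q : X} (h : φ (φ q) = q) : φ q = q :=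
  fix_of_pair φ hn hφ (b := φ q) (Or.inr rfl) (Or.inl h)

/-- An odd automorphism of a group of order 16 with centre of order 2 is trivial. -/
theorem aut_eq_one_of_small_center [Finite X] (hX : Nat.card X = 16)
    (hZ2 : Nat.card (Subgroup.center X) = 2) (φ : MulAut X) {n : ℕ} (hn : Odd n) (hφn : φ ^ n = 1) : φ = 1 := by
  classical
  haveI : Fact (Nat.Prime 2) := ⟨Nat.prime_two⟩
  obtain ⟨⟨u, huZ⟩, hu1, hall⟩ : ∃ u : Subgroup.center X, u ≠ 1 ∧ ∀ z, z = 1 ∨ z = u := by
    obtain ⟨x, y, hxy, huniv⟩ := Nat.card_eq_two_iff.mp hZ2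
    have hm : ∀ z : Subgroup.center X, z = x ∨ z = y := fun z => by
      have := huniv.symm ▸ Set.mem_univ z
      simpa using this
    rcases eq_or_ne x 1 with rfl | hx
    · exact ⟨y, fun e => hxy e.symm, hm⟩
    · refine ⟨x, hx, fun z => ?_⟩
      rcases hm 1 with e | e
      · exact absurd e.symm hx
      · exact (hm z).symm.imp (fun h => h.trans e.symm) id
  have hu : ∀ z ∈ Subgroup.center X, z = 1 ∨ z = u := fun z hz => by
    rcases hall ⟨z, hz⟩ with e | e <;> [left; right] <;> simpa using congrArg Subtype.val e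
  have huc : ∀ q, q * u = u * q := fun q => Subgroup.mem_center_iff.mp huZ q
  have hp : IsPGroup 2 X := IsPGroup.of_card (n := 4) (by rw [hX]; norm_num)
  set π := QuotientGroup.mk' (Subgroup.center X) with hπ
  haveI : Nontrivial (X ⧸ Subgroup.center X) := by
    rw [← Finite.one_lt_card_iff_nontrivial]
    have := (Subgroup.center X).card_mul_index
    rw [hZ2, hX, Subgroup.index_eq_card] at this
    omega
  haveI := (hp.to_quotient (Subgroup.center X)).center_nontrivial
  obtain ⟨⟨gb, hgb⟩, hgb1⟩ := exists_ne (1 : Subgroup.center (X ⧸ Subgroup.center X))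
  obtain ⟨g, rfl⟩ := QuotientGroup.mk'_surjective _ gb
  have hgZ : g ∉ Subgroup.center X := fun hh => hgb1 (Subtype.ext ((QuotientGroup.eq_one_iff g).mpr hh))
  have hconj : ∀ q, q * g = g * q ∨ q * g = g * q * u := fun q => by
    have h1 : (g * q)⁻¹ * (q * g) ∈ Subgroup.center X :=
      QuotientGroup.eq.mp (Subgroup.mem_center_iff.mp hgb (π q)).symm
    rcases hu _ h1 with e | e
    · exact Or.inl (inv_mul_eq_one.mp e).symm
    · exact Or.inr (inv_mul_eq_iff_eq_mul.mp e)
  set A := Subgroup.centralizer ({g} : Set X) with hA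
  have hmA : ∀ q, q ∈ A ↔ q * g = g * q := fun q => Subgroup.mem_centralizer_singleton_iff
  obtain ⟨t, ht⟩ : ∃ t, t ∉ A := by
    by_contra hc
    push Not at hc
    exact hgZ (Subgroup.mem_center_iff.mpr fun q => (hmA q).mp (hc q))
  have hdiff : ∀ q, q ∉ A → t⁻¹ * q ∈ A := fun q hq => by
    have e1 := (hconj t).resolve_left fun h => ht ((hmA t).mpr h)
    have e2 := (hconj q).resolve_left fun h => hq ((hmA q).mpr h)
    rw [hmA]
    apply mul_left_cancel (a := t)
    rw [← mul_assoc, ← mul_assoc, mul_inv_cancel, one_mul, e2]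
    calc g * q * u = g * (q * u) := mul_assoc _ _ _
      _ = g * (t * (t⁻¹ * (q * u))) := by rw [mul_inv_cancel_left]
      _ = g * t * (u * (t⁻¹ * q)) := by rw [huc q, ← mul_assoc t⁻¹, huc t⁻¹, mul_assoc u]; group
      _ = g * t * u * (t⁻¹ * q) := by group
      _ = t * g * (t⁻¹ * q) := by rw [e1]
      _ = t * (g * (t⁻¹ * q)) := mul_assoc _ _ _
  have hcard : Nat.card A = 8 := by
    have h2 : A.index = 2 := Subgroup.index_eq_two_iff'.mpr ⟨t⁻¹, fun q => by
      by_cases hq : q ∈ A
      · refine Or.inr ⟨hq, fun hh => ht ?_⟩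
        simpa using mul_mem hq (inv_mem hh)
      · exact Or.inl ⟨hdiff q hq, hq⟩⟩
    have := A.card_mul_index
    rw [h2, hX] at this
    omega
  have hdec : ∀ q, q ∈ A ∨ ∃ c ∈ A, q = t * c := fun q =>
    (em (q ∈ A)).imp id fun hq => ⟨_, hdiff q hq, (mul_inv_cancel_left t q).symm⟩
  -- `A` is commutative
  have hAc : ∀ c ∈ A, ∀ d ∈ A, c * d = d * c := by
    set C := Subgroup.center A with hC
    have hgA : g ∈ A := (hmA g).mpr rfl
    have huA : u ∈ A := (hmA u).mpr (huc g).symm
    have h3 : 3 ≤ Nat.card C := by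
      have hg : (⟨g, hgA⟩ : A) ∈ C := Subgroup.mem_center_iff.mpr fun c => Subtype.ext ((hmA c).mp c.2)
      have hu' : (⟨u, huA⟩ : A) ∈ C := Subgroup.mem_center_iff.mpr fun c => Subtype.ext (huc c)
      have hgu : g ≠ u := fun e => hgZ (e ▸ huZ)
      have hg1 : g ≠ 1 := fun e => hgZ (e ▸ one_mem _)
      have hu0 : u ≠ 1 := fun e => hu1 (Subtype.ext e)
      haveI := Fintype.ofFinite C
      have hle := Finset.card_le_univ ({1, ⟨_, hg⟩, ⟨_, hu'⟩} : Finset C)
      rw [Finset.card_insert_of_notMem (by simp [Subtype.ext_iff, hg1.symm, hu0.symm]),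
        Finset.card_insert_of_notMem (by simp [Subtype.ext_iff, hgu]), Finset.card_singleton,
        ← Nat.card_eq_fintype_card] at hle
      omega
    have hAp := hp.to_subgroup A
    obtain ⟨j, hj⟩ := (hAp.to_subgroup C).exists_card_eq
    have hci := C.card_mul_index
    rw [hj, hcard] at hci
    have hcyc : IsCyclic (A ⧸ C) := by
      rw [Subgroup.index_eq_card] at hci
      rcases j with - | - | - | - | j
      · rw [hj] at h3; norm_num at h3
      · rw [hj] at h3; norm_num at h3
      · haveI := Fact.mk Nat.prime_two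
        exact isCyclic_of_prime_card (p := 2) (by norm_num at hci; omega)
      · haveI : Subsingleton (A ⧸ C) := (Nat.card_eq_one_iff_unique.mp (by norm_num at hci; omega)).1
        infer_instance
      · have : 2 ^ 4 ≤ 2 ^ (j + 1 + 1 + 1 + 1) := Nat.pow_le_pow_right two_pos (by omega)
        have hpos : 0 < Nat.card (A ⧸ C) := Nat.card_pos
        nlinarith
    intro c hc d hd
    exact congrArg Subtype.val
      (commutative_of_cyclic_center_quotient (QuotientGroup.mk' C) (by rw [QuotientGroup.ker_mk']) ⟨c, hc⟩ ⟨d, hd⟩)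
  -- the automorphism preserves `A`
  have hcenA : ∀ c ∈ A, c * t = t * c → c ∈ Subgroup.center X := fun c hc hct =>
    Subgroup.mem_center_iff.mpr fun q => by
      rcases hdec q with hq | ⟨d, hd, rfl⟩
      · exact hAc q hq c hc
      · rw [mul_assoc, hAc d hd c hc, ← mul_assoc, ← hct, mul_assoc]
  have hφA : ∀ c ∈ A, φ c ∈ A := by
    intro c hc
    by_contra hc'
    set B := A.map φ.toMonoidHom with hB
    have hBc : ∀ x ∈ B, ∀ y ∈ B, x * y = y * x := by
      rintro _ ⟨x, hx, rfl⟩ _ ⟨y, hy, rfl⟩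
      rw [← map_mul, ← map_mul, hAc x hx y hy]
    have hB8 : Nat.card B = 8 := by
      rw [← hcard]
      exact (Nat.card_congr (A.equivMapOfInjective φ.toMonoidHom φ.injective).toEquiv).symm
    obtain ⟨d, hd, hdq⟩ := (hdec (φ c)).resolve_left hc'
    have hsub : A ⊓ B ≤ Subgroup.center X := fun x hx => hcenA x hx.1 (by
      have h1 := hBc x hx.2 (φ c) ⟨c, hc, rfl⟩
      rw [hdq, ← mul_assoc, mul_assoc t, hAc d hd x hx.1, ← mul_assoc] at h1
      exact mul_right_cancel h1)
    have h4 : 4 ≤ Nat.card ↥(A ⊓ B) := by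
      have h1 : A.index = 2 := by
        have := A.card_mul_index
        rw [hcard, hX] at this
        omega
      haveI : A.Normal := Subgroup.normal_of_index_eq_two h1
      have h2 : A.relIndex B ≤ 2 := Nat.le_of_dvd two_pos (h1 ▸ A.relIndex_dvd_index_of_normal B)
      have h3 := (A.subgroupOf B).card_mul_index
      rw [Nat.card_congr ((Subgroup.inf_subgroupOf_right A B).symm ▸
        Subgroup.subgroupOfEquivOfLe (inf_le_right : A ⊓ B ≤ B)).toEquiv, hB8] at h3
      change _ * A.relIndex B = 8 at h3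
      nlinarith
    have := Subgroup.card_le_of_le hsub
    omega
  have hφu : φ u = u := by
    have h1 : φ u ∈ Subgroup.center X := Subgroup.mem_center_iff.mpr fun q => by
      conv_lhs => rw [← φ.apply_symm_apply q]
      rw [← map_mul, huc, map_mul, φ.apply_symm_apply]
    exact (hu _ h1).resolve_left fun e => hu1 (Subtype.ext (φ.injective (e.trans (map_one φ).symm)))
  -- the part of `A` inverted by `t`
  have htn : ∀ c ∈ A, t * c * t⁻¹ ∈ A := fun c hc => by
    rw [hmA]
    by_contra hne
    have : t * c * t⁻¹ ∉ A := fun hh => hne ((hmA _).mp hh)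
    have h1 := hdiff _ this
    rw [show t⁻¹ * (t * c * t⁻¹) = c * t⁻¹ by group] at h1
    exact ht (by simpa using inv_mem (show t⁻¹ ∈ A by simpa using mul_mem (inv_mem hc) h1))
  have htt : t * t ∈ A := by
    by_contra hh
    exact ht (by simpa using hdiff _ hh)
  have hfix : ∀ c ∈ A, t * c * t⁻¹ * c ∈ Subgroup.center X := fun c hc => by
    refine hcenA _ (mul_mem (htn c hc) hc) ?_
    calc t * c * t⁻¹ * c * t = t * c * t⁻¹ * (c * (t * t)) * t⁻¹ := by group
      _ = t * c * t⁻¹ * (t * t * c) * t⁻¹ := by rw [hAc c hc _ htt]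
      _ = t * (c * (t * c * t⁻¹)) := by group
      _ = t * (t * c * t⁻¹ * c) := by rw [hAc c hc _ (htn c hc)]
  have hK : ∀ m : ℕ, ∀ c ∈ A, t * c * t⁻¹ * c = 1 → c ^ 2 ^ m = 1 → φ c = c := by
    intro m
    induction m with
    | zero => intro c _ _ h; rw [pow_zero, pow_one] at h; rw [h, map_one]
    | succ m ih =>
      intro c hc hcK hcp
      have h2 : φ (c * c) = c * c := ih _ (mul_mem hc hc) (by
        calc t * (c * c) * t⁻¹ * (c * c) = t * c * t⁻¹ * (t * c * t⁻¹ * c) * c := by group
          _ = 1 := by rw [hcK, mul_one, hcK]) (by rw [← pow_two, ← pow_mul, ← pow_succ']; exact hcp)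
      set z := c⁻¹ * φ c with hz
      have hzA : z ∈ A := mul_mem (inv_mem hc) (hφA c hc)
      have hz2 : z * z = 1 := by
        rw [hz]
        calc c⁻¹ * φ c * (c⁻¹ * φ c) = c⁻¹ * (φ c * c⁻¹) * φ c := by group
          _ = c⁻¹ * (c⁻¹ * φ c) * φ c := by rw [hAc _ (hφA c hc) _ (inv_mem hc)]
          _ = (c * c)⁻¹ * (φ c * φ c) := by group
          _ = 1 := by rw [← map_mul, h2, inv_mul_cancel]
      -- `φ` commutes with the action of `t` on `A`
      have hzK : t * z * t⁻¹ * z = 1 := by
        have hcK' : t * φ c * t⁻¹ * φ c = 1 := by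
          have h1 : φ t ∉ A := fun hh => ht (by
            obtain ⟨s, hs, e⟩ : ∃ s ∈ A, φ s = φ t := by
              have hsur : A.map φ.toMonoidHom = A := Subgroup.eq_of_le_of_card_ge
                (Subgroup.map_le_iff_le_comap.mpr hφA)
                (Nat.card_congr (A.equivMapOfInjective φ.toMonoidHom φ.injective).toEquiv).le
              exact hsur.symm.le hh
            exact φ.injective e ▸ hs)
          obtain ⟨d, hd, hdq⟩ := (hdec (φ t)).resolve_left h1
          have h2 := congrArg φ hcK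
          rw [map_one, map_mul, map_mul, map_mul, map_inv, hdq] at h2
          calc t * φ c * t⁻¹ * φ c = t * (φ c * (d * d⁻¹)) * t⁻¹ * φ c := by group
            _ = t * (d * φ c * d⁻¹) * t⁻¹ * φ c := by rw [← mul_assoc (φ c), hAc _ (hφA c hc) d hd]
            _ = t * d * φ c * (t * d)⁻¹ * φ c := by group
            _ = 1 := h2
        calc t * z * t⁻¹ * z = t * c⁻¹ * t⁻¹ * (t * φ c * t⁻¹ * (c⁻¹ * φ c)) := by rw [hz]; group
          _ = t * c⁻¹ * t⁻¹ * (t * φ c * t⁻¹ * (φ c * c⁻¹)) := by rw [hAc _ (inv_mem hc) _ (hφA c hc)]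
          _ = t * c⁻¹ * t⁻¹ * (t * φ c * t⁻¹ * φ c) * c⁻¹ := by group
          _ = (c * (t * c * t⁻¹))⁻¹ := by rw [hcK']; group
          _ = 1 := by rw [hAc c hc _ (htn c hc), hcK, inv_one]
      have hzc : z ∈ Subgroup.center X := hcenA z hzA (by
        have hzi : z⁻¹ = z := inv_eq_of_mul_eq_one_right hz2
        have := eq_inv_of_mul_eq_one_left hzK
        rw [hzi] at this
        exact (mul_inv_eq_iff_eq_mul.mp this).symm)
      have hzf : φ z = z := by rcases hu z hzc with e | e <;> rw [e] <;> first | exact map_one φ | exact hφu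
      have := eq_one_of_step φ hn hφn (q := c) (z := z) (mul_inv_cancel_left c _).symm hzf (k := 1)
        (by rw [pow_one, pow_two, hz2])
      exact (inv_mul_eq_one.mp this).symm
  have h8 : ∀ c ∈ A, c ^ 2 ^ 3 = 1 := fun c hc => by
    have : (⟨c, hc⟩ : A) ^ Nat.card A = 1 := pow_card_eq_one'
    rw [hcard] at this
    exact congrArg Subtype.val this
  have hAfix : ∀ c ∈ A, φ c = c := by
    intro c hc
    by_cases hcK : t * c * t⁻¹ * c = 1
    · exact hK 3 c hc hcK (h8 c hc)
    have hcu := (hu _ (hfix c hc)).resolve_left hcK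
    set z := c⁻¹ * φ c with hz
    have hzA : z ∈ A := mul_mem (inv_mem hc) (hφA c hc)
    by_cases hφK : t * φ c * t⁻¹ * φ c = 1
    · exfalso
      have h1 := hK 3 _ (hφA c hc) hφK (h8 _ (hφA c hc))
      exact hcK (φ.injective h1 ▸ hφK)
    have hφu' := (hu _ (hfix _ (hφA c hc))).resolve_left hφK
    have hzK : t * z * t⁻¹ * z = 1 := by
      calc t * z * t⁻¹ * z = t * c⁻¹ * t⁻¹ * (t * φ c * t⁻¹ * (c⁻¹ * φ c)) := by rw [hz]; group
        _ = t * c⁻¹ * t⁻¹ * (t * φ c * t⁻¹ * (φ c * c⁻¹)) := by rw [hAc _ (inv_mem hc) _ (hφA c hc)]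
        _ = t * c⁻¹ * t⁻¹ * (t * φ c * t⁻¹ * φ c) * c⁻¹ := by group
        _ = (t * c * t⁻¹)⁻¹ * u * c⁻¹ := by rw [hφu']; group
        _ = (t * c * t⁻¹)⁻¹ * (u * c⁻¹) := mul_assoc _ _ _
        _ = (t * c * t⁻¹)⁻¹ * (c⁻¹ * u) := by rw [huc]
        _ = (c * (t * c * t⁻¹))⁻¹ * u := by group
        _ = 1 := by rw [hAc c hc _ (htn c hc), hcu, inv_mul_cancel]
    have := eq_one_of_step φ hn hφn (q := c) (z := z) (mul_inv_cancel_left c _).symm (hK 3 z hzA hzK (h8 z hzA))
      (h8 z hzA)
    exact (inv_mul_eq_one.mp this).symm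
  refine MulEquiv.ext fun q => ?_
  have hφt : φ t = t := by
    have h1 : φ t ∉ A := fun hh => ht (by
      have := hAfix _ hh
      exact φ.injective this ▸ hh)
    obtain ⟨d, hd, hdq⟩ := (hdec (φ t)).resolve_left h1
    have := eq_one_of_step φ hn hφn hdq (hAfix d hd) (h8 d hd)
    rw [hdq, this, mul_one]
  show φ q = q
  rcases hdec q with hq | ⟨d, hd, rfl⟩
  · exact hAfix q hq
  · rw [map_mul, hφt, hAfix d hd]

/-- Shape of a non-abelian group of order 16 with a non-trivial automorphism of odd order. -/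
theorem squares_of_odd_aut [Finite X] (hX : Nat.card X = 16) (hna : ¬ ∀ a b : X, a * b = b * a) (φ : MulAut X)
    {n : ℕ} (hn : Odd n) (hφn : φ ^ n = 1) (hφ : φ ≠ 1) :
    ∃ u : X, u ≠ 1 ∧ u * u = 1 ∧ (∀ q, q * q = 1 ∨ q * q = u) ∧ (∀ ψ : MulAut X, ψ u = u) ∧
      ¬ ∃ R : Subgroup X, Nat.card R = 8 ∧ ∀ r ∈ R, r * r = 1 := by
  classical
  haveI : Fact (Nat.Prime 2) := ⟨Nat.prime_two⟩
  have hp : IsPGroup 2 X := IsPGroup.of_card (n := 4) (by rw [hX]; norm_num)
  set Z := Subgroup.center X with hZ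
  obtain ⟨k, hk⟩ := (hp.to_subgroup Z).exists_card_eq
  have hk1 : 1 ≤ k := by
    haveI : Nontrivial X := Finite.one_lt_card_iff_nontrivial.mp (by omega)
    have := Finite.one_lt_card_iff_nontrivial.mpr hp.center_nontrivial
    rw [← hZ, hk] at this
    exact Nat.pos_of_ne_zero fun e => by simp [e] at this
  have hidx := Z.card_mul_index
  rw [hk, hX] at hidx
  have hncyc : ¬ IsCyclic (X ⧸ Z) := fun hc => hna fun a b => by
    exact commutative_of_cyclic_center_quotient (QuotientGroup.mk' Z) (by rw [QuotientGroup.ker_mk']) a b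
  obtain rfl : k = 2 := by
    rcases k with - | - | - | k
    · omega
    · exact absurd (aut_eq_one_of_small_center hX (by rw [← hZ, hk, pow_one]) φ hn hφn) hφ
    · rfl
    · exfalso
      rw [Subgroup.index_eq_card] at hidx
      have h8 : 8 ≤ 2 ^ (k + 1 + 1 + 1) := le_trans (by norm_num) (Nat.pow_le_pow_right two_pos (show 3 ≤ k + 3 by omega))
      have h2 : Nat.card (X ⧸ Z) ≤ 2 := by nlinarith
      have h3 : 0 < Nat.card (X ⧸ Z) := Nat.card_pos
      rcases (show Nat.card (X ⧸ Z) = 1 ∨ Nat.card (X ⧸ Z) = 2 by omega) with h | h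
      · haveI := (Nat.card_eq_one_iff_unique.mp h).1
        exact hncyc inferInstance
      · exact hncyc (isCyclic_of_prime_card h)
  rw [Subgroup.index_eq_card] at hidx
  have hQ4 : Nat.card (X ⧸ Z) = 4 := by omega
  haveI : Fintype (X ⧸ Z) := Fintype.ofFinite _
  set π := QuotientGroup.mk' Z with hπ
  have hsq : ∀ q : X, q * q ∈ Z := by
    intro q
    rw [← QuotientGroup.eq_one_iff]
    show π (q * q) = 1
    have h4 : orderOf (π q) ∣ 2 ^ 2 := by
      have := orderOf_dvd_natCard (π q)
      rwa [hQ4] at this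
    obtain ⟨i, hi, he⟩ := (Nat.dvd_prime_pow Nat.prime_two).mp h4
    have hi1 : i ≤ 1 := by
      by_contra hi'
      obtain rfl : i = 2 := by omega
      exact hncyc (isCyclic_of_orderOf_eq_card (π q) (by rw [he, hQ4]; norm_num))
    rw [map_mul, ← pow_two]
    refine orderOf_dvd_iff_pow_eq_one.mp (he ▸ ?_)
    rcases (show i = 0 ∨ i = 1 by omega) with rfl | rfl <;> norm_num
  have hZc : ∀ z ∈ Z, ∀ q, q * z = z * q := fun z hz => Subgroup.mem_center_iff.mp hz
  -- four cosets
  have hgen : ∀ a b : X, a * b ≠ b * a → ∀ q, q ∈ Z ∨ a⁻¹ * q ∈ Z ∨ b⁻¹ * q ∈ Z ∨ (a * b)⁻¹ * q ∈ Z := by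
    intro a b hab q
    have ha : a ∉ Z := fun h => hab (hZc a h b).symm
    have hb : b ∉ Z := fun h => hab (hZc b h a)
    have hab' : a⁻¹ * b ∉ Z := fun h => hab (by
      have := hZc _ h a
      rw [mul_inv_cancel_left, mul_assoc] at this
      have h2 := congrArg (a * ·) this
      simp only [mul_inv_cancel_left] at h2
      exact h2)
    have e1 : π a ≠ 1 := fun e => ha ((QuotientGroup.eq_one_iff a).mp e)
    have e2 : π b ≠ 1 := fun e => hb ((QuotientGroup.eq_one_iff b).mp e)
    have e3 : π a ≠ π b := fun e => hab' (QuotientGroup.eq.mp e)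
    have e4 : π a * π b ≠ 1 := fun e => by
      have h2 : π a * π a = 1 := by rw [← map_mul]; exact (QuotientGroup.eq_one_iff _).mpr (hsq a)
      exact e3 (mul_left_cancel (h2.trans e.symm))
    have huniv : ({1, π a, π b, π a * π b} : Finset (X ⧸ Z)) = Finset.univ := by
      refine Finset.eq_univ_of_card _ ?_
      rw [← Nat.card_eq_fintype_card, hQ4, Finset.card_insert_of_notMem (by simp [e1.symm, e2.symm, e4.symm]),
        Finset.card_insert_of_notMem (by simp [e3, e2]), Finset.card_pair (by simp [e1])]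
    have hm : π q ∈ ({1, π a, π b, π a * π b} : Finset (X ⧸ Z)) := huniv ▸ Finset.mem_univ _
    simp only [Finset.mem_insert, Finset.mem_singleton] at hm
    rcases hm with e | e | e | e
    · exact Or.inl ((QuotientGroup.eq_one_iff q).mp e)
    · exact Or.inr (Or.inl (QuotientGroup.eq.mp e.symm))
    · exact Or.inr (Or.inr (Or.inl (QuotientGroup.eq.mp e.symm)))
    · exact Or.inr (Or.inr (Or.inr (QuotientGroup.eq.mp (e.trans (map_mul π a b).symm).symm)))
  -- the commutator
  obtain ⟨a₀, b₀, h₀⟩ : ∃ a b : X, a * b ≠ b * a := by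
    by_contra hc
    push Not at hc
    exact hna hc
  obtain ⟨u, hu⟩ : ∃ u : X, u = a₀ * b₀ * a₀⁻¹ * b₀⁻¹ := ⟨_, rfl⟩
  have hab : a₀ * b₀ = u * (b₀ * a₀) := by rw [hu]; group
  have huZ : u ∈ Z := by
    have e : u = (a₀ * a₀) * (a₀⁻¹ * b₀ * (a₀⁻¹ * b₀)) * (b₀⁻¹ * b₀⁻¹) := by rw [hu]; group
    rw [e]
    exact mul_mem (mul_mem (hsq a₀) (hsq _)) (hsq _)
  have hu1 : u ≠ 1 := fun e => h₀ (by rw [hab, e, one_mul])
  have huu : u * u = 1 := by
    have h1 := hZc _ (hsq a₀) b₀
    have h2 : a₀ * a₀ * b₀ = u * u * (b₀ * (a₀ * a₀)) := by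
      calc a₀ * a₀ * b₀ = a₀ * (a₀ * b₀) := mul_assoc _ _ _
        _ = a₀ * u * (b₀ * a₀) := by rw [hab, ← mul_assoc]
        _ = u * (a₀ * b₀) * a₀ := by rw [hZc u huZ]; group
        _ = _ := by rw [hab]; group
    rw [← h1] at h2
    exact mul_eq_right.mp h2.symm
  have hui : u⁻¹ = u := inv_eq_of_mul_eq_one_right huu
  have hba : b₀ * a₀ = u * (a₀ * b₀) := by rw [hab, ← mul_assoc, huu, one_mul]
  have hclose : ∀ p q q' : X, (p * q = q * p ∨ p * q = u * (q * p)) → (p * q' = q' * p ∨ p * q' = u * (q' * p)) →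
      (p * (q * q') = q * q' * p ∨ p * (q * q') = u * (q * q' * p)) := by
    intro p q q' h h'
    have hq : ∀ w, q * (u * w) = u * (q * w) := fun w => by rw [← mul_assoc, hZc u huZ q, mul_assoc]
    rw [← mul_assoc]
    rcases h with h | h <;> rcases h' with h' | h' <;> rw [h]
    · left; rw [mul_assoc, h', mul_assoc]
    · right; rw [mul_assoc, h', hq, mul_assoc]
    · right; rw [mul_assoc, mul_assoc, h', mul_assoc]
    · left; rw [mul_assoc, mul_assoc, h', hq, ← mul_assoc u, huu, one_mul, mul_assoc]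
  have hgenall : ∀ P : X → Prop, (∀ z ∈ Z, P z) → P a₀ → P b₀ → (∀ q q', P q → P q' → P (q * q')) → ∀ q, P q := by
    intro P hz ha hb hm q
    rcases hgen a₀ b₀ h₀ q with h | h | h | h
    · exact hz q h
    · have := hm _ _ ha (hz _ h); rwa [mul_inv_cancel_left] at this
    · have := hm _ _ hb (hz _ h); rwa [mul_inv_cancel_left] at this
    · have := hm _ _ (hm _ _ ha hb) (hz _ h); rwa [mul_inv_cancel_left] at this
  have hsymm : ∀ p q : X, (p * q = q * p ∨ p * q = u * (q * p)) → (q * p = p * q ∨ q * p = u * (p * q)) :=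
    fun p q h => h.imp Eq.symm fun e => by rw [e, ← mul_assoc, huu, one_mul]
  have hcomm : ∀ p q : X, p * q = q * p ∨ p * q = u * (q * p) := by
    have hA : ∀ q, a₀ * q = q * a₀ ∨ a₀ * q = u * (q * a₀) :=
      hgenall _ (fun z hz => Or.inl (hZc z hz a₀)) (Or.inl rfl) (Or.inr hab) (hclose a₀)
    have hB : ∀ q, b₀ * q = q * b₀ ∨ b₀ * q = u * (q * b₀) :=
      hgenall _ (fun z hz => Or.inl (hZc z hz b₀)) (Or.inr hba) (Or.inl rfl) (hclose b₀)
    intro p q
    refine hgenall (fun p => p * q = q * p ∨ p * q = u * (q * p)) (fun z hz => Or.inl (hZc z hz q).symm)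
      (hA q) (hB q) (fun r r' hr hr' => hsymm _ _ (hclose q r r' (hsymm _ _ hr) (hsymm _ _ hr'))) p
  have hψ : ∀ ψ : MulAut X, ψ u = u := by
    intro ψ
    have h1 := congrArg ψ hab
    rw [map_mul, map_mul, map_mul] at h1
    rcases hcomm (ψ a₀) (ψ b₀) with e | e
    · exfalso
      rw [e] at h1
      exact hu1 (ψ.injective (by rw [map_one]; exact mul_eq_right.mp h1.symm))
    · exact mul_right_cancel (h1.symm.trans e)
  -- squares in the centre
  haveI : Fintype Z := Fintype.ofFinite _
  have hZsq : ∀ z ∈ Z, z * z = 1 ∨ z * z = u := by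
    intro z hz
    by_contra hc
    push Not at hc
    have hzu : z * u = u * z := hZc u huZ z
    have h4 : z * z * (z * z) = 1 := by
      have h : (⟨z, hz⟩ : Z) ^ Nat.card Z = 1 := pow_card_eq_one'
      rw [hk] at h
      have h' := congrArg Subtype.val h
      simpa [pow_succ, mul_assoc] using h'
    have e1 : z * z * u ≠ 1 := fun e => hc.2 (by rw [← hui]; exact eq_inv_of_mul_eq_one_left e)
    have e2 : z ≠ 1 := fun e => hc.1 (by rw [e, mul_one])
    have e3 : z ≠ u := fun e => hc.1 (by rw [e, huu])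
    have e4 : z ≠ z * z := fun e => e2 (mul_eq_left.mp e.symm)
    have e5 : z ≠ z * z * u := fun e => by
      have : z * u = 1 := mul_left_cancel (a := z) (by rw [mul_one, ← mul_assoc]; exact e.symm)
      exact e3 (by rw [← hui]; exact eq_inv_of_mul_eq_one_left this)
    have hz2 : z * z ∈ Z := mul_mem hz hz
    have hle := Finset.card_le_univ ({1, ⟨u, huZ⟩, ⟨z * z, hz2⟩, ⟨z * z * u, mul_mem hz2 huZ⟩, ⟨z, hz⟩} : Finset Z)
    rw [Finset.card_insert_of_notMem (by simp [Subtype.ext_iff, hu1.symm, e1.symm, e2.symm, Ne.symm hc.1]),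
      Finset.card_insert_of_notMem (by simp [Subtype.ext_iff, Ne.symm hc.2, Ne.symm e3, hc.1]),
      Finset.card_insert_of_notMem (by simp [Subtype.ext_iff, hu1, e4.symm]),
      Finset.card_insert_of_notMem (by simp [Subtype.ext_iff, e5.symm]), Finset.card_singleton,
      ← Nat.card_eq_fintype_card, hk] at hle
    norm_num at hle
  -- `φ` fixes the centre
  have hφZ : ∀ q, φ q ∈ Z ↔ q ∈ Z := fun q => by
    refine ⟨fun h => Subgroup.mem_center_iff.mpr fun r => φ.injective ?_,
      fun h => Subgroup.mem_center_iff.mpr fun r => ?_⟩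
    · rw [map_mul, map_mul, hZc _ h]
    · conv_lhs => rw [← φ.apply_symm_apply r]
      rw [← map_mul, hZc q h, map_mul, φ.apply_symm_apply]
  have hfixZ : ∀ z ∈ Z, φ z = z := by
    intro z hz
    by_cases h1 : z = 1
    · rw [h1, map_one]
    by_cases h2 : z = u
    · rw [h2, hψ]
    have h3 : φ z = z ∨ φ z = z * u := by
      by_contra hc
      push Not at hc
      have hle := Finset.card_le_univ ({1, ⟨u, huZ⟩, ⟨z, hz⟩, ⟨z * u, mul_mem hz huZ⟩, ⟨φ z, (hφZ z).mpr hz⟩} : Finset Z)
      have e1 : z * u ≠ 1 := fun e => h2 (by rw [← hui]; exact eq_inv_of_mul_eq_one_left e)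
      have e2 : φ z ≠ 1 := fun e => h1 (φ.injective (e.trans (map_one φ).symm))
      have e3 : φ z ≠ u := fun e => h2 (φ.injective (e.trans (hψ φ).symm))
      rw [Finset.card_insert_of_notMem (by simp [Subtype.ext_iff, hu1.symm, e1.symm, e2.symm, Ne.symm h1]),
        Finset.card_insert_of_notMem (by simp [Subtype.ext_iff, e3.symm, Ne.symm h2, h1]),
        Finset.card_insert_of_notMem (by simp [Subtype.ext_iff, hu1, hc.1.symm]),
        Finset.card_insert_of_notMem (by simp [Subtype.ext_iff, hc.2.symm]), Finset.card_singleton,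
        ← Nat.card_eq_fintype_card, hk] at hle
      norm_num at hle
    refine fix_of_pair φ hn hφn h3 ?_
    rw [map_mul, hψ]
    rcases h3 with e | e
    · exact Or.inr (by rw [e])
    · exact Or.inl (by rw [e, mul_assoc, huu, mul_one])
  have hz4 : ∀ z ∈ Z, z ^ 2 ^ 2 = 1 := fun z hz => by
    have h : (⟨z, hz⟩ : Z) ^ Nat.card Z = 1 := pow_card_eq_one'
    rw [hk] at h
    exact congrArg Subtype.val h
  have hmove : ∀ q, q ∉ Z → q⁻¹ * φ q ∉ Z := by
    intro q hq hz
    have hqf : φ q = q := by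
      have := eq_one_of_step φ hn hφn (q := q) (mul_inv_cancel_left q _).symm (hfixZ _ hz) (hz4 _ hz)
      exact (inv_mul_eq_one.mp this).symm
    obtain ⟨r, hr⟩ : ∃ r, q * r ≠ r * q := by
      by_contra hc
      push Not at hc
      exact hq (Subgroup.mem_center_iff.mpr fun r => (hc r).symm)
    have hr' : φ r = r := by
      rcases hgen q r hr (φ r) with h | h | h | h
      · exact absurd (hZc r ((hφZ r).mp h) q) hr
      · exfalso
        have h1 : φ (q⁻¹ * r) ∈ Z := by rw [map_mul, map_inv, hqf]; exact h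
        have h2 := hZc _ ((hφZ _).mp h1) q
        rw [mul_inv_cancel_left, mul_assoc] at h2
        have h3 := congrArg (q * ·) h2
        simp only [mul_inv_cancel_left] at h3
        exact hr h3
      · have := eq_one_of_step φ hn hφn (q := r) (mul_inv_cancel_left r _).symm (hfixZ _ h) (hz4 _ h)
        exact (inv_mul_eq_one.mp this).symm
      · set z := (q * r)⁻¹ * φ r with hz
        have e : φ r = q * r * z := (mul_inv_cancel_left _ _).symm
        refine fix_of_sq φ hn hφn ?_
        have e2 : φ (φ r) = r * (q * q * (z * z)) := by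
          rw [e, map_mul, map_mul, hqf, hfixZ z h, e]
          calc q * (q * r * z) * z = q * q * r * (z * z) := by group
            _ = r * (q * q) * (z * z) := by rw [hZc _ (hsq q) r]
            _ = _ := by group
        have hw : q * q * (z * z) ∈ Z := mul_mem (hsq q) (mul_mem h h)
        have h1 := eq_one_of_step (φ * φ) hn (by rw [← pow_two, ← pow_mul, mul_comm, pow_mul, hφn, one_pow])
          (q := r) e2 (by rw [MulAut.mul_apply, hfixZ _ hw, hfixZ _ hw]) (hz4 _ hw)
        rw [e2, h1, mul_one]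
    refine hφ (MulEquiv.ext fun w => ?_)
    show φ w = w
    rcases hgen q r hr w with h | h | h | h
    · exact hfixZ w h
    · rw [← mul_inv_cancel_left q w, map_mul, hqf, hfixZ _ h]
    · rw [← mul_inv_cancel_left r w, map_mul, hr', hfixZ _ h]
    · rw [← mul_inv_cancel_left (q * r) w, map_mul, map_mul, hqf, hr', hfixZ _ h]
  have key : ∀ a, a ∉ Z → ∃ z ∈ Z, a * a * u * (z * z) = 1 := by
    intro a ha
    set b := φ a with hb
    have hbZ : b ∉ Z := fun h => ha ((hφZ a).mp h)
    have hnc : a * b ≠ b * a := by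
      intro e
      obtain ⟨r, hr⟩ : ∃ r, a * r ≠ r * a := by
        by_contra hc
        push Not at hc
        exact ha (Subgroup.mem_center_iff.mpr fun r => (hc r).symm)
      rcases hgen a r hr b with h | h | h | h
      · exact hbZ h
      · exact hmove a ha h
      · apply hr
        have h2 := hZc _ (inv_mem h) a
        have e' : r = b * (r⁻¹ * b)⁻¹ := by group
        rw [e', ← mul_assoc a, e, mul_assoc, h2, mul_assoc]
      · apply hr
        have h2 := hZc _ (inv_mem h) a
        have e' : a * r = b * ((a * r)⁻¹ * b)⁻¹ := by group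
        have h4 : a * (a * r) = a * r * a := by
          rw [e', ← mul_assoc a, e, mul_assoc, h2, mul_assoc]
        rw [mul_assoc] at h4
        exact mul_left_cancel h4
    have hbb : b * b = a * a := by rw [hb, ← map_mul, hfixZ _ (hsq a)]
    rcases hgen a b hnc (φ b) with h | h | h | h
    · exact absurd ((hφZ b).mp h) hbZ
    · exfalso
      have hφ2 : (φ * φ) a = a := by
        have hw := hfixZ _ h
        have h1 := eq_one_of_step (φ * φ) hn (by rw [← pow_two, ← pow_mul, mul_comm, pow_mul, hφn, one_pow])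
          (q := a) (z := a⁻¹ * φ b) (by rw [MulAut.mul_apply, ← hb, mul_inv_cancel_left])
          (by rw [MulAut.mul_apply, hw, hw]) (hz4 _ h)
        rw [MulAut.mul_apply, ← hb, (inv_mul_eq_one.mp h1).symm]
      refine hmove a ha ?_
      rw [fix_of_sq φ hn hφn hφ2, inv_mul_cancel]
      exact one_mem _
    · exact absurd h (hmove b hbZ)
    · refine ⟨_, h, ?_⟩
      set z := (a * b)⁻¹ * φ b with hz
      have hbf : φ b = a * b * z := (mul_inv_cancel_left _ _).symm
      have hsq2 : φ b * φ b = a * a := by rw [← map_mul, hbb, hfixZ _ (hsq a)]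
      have hzc : z * (a * b) = a * b * z := (hZc z h _).symm
      have hba' : b * a = u * (a * b) := (hsymm _ _ (Or.inr ((hcomm a b).resolve_left hnc))).resolve_left
        fun e => hnc e.symm
      have e3 : φ b * φ b = (a * a) * (a * a) * u * (z * z) := by
        rw [hbf]
        calc a * b * z * (a * b * z) = a * b * (z * (a * b)) * z := by group
          _ = a * (b * a) * b * (z * z) := by rw [hzc]; group
          _ = a * u * (a * b) * b * (z * z) := by rw [hba']; group
          _ = u * (a * a * (b * b)) * (z * z) := by rw [hZc u huZ a]; group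
          _ = (a * a) * (a * a) * u * (z * z) := by rw [hbb, ← hZc u huZ]
      rw [hsq2] at e3
      exact mul_left_cancel (a := a * a) (by rw [mul_one]; simpa [mul_assoc] using e3.symm)
  refine ⟨u, hu1, huu, fun q => ?_, hψ, ?_⟩
  · by_cases hq : q ∈ Z
    · exact hZsq q hq
    · obtain ⟨z, hz, e⟩ := key q hq
      rcases hZsq z hz with e' | e' <;> rw [e'] at e
      · rw [mul_one] at e; exact Or.inr (by rw [← hui]; exact eq_inv_of_mul_eq_one_left e)
      · rw [mul_assoc, huu, mul_one] at e; exact Or.inl e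
  · rintro ⟨R, hR8, hR⟩
    have hRc : ∀ r ∈ R, ∀ s ∈ R, r * s = s * r := fun r hr s hs => by
      have h1 := inv_eq_of_mul_eq_one_right (hR _ (mul_mem hr hs))
      rw [mul_inv_rev, inv_eq_of_mul_eq_one_right (hR r hr), inv_eq_of_mul_eq_one_right (hR s hs)] at h1
      exact h1.symm
    have hRi : R.index = 2 := by
      have := R.card_mul_index
      rw [hR8, hX] at this
      omega
    have hZR : Z ≤ R := by
      intro z hz
      by_contra hzR
      refine hna fun p q => ?_
      have hd : ∀ p : X, p ∈ R ∨ ∃ r ∈ R, p = z * r := fun p => (em (p ∈ R)).imp id fun hp' =>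
        ⟨z⁻¹ * p, (Subgroup.mul_mem_iff_of_index_two hRi).mpr (iff_of_false (fun h => hzR (by simpa using inv_mem h)) hp'),
          (mul_inv_cancel_left z p).symm⟩
      have hzp : ∀ p, p * z = z * p := hZc z hz
      rcases hd p with hp' | ⟨r, hr, rfl⟩ <;> rcases hd q with hq | ⟨s, hs, rfl⟩
      · exact hRc p hp' q hq
      · rw [← mul_assoc, hzp, mul_assoc, hRc p hp' s hs, mul_assoc]
      · rw [mul_assoc, hRc r hr q hq, ← mul_assoc q, hzp, mul_assoc]
      · calc z * r * (z * s) = z * (r * z) * s := by group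
          _ = z * z * (r * s) := by rw [hzp r]; group
          _ = z * z * (s * r) := by rw [hRc r hr s hs]
          _ = z * (s * z) * r := by rw [hzp s]; group
          _ = z * s * (z * r) := by group
    obtain ⟨a, ha, haZ⟩ : ∃ a ∈ R, a ∉ Z := by
      by_contra hc
      push Not at hc
      have := Subgroup.card_le_of_le (show R ≤ Z from hc)
      rw [hR8, hk] at this
      norm_num at this
    obtain ⟨z, hz, e⟩ := key a haZ
    rw [hR a ha, hR z (hZR hz), one_mul, mul_one] at e
    exact hu1 e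

end CfsgLib.LenSeven
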