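import Cfsg.Agent.Lib.LenSeven.Base
import Cfsg.Agent.Lib.LenSeven.Squares

/-!
Self-centralising subgroups of order 4 and 8 with odd automorphisms in a group of order 32 of rank at least 3.
-/

set_option autoImplicit false
set_option linter.style.haveILetI false
set_option linter.unusedSectionVars false

open Subgroup

namespace CfsgLib.LenSeven

variable {G : Type*} [Group G] [Finite G]

/-- An automorphism group which is not a 2-group has a non-trivial element of odd order. -/
theorem exists_odd_aut {X : Type*} [Group X] [Finite X] (h : ¬ IsPGroup 2 (MulAut X)) :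
    ∃ (φ : MulAut X) (n : ℕ), Odd n ∧ φ ^ n = 1 ∧ φ ≠ 1 := by
  haveI : Fact (Nat.Prime 2) := ⟨Nat.prime_two⟩
  haveI : Finite (MulAut X) := Finite.of_injective (fun φ : MulAut X => (φ : X → X)) DFunLike.coe_injective
  by_contra hc
  push Not at hc
  apply h
  rw [IsPGroup.iff_card]
  refine ⟨(Nat.card (MulAut X)).primeFactorsList.length, Nat.eq_prime_pow_of_unique_prime_dvd Nat.card_pos.ne' ?_⟩
  intro d hd hdd
  by_contra hd2
  haveI := Fact.mk hd
  obtain ⟨φ, hφ⟩ := exists_prime_orderOf_dvd_card' (G := MulAut X) d hdd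
  have h1 := hc φ d (hd.odd_of_ne_two hd2) (hφ ▸ pow_orderOf_eq_one φ)
  rw [h1, orderOf_one] at hφ
  exact hd.one_lt.ne hφ

/-- An elementary group of order 8 and a central involution outside it give an elementary group of order 16. -/
theorem sixteen_of_central {S E : Subgroup G} (hES : E ≤ S) (hE8 : Nat.card E = 8) (hE2 : ∀ a ∈ E, a * a = 1)
    {z : G} (hzmem : z ∈ S) (hz2 : z * z = 1) (hzc : ∀ s ∈ S, s * z = z * s) (hzE : z ∉ E) :
    ∃ T ≤ S, z ∈ T ∧ 16 ≤ Nat.card T ∧ ∀ x ∈ T, x * x = 1 := by
  set T : Subgroup G :=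
    { carrier := {y | y ∈ E ∨ y * z ∈ E}
      one_mem' := Or.inl (one_mem E)
      mul_mem' := by
        intro x y hx hy
        rcases hy with hy | hy
        · rcases hx with hx | hx
          · exact Or.inl (mul_mem hx hy)
          · exact Or.inr (by rw [mul_assoc, hzc y (hES hy), ← mul_assoc]; exact mul_mem hx hy)
        · rcases hx with hx | hx
          · exact Or.inr (by rw [mul_assoc]; exact mul_mem hx hy)
          · have h1 := mul_mem hx hy
            refine Or.inl ?_
            rw [show x * z * (y * z) = x * (z * (y * z)) by group, ← hzc (y * z) (hES hy), mul_assoc y, hz2, mul_one] at h1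
            exact h1
      inv_mem' := by
        rintro y (hy | hy)
        · exact Or.inl (inv_mem hy)
        · refine Or.inr ?_
          have h2 := inv_mem hy
          rw [mul_inv_rev, inv_eq_of_mul_eq_one_right hz2] at h2
          have hyS : y⁻¹ ∈ S := by
            have := mul_mem (hES hy) hzmem
            rw [mul_assoc, hz2, mul_one] at this
            exact inv_mem this
          rwa [hzc _ hyS] } with hT
  have hmem : ∀ y, y ∈ T ↔ y ∈ E ∨ y * z ∈ E := fun y => Iff.rfl
  have hTS : T ≤ S := fun y hy => by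
    rcases (hmem y).mp hy with hy | hy
    · exact hES hy
    · have := mul_mem (hES hy) hzmem
      rwa [mul_assoc, hz2, mul_one] at this
  have hzT : z ∈ T := (hmem z).mpr (Or.inr (hz2 ▸ one_mem E))
  have hle : E ≤ T := fun y hy => Or.inl hy
  refine ⟨T, hTS, hzT, ?_, fun x hx => ?_⟩
  · obtain ⟨c, hc⟩ := card_dvd_of_le hle
    rw [hE8] at hc
    have h1 : Nat.card E < Nat.card T :=
      lt_of_le_of_ne (card_le_of_le hle) fun he => hzE ((eq_of_le_of_card_ge hle he.ge).ge hzT)
    omega
  · rcases (hmem x).mp hx with hy | hy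
    · exact hE2 x hy
    · have h1 := hE2 _ hy
      rwa [show x * z * (x * z) = x * (z * x) * z by group, ← hzc x (hTS hx),
        show x * (x * z) * z = x * x * (z * z) by group, hz2, mul_one] at h1

/-- Two elements with squares `z` and product of square `z` anticommute. -/
theorem anticomm {x y z : G} (hz : z * z = 1) (hx : x * x = z) (hy : y * y = z) (hxy : x * y * (x * y) = z)
    (hxz : x * z = z * x) (hyz : y * z = z * y) : y * x = x * y * z := by
  apply mul_left_cancel (a := x)
  apply mul_right_cancel (b := y)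
  calc x * (y * x) * y = z := by rw [← hxy]; group
    _ = z * (z * z) := by rw [hz, mul_one]
    _ = (x * x) * (y * y) * z := by rw [hx, hy, ← mul_assoc]
    _ = x * x * y * (y * z) := by group
    _ = x * x * y * (z * y) := by rw [hyz]
    _ = _ := by group

/-- The shape of a group of order 8 with an odd automorphism which is not elementary. -/
theorem quat_shape {P : Subgroup G} (hP : IsPGroup 2 P) (hj : Nat.card P = 2 ^ 3) {φ : MulAut P} {n : ℕ} (hn : Odd n)
    (hφn : φ ^ n = 1) (hφ : φ ≠ 1) {z : G} (hzP : z ∈ P) (hz2 : z * z = 1) (hz1 : z ≠ 1)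
    (hzc : ∀ p ∈ P, p * z = z * p) (hnsq : ∃ p ∈ P, p * p ≠ 1) :
    (∀ p ∈ P, p * p = 1 → p = 1 ∨ p = z) ∧ ∀ p ∈ P, p * p = 1 ∨ p * p = z := by
  classical
  obtain ⟨g0, hg0, hg1⟩ := hnsq
  set g : P := ⟨g0, hg0⟩ with hgdef
  have hgg : g * g ≠ 1 := fun h => hg1 (congrArg Subtype.val h)
  set H := zpowers g with hH
  have hdvd : orderOf g ∣ 2 ^ 3 := hj ▸ orderOf_dvd_natCard g
  obtain ⟨i, hi, hord⟩ := (Nat.dvd_prime_pow Nat.prime_two).mp hdvd
  have hi2 : 2 ≤ i := by
    by_contra hc
    exact hgg (by rw [← pow_two, ← orderOf_dvd_iff_pow_eq_one, hord]; exact (pow_dvd_pow 2 (show i ≤ 1 by omega)).trans (dvd_of_eq (pow_one 2)))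
  have hfixg : φ g ≠ g ∨ i = 3 → False ∨ i = 2 := fun _ => by
    by_cases h3 : i = 3
    · refine Or.inl (hφ (MulEquiv.ext fun x => ?_))
      show φ x = x
      have htop : zpowers g = ⊤ := eq_top_of_card_eq _ (by rw [Nat.card_zpowers, hord, h3, hj])
      obtain ⟨k, hk⟩ := mem_zpowers_iff.mp (htop ▸ mem_top (φ g) : φ g ∈ zpowers g)
      have h2 : φ (φ g) = g := by
        rw [← hk, map_zpow, ← hk, ← zpow_mul]
        have hev : ∃ r : ℤ, k = 2 * r + 1 := by
          rcases Int.even_or_odd k with ⟨r, rfl⟩ | hr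
          · exfalso
            have h4 : (φ g) ^ 4 = 1 := by
              rw [← hk, ← zpow_natCast, ← zpow_mul, show (r + r) * ((4 : ℕ) : ℤ) = ((8 : ℕ) : ℤ) * r by push_cast; ring,
                zpow_mul, zpow_natCast, show (8 : ℕ) = orderOf g by rw [hord, h3]; norm_num, pow_orderOf_eq_one, one_zpow]
            rw [← map_pow] at h4
            have := orderOf_dvd_of_pow_eq_one (φ.injective (h4.trans (map_one φ).symm))
            rw [hord, h3] at this
            norm_num at this
          · exact hr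
        obtain ⟨r, rfl⟩ := hev
        obtain ⟨t, ht⟩ : ∃ t : ℤ, (2 * r + 1) * (2 * r + 1) = 8 * t + 1 := by
          rcases Int.even_or_odd r with ⟨m, rfl⟩ | ⟨m, rfl⟩
          · exact ⟨2 * m * m + m, by ring⟩
          · exact ⟨2 * m * m + 3 * m + 1, by ring⟩
        rw [ht, zpow_add_one, zpow_mul, show (8 : ℤ) = ((8 : ℕ) : ℤ) by norm_num, zpow_natCast,
          show (8 : ℕ) = orderOf g by rw [hord, h3]; norm_num, pow_orderOf_eq_one, one_zpow, one_mul]
      obtain ⟨m, rfl⟩ := mem_zpowers_iff.mp (htop ▸ mem_top x : x ∈ zpowers g)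
      rw [map_zpow, fix_of_sq φ hn hφn h2]
    · exact Or.inr (by omega)
  obtain rfl : i = 2 := by
    by_contra hne
    rcases hfixg (Or.inr (by omega)) with h | h
    · exact h
    · exact hne h
  set w := g * g with hw
  have hg4 : g * g * (g * g) = 1 := by
    have h := pow_orderOf_eq_one g
    rw [hord] at h
    simpa [pow_succ, mul_assoc] using h
  have hww : w * w = 1 := hg4
  have hHmem : ∀ x ∈ H, x = 1 ∨ x = g ∨ x = w ∨ x = w * g := by
    intro x hx
    obtain ⟨k, hk, rfl⟩ : ∃ k < orderOf g, g ^ k = x := by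
      have h0 := mem_zpowers_iff_mem_range_orderOf.mp hx
      simpa using h0
    rw [hord] at hk
    norm_num at hk
    interval_cases k
    · exact Or.inl (pow_zero g)
    · exact Or.inr (Or.inl (pow_one g))
    · exact Or.inr (Or.inr (Or.inl (pow_two g)))
    · exact Or.inr (Or.inr (Or.inr (by rw [pow_succ, pow_two])))
  have hHi : H.index = 2 := by
    have h1 := H.card_mul_index
    rw [Nat.card_zpowers, hord, hj] at h1
    omega
  haveI := normal_of_index_eq_two hHi
  have hwg : w * g = g * w := by rw [hw, mul_assoc]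
  have hwc : ∀ x : P, x * w = w * x := by
    intro x
    have h1 : x * g * x⁻¹ ∈ H := (inferInstance : H.Normal).conj_mem g (mem_zpowers g) x
    have h2 : x * w * x⁻¹ = x * g * x⁻¹ * (x * g * x⁻¹) := by rw [hw]; group
    refine mul_inv_eq_iff_eq_mul.mp ?_
    rcases hHmem _ h1 with e | e | e | e
    · exact absurd (conj_eq_one_iff.mp e) (fun hg => hgg (by rw [hw, hg, mul_one]))
    · rw [h2, e]
    · exfalso
      rw [e, hww] at h2
      exact hgg (conj_eq_one_iff.mp h2)
    · rw [h2, e]
      calc w * g * (w * g) = w * (g * w) * g := by group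
        _ = w * (w * g) * g := by rw [hwg]
        _ = w * w * (g * g) := by group
        _ = w := by rw [hww, one_mul]
  have hsqH : ∀ x : P, x * x ∈ H := fun x => mul_self_mem_of_index_two hHi x
  have hsqw : ∀ x : P, x * x = 1 ∨ x * x = w := by
    intro x
    have hne : ∀ y, (y = g ∨ y = w * g) → x * x = y → False := fun y hy e => by
      have h8 : orderOf y ∣ 2 := by
        rw [← e]
        have hx : orderOf x ∣ 2 ^ 3 := hj ▸ orderOf_dvd_natCard x
        obtain ⟨k, hk, hxo⟩ := (Nat.dvd_prime_pow Nat.prime_two).mp hx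
        by_cases hk3 : k = 3
        · exfalso
          have htop : zpowers x = ⊤ := eq_top_of_card_eq _ (by rw [Nat.card_zpowers, hxo, hk3, hj])
          refine hφ (MulEquiv.ext fun v => ?_)
          show φ v = v
          obtain ⟨m, hm⟩ := mem_zpowers_iff.mp (htop ▸ mem_top (φ x) : φ x ∈ zpowers x)
          obtain ⟨r, rfl⟩ : ∃ r : ℤ, m = 2 * r + 1 := by
            rcases Int.even_or_odd m with ⟨r, rfl⟩ | hr
            · exfalso
              have h4 : (φ x) ^ 4 = 1 := by
                rw [← hm, ← zpow_natCast, ← zpow_mul, show (r + r) * ((4 : ℕ) : ℤ) = ((8 : ℕ) : ℤ) * r by push_cast; ring,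
                  zpow_mul, zpow_natCast, show (8 : ℕ) = orderOf x by rw [hxo, hk3]; norm_num, pow_orderOf_eq_one,
                  one_zpow]
              rw [← map_pow] at h4
              have := orderOf_dvd_of_pow_eq_one (φ.injective (h4.trans (map_one φ).symm))
              rw [hxo, hk3] at this
              norm_num at this
            · exact hr
          have h2 : φ (φ x) = x := by
            rw [← hm, map_zpow, ← hm, ← zpow_mul]
            obtain ⟨t, ht⟩ : ∃ t : ℤ, (2 * r + 1) * (2 * r + 1) = 8 * t + 1 := by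
              rcases Int.even_or_odd r with ⟨m', rfl⟩ | ⟨m', rfl⟩
              · exact ⟨2 * m' * m' + m', by ring⟩
              · exact ⟨2 * m' * m' + 3 * m' + 1, by ring⟩
            rw [ht, zpow_add_one, zpow_mul, show (8 : ℤ) = ((8 : ℕ) : ℤ) by norm_num, zpow_natCast,
              show (8 : ℕ) = orderOf x by rw [hxo, hk3]; norm_num, pow_orderOf_eq_one, one_zpow, one_mul]
          obtain ⟨l, rfl⟩ := mem_zpowers_iff.mp (htop ▸ mem_top v : v ∈ zpowers x)
          rw [map_zpow, fix_of_sq φ hn hφn h2]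
        refine orderOf_dvd_of_pow_eq_one ?_
        rw [pow_two, show x * x * (x * x) = x ^ 4 by simp [pow_succ, mul_assoc], ← orderOf_dvd_iff_pow_eq_one, hxo]
        exact pow_dvd_pow 2 (show k ≤ 2 by omega)
      have h2 : y * y = 1 := by rw [← pow_two]; exact orderOf_dvd_iff_pow_eq_one.mp h8
      rcases hy with rfl | rfl
      · exact hgg h2
      · refine hgg ?_
        rw [show w * g * (w * g) = w * (g * w) * g by group, ← hwg,
          show w * (w * g) * g = w * w * (g * g) by group, hww, one_mul] at h2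
        exact h2
    rcases hHmem _ (hsqH x) with e | e | e | e
    · exact Or.inl e
    · exact (hne _ (Or.inl rfl) e).elim
    · exact Or.inr e
    · exact (hne _ (Or.inr rfl) e).elim
  have hφw : φ w = w := by
    have := hsqw (φ g)
    rw [← map_mul, ← hw] at this
    exact this.resolve_left fun e => hgg (φ.injective (e.trans (map_one φ).symm))
  set h := φ g with hh
  have hhH : h ∉ H := by
    intro hin
    have hfg : φ g = g := by
      refine fix_of_pair φ hn hφn (b := w * g) ?_ ?_
      · rcases hHmem _ hin with e | e | e | e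
        · exact absurd (φ.injective (e.trans (map_one φ).symm)) (fun e => hgg (by rw [hw, e, mul_one]))
        · exact Or.inl e
        · refine absurd (φ.injective (e.trans hφw.symm)) fun e => hgg ?_
          have : g = w := e
          calc g * g = w * w := by rw [← this]
            _ = 1 := hww
        · exact Or.inr e
      · rw [map_mul, hφw]
        rcases hHmem _ hin with e | e | e | e
        · exact absurd (φ.injective (e.trans (map_one φ).symm)) (fun e => hgg (by rw [hw, e, mul_one]))
        · exact Or.inr (by rw [← hh, e])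
        · refine absurd (φ.injective (e.trans hφw.symm)) fun e => hgg ?_
          have : g = w := e
          calc g * g = w * w := by rw [← this]
            _ = 1 := hww
        · exact Or.inl (by rw [← hh, e, ← mul_assoc, hww, one_mul])
    have hfixH : ∀ x ∈ H, φ x = x := fun x hx => by
      obtain ⟨k, rfl⟩ := mem_zpowers_iff.mp hx
      rw [map_zpow, hfg]
    refine hφ (MulEquiv.ext fun x => ?_)
    show φ x = x
    by_cases hx : x ∈ H
    · exact hfixH x hx
    have hy : x⁻¹ * φ x ∈ H := (mul_mem_iff_of_index_two hHi).mpr (iff_of_false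
      (fun h' => hx (by have h'' := inv_mem h'; rwa [inv_inv] at h''))
      (fun h' => hx (φ.injective (hfixH _ h') ▸ h')))
    have := eq_one_of_step φ hn hφn (q := x) (mul_inv_cancel_left x _).symm (hfixH _ hy) (k := 3)
      (by rw [← hj]; exact pow_card_eq_one')
    exact (inv_mul_eq_one.mp this).symm
  have hhh : h * h = w := by rw [hh, ← map_mul, ← hw, hφw]
  have hdec : ∀ x : P, x ∈ H ∨ h⁻¹ * x ∈ H := fun x => (em (x ∈ H)).imp id fun hx =>
    (mul_mem_iff_of_index_two hHi).mpr (iff_of_false
      (fun h' => hhH (by have h'' := inv_mem h'; rwa [inv_inv] at h'')) hx)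
  have hwcomm : ∀ x : P, x * w * (x * w) = x * x := fun x => by
    calc x * w * (x * w) = x * (w * x) * w := by group
      _ = x * (x * w) * w := by rw [← hwc x]
      _ = x * x * (w * w) := by group
      _ = x * x := by rw [hww, mul_one]
  -- the third coset
  have hgh : h * g * (h * g) = w := by
    have key : φ h = h * g ∨ φ h = h * g * w := by
      rcases hdec (φ h) with e | e
      · exfalso
        rcases hHmem _ e with e | e | e | e
        · have e1 := φ.injective (e.trans (map_one φ).symm)
          exact hhH (e1 ▸ one_mem _)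
        · have h1 := fix_of_sq φ hn hφn (q := g) e
          exact hhH (by rw [hh, h1]; exact mem_zpowers g)
        · have e1 := φ.injective (e.trans hφw.symm)
          exact hhH (e1.symm ▸ mul_mem (mem_zpowers g) (mem_zpowers g))
        · have h1 := eq_one_of_step (φ * φ) hn (by rw [← pow_two, ← pow_mul, mul_comm, pow_mul, hφn, one_pow])
            (q := g) (z := w) (by rw [MulAut.mul_apply, ← hh, e, hwg]) (by rw [MulAut.mul_apply, hφw, hφw]) (k := 1)
            (by rw [pow_one, pow_two, hww])
          exact hgg h1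
      · rcases hHmem _ e with e | e | e | e
        · have e1 : φ h = h := (inv_mul_eq_one.mp e).symm
          exact absurd ((φ.injective e1) ▸ mem_zpowers g : h ∈ H) hhH
        · exact Or.inl (inv_mul_eq_iff_eq_mul.mp e)
        · have h1 := eq_one_of_step φ hn hφn (q := h) (inv_mul_eq_iff_eq_mul.mp e) hφw (k := 1)
            (by rw [pow_one, pow_two, hww])
          exact absurd h1 hgg
        · exact Or.inr (by rw [inv_mul_eq_iff_eq_mul.mp e, hwg, mul_assoc])
    have h1 : φ h * φ h = w := by rw [← map_mul, hhh, hφw]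
    rcases key with e | e <;> rw [e] at h1
    · exact h1
    · rwa [hwcomm] at h1
  have hall : ∀ x : P, (x = 1 ∨ x = w) ∨ x * x = w := by
    intro x
    have hrepr : ∀ y ∈ H, y = 1 ∨ y = w ∨ y = g ∨ y = g * w := fun y hy => by
      rcases hHmem y hy with e | e | e | e
      · exact Or.inl e
      · exact Or.inr (Or.inr (Or.inl e))
      · exact Or.inr (Or.inl e)
      · exact Or.inr (Or.inr (Or.inr (e.trans hwg)))
    rcases hdec x with e | e
    · rcases hrepr x e with rfl | rfl | rfl | rfl
      · exact Or.inl (Or.inl rfl)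
      · exact Or.inl (Or.inr rfl)
      · exact Or.inr rfl
      · exact Or.inr (hwcomm g)
    · obtain ⟨y, hy, rfl⟩ : ∃ y ∈ H, x = h * y := ⟨_, e, (mul_inv_cancel_left h x).symm⟩
      right
      rcases hrepr y hy with rfl | rfl | rfl | rfl
      · rw [mul_one, hhh]
      · rw [hwcomm, hhh]
      · exact hgh
      · rw [← mul_assoc h, hwcomm, hgh]
  have hzw : (⟨z, hzP⟩ : P) = w := by
    rcases hall ⟨z, hzP⟩ with (e | e) | e
    · exact absurd (congrArg Subtype.val e) hz1
    · exact e
    · exfalso
      exact hgg (by rw [← e]; exact Subtype.ext hz2)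
  refine ⟨fun p hp hpp => ?_, fun p hp => ?_⟩
  · rcases hall ⟨p, hp⟩ with (e | e) | e
    · exact Or.inl (congrArg Subtype.val e)
    · exact Or.inr (congrArg Subtype.val (e.trans hzw.symm))
    · exfalso
      exact hgg (by rw [← e]; exact Subtype.ext hpp)
  · exact (hsqw ⟨p, hp⟩).imp (congrArg Subtype.val) fun e => congrArg Subtype.val (e.trans hzw.symm)

/-- An element acting on a quaternion group as an inner automorphism modulo the centre lies in it. -/
theorem quat_inner {S P : Subgroup G} (hj : Nat.card P = 2 ^ 3) (hPS : P ≤ S)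
    (hcent : ∀ s ∈ S, (∀ p ∈ P, s * p = p * s) → s ∈ P) {z : G} (hzS : ∀ s ∈ S, s * z = z * s)
    (hz2 : z * z = 1) (hinv : ∀ p ∈ P, p * p = 1 → p = 1 ∨ p = z) (hsq : ∀ p ∈ P, p * p = 1 ∨ p * p = z)
    {a b : G} (ha : a ∈ P) (hb : b ∈ P) (hab : b * a = a * b * z) (hne : a * b ≠ b * a) :
    ∀ y ∈ S, (y * a = a * y ∨ y * a = a * y * z) → (y * b = b * y ∨ y * b = b * y * z) → y ∈ P := by
  classical
  have hgen : P ≤ closure ({a, b} : Set G) := by
    set H := closure ({a, b} : Set G) with hH
    have hHP : H ≤ P := (closure_le _).mpr (by rintro x (rfl | rfl) <;> assumption)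
    have haH : a ∈ H := subset_closure (Or.inl rfl)
    have hbH : b ∈ H := subset_closure (Or.inr rfl)
    have hzeq : z = b⁻¹ * a⁻¹ * (b * a) := by rw [hab]; group
    have hzH : z ∈ H := hzeq ▸ mul_mem (mul_mem (inv_mem hbH) (inv_mem haH)) (mul_mem hbH haH)
    have hz1 : z ≠ 1 := fun e => hne (by rw [hab, e, mul_one])
    have h5 : 5 ≤ Nat.card H := by
      haveI : Fintype H := Fintype.ofFinite _
      have hz1' : z ≠ 1 := hz1
      have ha1 : a ≠ 1 := fun e => hne (by rw [e, one_mul, mul_one])
      have hb1 : b ≠ 1 := fun e => hne (by rw [e, one_mul, mul_one])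
      have haz : a ≠ z := fun e => hne (by rw [e]; exact (hzS b (hPS hb)).symm)
      have hbz : b ≠ z := fun e => hne (by rw [e]; exact hzS a (hPS ha))
      have hab' : a ≠ b := fun e => hne (by rw [e])
      have hab1 : a * b ≠ 1 := fun e => hne (by rw [e, mul_eq_one_comm.mp e])
      have habz : a * b ≠ a := fun e => hb1 (mul_eq_left.mp e)
      have habb : a * b ≠ b := fun e => ha1 (mul_eq_right.mp e)
      have habzz : a * b ≠ z := fun e => hne (by
        have h1 : b = a⁻¹ * z := by rw [← e, inv_mul_cancel_left]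
        rw [h1, ← mul_assoc a, mul_inv_cancel, one_mul, mul_assoc, ← hzS a (hPS ha), inv_mul_cancel_left])
      have hle := Finset.card_le_univ ({1, ⟨z, hzH⟩, ⟨a, haH⟩, ⟨b, hbH⟩, ⟨a * b, mul_mem haH hbH⟩} : Finset H)
      rw [Finset.card_insert_of_notMem (by simp [Subtype.ext_iff, hz1'.symm, ha1.symm, hb1.symm, hab1.symm]),
        Finset.card_insert_of_notMem (by simp [Subtype.ext_iff, haz.symm, hbz.symm, habzz.symm]),
        Finset.card_insert_of_notMem (by simp [Subtype.ext_iff, hab', habz.symm, hb1]),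
        Finset.card_insert_of_notMem (by simp [Subtype.ext_iff, habb.symm, ha1]), Finset.card_singleton,
        ← Nat.card_eq_fintype_card] at hle
      exact hle
    refine (eq_of_le_of_card_ge hHP ?_).ge
    obtain ⟨k, hk⟩ := card_dvd_of_le hHP
    rw [hj] at hk ⊢
    rcases (Nat.dvd_prime_pow Nat.prime_two).mp ⟨k, hk⟩ with ⟨i, hi, hi'⟩
    rw [hi'] at h5 ⊢
    have : 3 ≤ i := by
      by_contra hc
      have := Nat.pow_le_pow_right two_pos (show i ≤ 2 by omega)
      omega
    exact Nat.pow_le_pow_right two_pos this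
  intro y hy hya hyb
  -- correct `y` by an element of `P`
  have key : ∀ p ∈ P, p⁻¹ * y * a = a * (p⁻¹ * y) → p⁻¹ * y * b = b * (p⁻¹ * y) → y ∈ P := by
    intro p hp h1 h2
    have h3 : p⁻¹ * y ∈ P := hcent _ (mul_mem (inv_mem (hPS hp)) hy) fun x hx => by
      have hle : closure ({a, b} : Set G) ≤ centralizer ({p⁻¹ * y} : Set G) := (closure_le _).mpr (by
        rintro v (rfl | rfl)
        · exact mem_centralizer_singleton_iff.mpr h1.symm
        · exact mem_centralizer_singleton_iff.mpr h2.symm)
      exact (mem_centralizer_singleton_iff.mp (hle (hgen hx))).symm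
    have := mul_mem hp h3
    rwa [mul_inv_cancel_left] at this
  have hza : z * a = a * z := (hzS a (hPS ha)).symm
  have hzb : z * b = b * z := (hzS b (hPS hb)).symm
  have hzy : z * y = y * z := (hzS y hy).symm
  have hab' : a * b = b * a * z := by rw [hab, mul_assoc, hz2, mul_one]
  have hbai : b⁻¹ * a = a * b⁻¹ * z := by
    apply mul_left_cancel (a := b)
    rw [mul_inv_cancel_left, ← mul_assoc, ← mul_assoc, hab]
    calc a = a * (b * b⁻¹) * (z * z) := by rw [hz2, mul_inv_cancel, mul_one, mul_one]
      _ = a * b * (b⁻¹ * z) * z := by group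
      _ = a * b * (z * b⁻¹) * z := by rw [hzS b⁻¹ (inv_mem (hPS hb))]
      _ = a * b * z * b⁻¹ * z := by group
  have habi : a⁻¹ * b = b * a⁻¹ * z := by
    apply mul_left_cancel (a := a)
    rw [mul_inv_cancel_left, ← mul_assoc, ← mul_assoc, hab']
    calc b = b * (a * a⁻¹) * (z * z) := by rw [hz2, mul_inv_cancel, mul_one, mul_one]
      _ = b * a * (a⁻¹ * z) * z := by group
      _ = b * a * (z * a⁻¹) * z := by rw [hzS a⁻¹ (inv_mem (hPS ha))]
      _ = b * a * z * a⁻¹ * z := by group
  have hflip : ∀ {p x : G}, p ∈ S → x ∈ S → p⁻¹ * x = x * p⁻¹ * z → y * x = x * y * z → p⁻¹ * y * x = x * (p⁻¹ * y) := by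
    intro p x hp hx h1 h2
    calc p⁻¹ * y * x = p⁻¹ * (x * y * z) := by rw [mul_assoc, h2]
      _ = p⁻¹ * x * (y * z) := by group
      _ = x * p⁻¹ * (z * y) * z := by rw [h1]; group
      _ = x * p⁻¹ * (y * z) * z := by rw [hzy]
      _ = x * (p⁻¹ * y) * (z * z) := by group
      _ = x * (p⁻¹ * y) := by rw [hz2, mul_one]
  have hkeep : ∀ {p x : G}, p⁻¹ * x = x * p⁻¹ → y * x = x * y → p⁻¹ * y * x = x * (p⁻¹ * y) := by
    intro p x h1 h2
    rw [mul_assoc, h2, ← mul_assoc, h1, mul_assoc]
  have hself : ∀ x : G, x⁻¹ * x = x * x⁻¹ := fun x => by group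
  rcases hya with hya | hya <;> rcases hyb with hyb | hyb
  · exact key 1 (one_mem _) (by simpa using hya) (by simpa using hyb)
  · exact key a ha (hkeep (hself a) hya) (hflip (hPS ha) (hPS hb) habi hyb)
  · exact key b hb (hflip (hPS hb) (hPS ha) hbai hya) (hkeep (hself b) hyb)
  · refine key (a * b) (mul_mem ha hb) (hflip (hPS (mul_mem ha hb)) (hPS ha) ?_ hya)
      (hflip (hPS (mul_mem ha hb)) (hPS hb) ?_ hyb)
    · rw [mul_inv_rev, mul_assoc, inv_mul_cancel, mul_one]
      calc b⁻¹ = a * a⁻¹ * b⁻¹ := by group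
        _ = a * (a⁻¹ * b⁻¹) := by group
        _ = a * ((b * a)⁻¹) := by group
        _ = a * (a * b * z)⁻¹ := by rw [hab]
        _ = a * ((a * b) * z)⁻¹ := rfl
        _ = a * (z⁻¹ * (a * b)⁻¹) := by group
        _ = a * (z * (a * b)⁻¹) := by rw [inv_eq_of_mul_eq_one_right hz2]
        _ = a * ((a * b)⁻¹ * z) := by rw [hzS _ (inv_mem (hPS (mul_mem ha hb)))]
        _ = a * (b⁻¹ * a⁻¹) * z := by group
    · rw [mul_inv_rev]
      calc b⁻¹ * a⁻¹ * b = b⁻¹ * (a⁻¹ * b) := by group
        _ = b⁻¹ * (b * a⁻¹ * z) := by rw [habi]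
        _ = a⁻¹ * z := by group
        _ = b * (b⁻¹ * a⁻¹) * z := by group

/-- An elementary group of order 16 meeting a self-centralising four group only in `{1, z}`. -/
theorem four_case_sixteen {S T P : Subgroup G} (hS : Nat.card S = 32) (hTS : T ≤ S) (hT16 : 16 ≤ Nat.card T)
    (hT2 : ∀ x ∈ T, x * x = 1) {z q : G} (hzT : z ∈ T) (hqS : q ∈ S) (hz2 : z * z = 1) (hq2 : q * q = 1)
    (hP : Nat.card P ≤ 8)
    (hCq : ∀ s ∈ S, s * q = q * s → s ∈ P ∧ (s = 1 ∨ s = z ∨ s = q ∨ s = q * z)) : False := by
  classical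
  have hTc : ∀ a ∈ T, ∀ b ∈ T, a * b = b * a := fun a ha b hb => by
    have h1 := inv_eq_of_mul_eq_one_right (hT2 _ (mul_mem ha hb))
    rw [mul_inv_rev, inv_eq_of_mul_eq_one_right (hT2 a ha), inv_eq_of_mul_eq_one_right (hT2 b hb)] at h1
    exact h1.symm
  by_cases hqT : q ∈ T
  · have := card_le_of_le (show T ≤ P from fun x hx => (hCq x (hTS hx) (hTc x hx q hqT)).1)
    omega
  have hi : (T.subgroupOf S).index = 2 := by
    have h1 := (T.subgroupOf S).card_mul_index
    rw [Nat.card_congr (subgroupOfEquivOfLe hTS).toEquiv, hS] at h1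
    have h2 : (T.subgroupOf S).index ≠ 1 := fun e => hqT ((subgroupOf_eq_top.mp (index_eq_one.mp e)) hqS)
    have h3 : 0 < (T.subgroupOf S).index := Nat.pos_of_ne_zero fun e => by simp [e] at h1
    rcases le_or_gt (T.subgroupOf S).index 2 with h4 | h4
    · omega
    · nlinarith
  haveI := normal_of_index_eq_two hi
  have hn : ∀ a ∈ T, q * a * q⁻¹ ∈ T := fun a ha =>
    (inferInstance : (T.subgroupOf S).Normal).conj_mem ⟨a, hTS ha⟩ ha ⟨q, hqS⟩
  let f : ↥T →* ↥T :=
    { toFun := fun a => ⟨a * (q * a * q⁻¹), mul_mem a.2 (hn a a.2)⟩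
      map_one' := Subtype.ext (by simp)
      map_mul' := fun a b => Subtype.ext (by
        show (a : G) * b * (q * (a * b) * q⁻¹) = a * (q * a * q⁻¹) * (b * (q * b * q⁻¹))
        calc (a : G) * b * (q * (a * b) * q⁻¹) = a * (b * (q * a * q⁻¹)) * (q * b * q⁻¹) := by group
          _ = a * (q * a * q⁻¹ * b) * (q * b * q⁻¹) := by rw [hTc b b.2 _ (hn a a.2)]
          _ = _ := by group) }
  have hfix : ∀ x ∈ T, q * x * q⁻¹ = x → x = 1 ∨ x = z := by
    intro x hx hfx
    rcases (hCq x (hTS hx) (mul_inv_eq_iff_eq_mul.mp hfx).symm).2 with h | h | h | h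
    · exact Or.inl h
    · exact Or.inr h
    · exact absurd (h ▸ hx) hqT
    · refine absurd ?_ hqT
      have h2 := mul_mem (h ▸ hx : q * z ∈ T) hzT
      rwa [mul_assoc, hz2, mul_one] at h2
  have htwo : ∀ K : Subgroup ↥T, (∀ x ∈ K, q * (x : G) * q⁻¹ = x) → Nat.card K ≤ 2 := by
    intro K hK
    haveI : Fintype K := Fintype.ofFinite _
    have hcl := Finset.card_le_card (s := (Finset.univ : Finset K).image fun x : K => ((x : T) : G)) (t := {1, z})
      fun a ha => by
        obtain ⟨x, -, rfl⟩ := Finset.mem_image.mp ha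
        simpa using hfix _ (x : T).2 (hK x x.2)
    rw [Finset.card_image_of_injective _ (fun x y e => Subtype.ext (Subtype.ext e)), Finset.card_univ,
      ← Nat.card_eq_fintype_card] at hcl
    exact hcl.trans Finset.card_le_two
  have hk : Nat.card f.ker ≤ 2 := htwo _ fun x hx => by
    have h1 : (x : G) * (q * x * q⁻¹) = 1 := congrArg Subtype.val hx
    rw [← inv_eq_of_mul_eq_one_right h1, inv_eq_of_mul_eq_one_right (hT2 x x.2)]
  have hr : Nat.card f.range ≤ 2 := htwo _ fun x hx => by
    obtain ⟨a, rfl⟩ := hx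
    show q * ((a : G) * (q * a * q⁻¹)) * q⁻¹ = a * (q * a * q⁻¹)
    have hqi : q⁻¹ = q := inv_eq_of_mul_eq_one_right hq2
    calc q * ((a : G) * (q * a * q⁻¹)) * q⁻¹ = q * a * q⁻¹ * (q * q * a * (q * q)⁻¹) := by group
      _ = q * a * q⁻¹ * a := by rw [hq2]; group
      _ = a * (q * a * q⁻¹) := hTc _ (hn a a.2) _ a.2
  have h1 := f.ker.card_mul_index
  rw [index_ker] at h1
  nlinarith

/-- Counting the conjugates of `q`. -/
theorem quat_count {S P T : Subgroup G} (hS : Nat.card S = 32) (hj : Nat.card P = 2 ^ 3) (hPS : P ≤ S)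
    (hTS : T ≤ S) (hT16 : Nat.card T = 16) {z c q : G} (hq : q ∈ P) (hqq : q * q = z) (hzT : z ∈ T)
    (hzS : ∀ s ∈ S, s * z = z * s) (hz2 : z * z = 1) (hTsq : ∀ y ∈ T, y * y = 1 ∨ y * y = z)
    (hsq : ∀ p ∈ P, p * p = 1 ∨ p * p = z) (hinv : ∀ p ∈ P, p * p = 1 → p = 1 ∨ p = z)
    (hcc : ∀ s ∈ S, s * c = c * s ∨ s * c = c * s * z)
    (hin : ∀ y ∈ S, (y * c = c * y ∨ y * c = c * y * z) → (y * q = q * y ∨ y * q = q * y * z) → y ∈ P) : False := by
  classical
  haveI : Fact (Nat.Prime 2) := ⟨Nat.prime_two⟩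
  have hrel : ∀ y ∈ T, q ∈ T → y * q = q * y ∨ y * q = q * y * z := by
    intro y hy hqT
    have hyy : y⁻¹ = y ∨ y⁻¹ = y * z := (hTsq y hy).imp inv_eq_of_mul_eq_one_right fun e => by
      refine inv_eq_of_mul_eq_one_right ?_
      rw [← mul_assoc, e, hz2]
    have hqi : q⁻¹ = q * z := inv_eq_of_mul_eq_one_right (by rw [← mul_assoc, hqq, hz2])
    have hzy := hzS y (hTS hy)
    have hzq := hzS q (hPS hq)
    rcases hTsq _ (mul_mem hy hqT) with h2 | h2
    · have h3 := inv_eq_of_mul_eq_one_right h2
      rw [mul_inv_rev, hqi] at h3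
      rcases hyy with e | e <;> rw [e] at h3 <;> rw [← h3]
      · right; calc q * z * y = q * (z * y) := mul_assoc _ _ _
          _ = q * (y * z) := by rw [hzy]
          _ = q * y * z := (mul_assoc _ _ _).symm
      · left; calc q * z * (y * z) = q * (z * y) * z := by group
          _ = q * (y * z) * z := by rw [hzy]
          _ = q * y * (z * z) := by group
          _ = q * y := by rw [hz2, mul_one]
    · have h3 : (y * q)⁻¹ = y * q * z := inv_eq_of_mul_eq_one_right (by rw [← mul_assoc, h2, hz2])
      rw [mul_inv_rev, hqi] at h3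
      have h4 : y * q = q * z * y⁻¹ * z := by
        rw [h3, mul_assoc, hz2, mul_one]
      rcases hyy with e | e <;> rw [e] at h4 <;> rw [h4]
      · left; calc q * z * y * z = q * (z * y) * z := by group
          _ = q * (y * z) * z := by rw [hzy]
          _ = q * y * (z * z) := by group
          _ = q * y := by rw [hz2, mul_one]
      · right; calc q * z * (y * z) * z = q * (z * y) * (z * z) := by group
          _ = q * (y * z) * (z * z) := by rw [hzy]
          _ = q * y * z := by rw [hz2]; group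
  have hqT : q ∉ T := fun hqT => by
    have := card_le_of_le (show T ≤ P from fun y hy => hin y (hTS hy) (hcc y (hTS hy)) (hrel y hy hqT))
    rw [hT16, hj] at this
    omega
  have hTP : Nat.card ↥(T ⊓ P) ≤ 4 := by
    obtain ⟨k, hk⟩ := card_dvd_of_le (inf_le_right : T ⊓ P ≤ P)
    rw [hj] at hk
    have hlt : Nat.card ↥(T ⊓ P) < 8 := by
      rw [show 8 = Nat.card P by rw [hj]; norm_num]
      exact lt_of_le_of_ne (card_le_of_le inf_le_right) fun e => hqT ((eq_of_le_of_card_ge inf_le_right e.ge).ge hq).1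
    obtain ⟨i, hi, hi'⟩ := (Nat.dvd_prime_pow Nat.prime_two).mp ⟨k, hk⟩
    rw [hi'] at hlt ⊢
    have : i < 3 := (Nat.pow_lt_pow_iff_right (by norm_num : 1 < 2)).mp (by norm_num; exact hlt)
    calc 2 ^ i ≤ 2 ^ 2 := Nat.pow_le_pow_right two_pos (by omega)
      _ = 4 := by norm_num
  set C := (centralizer ({q} : Set G)).subgroupOf S with hC
  have hC4 : Nat.card C ≤ 4 := by
    have hmem : ∀ y ∈ S, y * q = q * y → y = 1 ∨ y = z ∨ y = q ∨ y = q * z := by
      intro y hy he
      have hyP := hin y hy (hcc y hy) (Or.inl he)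
      rcases hsq y hyP with h2 | h2
      · exact (hinv y hyP h2).imp id Or.inl
      · have h3 : (y * q) * (y * q) = 1 := by
          rw [show y * q * (y * q) = y * (q * y) * q by group, ← he, show y * (y * q) * q = y * y * (q * q) by group,
            h2, hqq, hz2]
        have hqi : q⁻¹ = q * z := inv_eq_of_mul_eq_one_right (by rw [← mul_assoc, hqq, hz2])
        rcases hinv _ (mul_mem hyP hq) h3 with e | e
        · exact Or.inr (Or.inr (Or.inr (by rw [eq_inv_of_mul_eq_one_left e, hqi])))
        · refine Or.inr (Or.inr (Or.inl ?_))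
          have h5 : y = z * q⁻¹ := by rw [← e, mul_inv_cancel_right]
          rw [h5, hqi, ← mul_assoc, ← hzS q (hPS hq), mul_assoc, hz2, mul_one]
    haveI : Fintype C := Fintype.ofFinite _
    have hcl := Finset.card_le_card (s := (Finset.univ : Finset C).image fun x : C => ((x : S) : G))
      (t := {1, z, q, q * z}) fun a ha => by
        obtain ⟨x, -, rfl⟩ := Finset.mem_image.mp ha
        simpa using hmem _ (x : S).2 (mem_centralizer_singleton_iff.mp x.2)
    rw [Finset.card_image_of_injective _ (fun x y e => Subtype.ext (Subtype.ext e)), Finset.card_univ,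
      ← Nat.card_eq_fintype_card] at hcl
    exact hcl.trans Finset.card_le_four
  have hTi : (T.subgroupOf S).index = 2 := by
    have h1 := (T.subgroupOf S).card_mul_index
    rw [Nat.card_congr (subgroupOfEquivOfLe hTS).toEquiv, hT16, hS] at h1
    omega
  have hf : ∀ y : S, q⁻¹ * y * q * (y : G)⁻¹ ∈ T ⊓ P := by
    intro y
    have ht : q⁻¹ * y * q * (y : G)⁻¹ ∈ T := by
      show (⟨q, hPS hq⟩ : S)⁻¹ * y * ⟨q, hPS hq⟩ * y⁻¹ ∈ T.subgroupOf S
      simp only [mul_mem_iff_of_index_two hTi, inv_mem_iff]
      tauto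
    refine ⟨ht, hin _ (hTS ht) (hcc _ (hTS ht)) ?_⟩
    set t := q⁻¹ * y * q * (y : G)⁻¹ with htdef
    have h1 : q * t * (q * t) = q * q := by
      rw [show q * t = (y : G) * q * (y : G)⁻¹ by rw [htdef]; group,
        show (y : G) * q * (y : G)⁻¹ * ((y : G) * q * (y : G)⁻¹) = y * (q * q) * (y : G)⁻¹ by group, hqq,
        hzS y y.2, mul_inv_cancel_right]
    have h2 : t * q = q * t⁻¹ := by
      apply mul_left_cancel (a := q)
      apply mul_right_cancel (b := t)
      calc q * (t * q) * t = q * t * (q * t) := by group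
        _ = q * q := h1
        _ = _ := by group
    rcases hTsq t ht with e | e
    · left; rw [h2, inv_eq_of_mul_eq_one_right e]
    · right
      rw [h2, show t⁻¹ = t * z from inv_eq_of_mul_eq_one_right (by rw [← mul_assoc, e, hz2])]
      exact (mul_assoc _ _ _).symm
  have hidx : C.index ≤ Nat.card ↥(T ⊓ P) := by
    rw [index_eq_card]
    refine Nat.card_le_card_of_injective
      (Quotient.lift (fun y : S => (⟨_, hf y⟩ : ↥(T ⊓ P))) ?_) ?_
    · intro x y hxy
      have hxy' : x⁻¹ * y ∈ C := QuotientGroup.leftRel_apply.mp hxy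
      have he := mem_centralizer_singleton_iff.mp (mem_subgroupOf.mp hxy')
      push_cast at he
      refine Subtype.ext ?_
      show q⁻¹ * x * q * (x : G)⁻¹ = q⁻¹ * y * q * (y : G)⁻¹
      calc q⁻¹ * x * q * (x : G)⁻¹ = q⁻¹ * x * (q * ((x : G)⁻¹ * y)) * (y : G)⁻¹ := by group
        _ = q⁻¹ * x * ((x : G)⁻¹ * y * q) * (y : G)⁻¹ := by rw [he]
        _ = _ := by group
    · intro u v
      induction u using Quotient.inductionOn with
      | h x =>
        induction v using Quotient.inductionOn with
        | h y =>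
          intro e
          refine Quotient.sound (QuotientGroup.leftRel_apply.mpr (mem_subgroupOf.mpr ?_))
          refine mem_centralizer_singleton_iff.mpr ?_
          have e' : (x : G) * q * (x : G)⁻¹ = y * q * (y : G)⁻¹ := by
            have h0 : q⁻¹ * x * q * (x : G)⁻¹ = q⁻¹ * y * q * (y : G)⁻¹ := congrArg Subtype.val e
            apply mul_left_cancel (a := q⁻¹)
            simpa [mul_assoc] using h0
          show (x : G)⁻¹ * y * q = q * ((x : G)⁻¹ * y)
          calc (x : G)⁻¹ * y * q = (x : G)⁻¹ * (y * q * (y : G)⁻¹) * y := by group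
            _ = (x : G)⁻¹ * (x * q * (x : G)⁻¹) * y := by rw [e']
            _ = _ := by group
  have h1 := C.card_mul_index
  rw [hS] at h1
  nlinarith

/-- No self-centralising quaternion group. -/
theorem quat_case {S E P : Subgroup G} (hSp : IsPGroup 2 S) (hS : Nat.card S = 32) (hES : E ≤ S)
    (hE8 : Nat.card E = 8) (hE2 : ∀ a ∈ E, a * a = 1) (hPS : P ≤ S) (hj : Nat.card P = 2 ^ 3)
    (hcent : ∀ s ∈ S, (∀ p ∈ P, s * p = p * s) → s ∈ P) {φ : MulAut P} {n : ℕ} (hn : Odd n) (hφn : φ ^ n = 1)
    (hφ : φ ≠ 1) {z : G} (hzP : z ∈ P) (hz2 : z * z = 1) (hz1 : z ≠ 1) (hzS : ∀ s ∈ S, s * z = z * s)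
    (hnsq : ∃ p ∈ P, p * p ≠ 1) : False := by
  classical
  haveI : Fact (Nat.Prime 2) := ⟨Nat.prime_two⟩
  obtain ⟨hinv, hsq⟩ := quat_shape (hSp.to_le hPS) hj hn hφn hφ hzP hz2 hz1
    (fun p hp => hzS p (hPS hp)) hnsq
  have hzmem : z ∈ S := hPS hzP
  have hzE : z ∈ E := by
    by_contra hzE
    obtain ⟨T, hTS, -, hT16, hT2⟩ := sixteen_of_central hES hE8 hE2 hzmem hz2 hzS hzE
    have h1 := (Products.card_mul_card_le T P).trans (Nat.mul_le_mul_right _ (card_le_of_le (sup_le hTS hPS)))
    rw [hS, hj] at h1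
    have h4 : 4 ≤ Nat.card ↥(T ⊓ P) := by nlinarith
    haveI : Fintype ↥(T ⊓ P) := Fintype.ofFinite _
    have hcl := Finset.card_le_card (s := (Finset.univ : Finset ↥(T ⊓ P)).image Subtype.val) (t := {1, z})
      fun a ha => by
        obtain ⟨x, -, rfl⟩ := Finset.mem_image.mp ha
        simpa using hinv x x.2.2 (hT2 x x.2.1)
    rw [Finset.card_image_of_injective _ Subtype.val_injective, Finset.card_univ, ← Nat.card_eq_fintype_card] at hcl
    have := hcl.trans Finset.card_le_two
    omega
  -- a second central element modulo `z`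
  set Zs : Subgroup S := zpowers ⟨z, hzmem⟩ with hZs
  haveI : Zs.Normal := ⟨fun x hx g => by
    obtain ⟨i, rfl⟩ := mem_zpowers_iff.mp hx
    have hc : Commute g (⟨z, hzmem⟩ : S) := Subtype.ext (hzS g g.2)
    rw [(hc.zpow_right i).eq, mul_inv_cancel_right]
    exact zpow_mem_zpowers _ i⟩
  have hZmem : ∀ x : S, x ∈ Zs → (x : G) = 1 ∨ (x : G) = z := by
    intro x hx
    obtain ⟨i, rfl⟩ := mem_zpowers_iff.mp hx
    rcases Int.even_or_odd i with ⟨k, rfl⟩ | ⟨k, rfl⟩
    · left; rw [SubgroupClass.coe_zpow]; show z ^ (k + k) = 1; rw [← two_mul, zpow_mul, zpow_two, hz2, one_zpow]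
    · right; rw [SubgroupClass.coe_zpow]; show z ^ (2 * k + 1) = z
      rw [zpow_add_one, zpow_mul, zpow_two, hz2, one_zpow, one_mul]
  haveI : Nontrivial (S ⧸ Zs) := by
    rw [← Finite.one_lt_card_iff_nontrivial]
    have h1 := Zs.card_mul_index
    have h2 : Nat.card Zs = 2 := by
      rw [hZs, Nat.card_zpowers, Subgroup.orderOf_mk, orderOf_eq_prime (p := 2) (by rw [pow_two, hz2]) hz1]
    rw [hS, Subgroup.index_eq_card, h2] at h1
    omega
  haveI := (hSp.to_quotient Zs).center_nontrivial
  obtain ⟨⟨cb, hcb⟩, hcb1⟩ := exists_ne (1 : Subgroup.center (S ⧸ Zs))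
  obtain ⟨c, rfl⟩ := QuotientGroup.mk'_surjective _ cb
  have hcZ : c ∉ Zs := fun hh => hcb1 (Subtype.ext ((QuotientGroup.eq_one_iff c).mpr hh))
  have hcc : ∀ s ∈ S, s * c = c * s ∨ s * c = c * s * z := fun s hs => by
    have h1 : ((c : S) * ⟨s, hs⟩)⁻¹ * (⟨s, hs⟩ * c) ∈ Zs :=
      QuotientGroup.eq.mp (Subgroup.mem_center_iff.mp hcb (QuotientGroup.mk' Zs ⟨s, hs⟩)).symm
    rcases hZmem _ h1 with e | e
    · exact Or.inl (inv_mul_eq_one.mp (show ((c : G) * s)⁻¹ * (s * c) = 1 from e)).symm
    · exact Or.inr (inv_mul_eq_iff_eq_mul.mp (show ((c : G) * s)⁻¹ * (s * c) = z from e))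
  have hanti : ∀ x ∈ P, ∀ y ∈ P, x * y = y * x ∨ y * x = x * y * z := by
    intro x hx y hy
    rcases hsq x hx with e | e
    · rcases hinv x hx e with rfl | rfl
      · left; rw [one_mul, mul_one]
      · exact Or.inl (hzS y (hPS hy)).symm
    rcases hsq y hy with e' | e'
    · rcases hinv y hy e' with rfl | rfl
      · left; rw [one_mul, mul_one]
      · exact Or.inl (hzS x (hPS hx))
    rcases hsq _ (mul_mem hx hy) with e'' | e''
    · rcases hinv _ (mul_mem hx hy) e'' with h2 | h2
      · left; rw [h2, mul_eq_one_comm.mp h2]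
      · left
        have h3 : y = x⁻¹ * z := by rw [← h2, inv_mul_cancel_left]
        rw [h3, ← mul_assoc, mul_inv_cancel, one_mul, mul_assoc, ← hzS x (hPS hx), inv_mul_cancel_left]
    · exact Or.inr (anticomm hz2 e e' e'' (hzS x (hPS hx)) (hzS y (hPS hy)))
  have hnoncomm : ∀ x ∈ P, x ≠ 1 → x ≠ z → ∃ y ∈ P, x * y ≠ y * x := by
    intro x hx hx1 hxz
    by_contra hc
    push Not at hc
    have hxx : x * x = z := (hsq x hx).resolve_left fun e => (hinv x hx e).elim hx1 hxz
    have hsub : ∀ y ∈ P, y = 1 ∨ y = z ∨ y = x ∨ y = x * z := by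
      intro y hy
      rcases hsq y hy with e | e
      · exact (hinv y hy e).imp id Or.inl
      · have h3 : y * x * (y * x) = 1 := by
          rw [show y * x * (y * x) = y * (x * y) * x by group, hc y hy,
            show y * (y * x) * x = y * y * (x * x) by group, e, hxx, hz2]
        have hxi : x⁻¹ = x * z := inv_eq_of_mul_eq_one_right (by rw [← mul_assoc, hxx, hz2])
        rcases hinv _ (mul_mem hy hx) h3 with e2 | e2
        · exact Or.inr (Or.inr (Or.inr (by rw [eq_inv_of_mul_eq_one_left e2, hxi])))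
        · refine Or.inr (Or.inr (Or.inl ?_))
          have h5 : y = z * x⁻¹ := by rw [← e2, mul_inv_cancel_right]
          rw [h5, hxi, ← mul_assoc, ← hzS x (hPS hx), mul_assoc, hz2, mul_one]
    haveI : Fintype P := Fintype.ofFinite _
    have hcl := Finset.card_le_card (s := (Finset.univ : Finset P).image Subtype.val) (t := {1, z, x, x * z})
      fun a ha => by
        obtain ⟨w, -, rfl⟩ := Finset.mem_image.mp ha
        simpa using hsub w w.2
    rw [Finset.card_image_of_injective _ Subtype.val_injective, Finset.card_univ, ← Nat.card_eq_fintype_card, hj] at hcl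
    have := hcl.trans Finset.card_le_four
    omega
  have hcP : (c : G) ∈ P := by
    obtain ⟨g, hg, hgg⟩ := hnsq
    obtain ⟨h, hh, hne⟩ := hnoncomm g hg (fun e => hgg (by rw [e, one_mul])) (fun e => hgg (by rw [e, hz2]))
    refine quat_inner hj hPS hcent hzS hz2 hinv hsq hg hh ((hanti g hg h hh).resolve_left hne) hne c c.2 ?_ ?_
    · exact (hcc g (hPS hg)).elim (fun e => Or.inl e.symm) fun e => Or.inr (by rw [e, mul_assoc, hz2, mul_one])
    · exact (hcc h (hPS hh)).elim (fun e => Or.inl e.symm) fun e => Or.inr (by rw [e, mul_assoc, hz2, mul_one])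
  have hc2 : (c : G) * c = z := by
    refine (hsq c hcP).resolve_left fun hh => ?_
    rcases hinv c hcP hh with e | e
    · exact hcZ (by rw [show c = 1 from Subtype.ext e]; exact one_mem _)
    · exact hcZ (by rw [show c = (⟨z, hzmem⟩ : S) from Subtype.ext e]; exact mem_zpowers _)
  have hcE : (c : G) ∉ E := fun hh => hz1 (hc2 ▸ hE2 _ hh)
  -- the subgroup `T = E ∪ c E`
  have hcn : ∀ a ∈ E, (c : G) * a * (c : G)⁻¹ ∈ E := fun a ha => by
    rcases hcc a (hES ha) with e | e
    · rwa [← e, mul_inv_cancel_right]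
    · have : (c : G) * a = a * c * z := by rw [e, mul_assoc, hz2, mul_one]
      rw [this, mul_assoc a, hzS c c.2, ← mul_assoc, mul_inv_cancel_right]
      exact mul_mem ha hzE
  set T : Subgroup G :=
    { carrier := {y | y ∈ E ∨ (c : G)⁻¹ * y ∈ E}
      one_mem' := Or.inl (one_mem E)
      mul_mem' := by
        intro x y hx hy
        rcases hx with hx | hx
        · rcases hy with hy | hy
          · exact Or.inl (mul_mem hx hy)
          · refine Or.inr ?_
            have h3 : (c : G)⁻¹ * x * c ∈ E := by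
              rcases hcc x (hES hx) with e | e
              · rwa [mul_assoc, e, inv_mul_cancel_left]
              · rw [mul_assoc, e, mul_assoc (c : G), inv_mul_cancel_left]; exact mul_mem hx hzE
            rw [show (c : G)⁻¹ * (x * y) = (c : G)⁻¹ * x * c * ((c : G)⁻¹ * y) by group]
            exact mul_mem h3 hy
        · rcases hy with hy | hy
          · exact Or.inr (by rw [← mul_assoc]; exact mul_mem hx hy)
          · refine Or.inl ?_
            have h3 := hcn _ hx
            have h4 : (c : G) * c * ((c : G)⁻¹ * y) ∈ E := mul_mem (hc2 ▸ hzE) hy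
            have h5 := mul_mem h3 h4
            rwa [show (c : G) * ((c : G)⁻¹ * x) * (c : G)⁻¹ * ((c : G) * c * ((c : G)⁻¹ * y)) = x * y by group] at h5
      inv_mem' := by
        rintro y (hy | hy)
        · exact Or.inl (inv_mem hy)
        · refine Or.inr ?_
          have hy2 := hcn _ (inv_mem hy)
          have h5 := mul_mem (inv_mem (hc2 ▸ hzE : (c : G) * c ∈ E)) hy2
          rwa [show ((c : G) * c)⁻¹ * ((c : G) * ((c : G)⁻¹ * y)⁻¹ * (c : G)⁻¹) = (c : G)⁻¹ * y⁻¹ by group] at h5 }
    with hTdef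
  have hTmem : ∀ y, y ∈ T ↔ y ∈ E ∨ (c : G)⁻¹ * y ∈ E := fun y => Iff.rfl
  have hTS : T ≤ S := fun y hy => by
    rcases (hTmem y).mp hy with hy | hy
    · exact hES hy
    · have := mul_mem c.2 (hES hy)
      rwa [mul_inv_cancel_left] at this
  have hT16 : Nat.card T = 16 := by
    have hle : E ≤ T := fun y hy => Or.inl hy
    have hcT : (c : G) ∈ T := (hTmem _).mpr (Or.inr (by rw [inv_mul_cancel]; exact one_mem _))
    obtain ⟨k, hk⟩ := card_dvd_of_le hle
    have h1 : Nat.card E < Nat.card T :=
      lt_of_le_of_ne (card_le_of_le hle) fun he => hcE ((eq_of_le_of_card_ge hle he.ge).ge hcT)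
    have hsur : Function.Surjective (fun p : Bool × E => (⟨if p.1 then (c : G) * p.2 else p.2, by
        rcases p with ⟨b, a, ha⟩
        cases b
        · exact Or.inl ha
        · exact Or.inr (by simpa using ha)⟩ : T)) := by
      rintro ⟨y, hy⟩
      rcases (hTmem y).mp hy with hy | hy
      · exact ⟨(false, ⟨y, hy⟩), rfl⟩
      · exact ⟨(true, ⟨_, hy⟩), Subtype.ext (by simp)⟩
    have h2 := Nat.card_le_card_of_surjective _ hsur
    rw [Nat.card_prod, hE8, show Nat.card Bool = 2 by simp] at h2
    rw [hE8] at hk h1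
    omega
  haveI hTn : (T.subgroupOf S).Normal := normal_of_index_eq_two (by
    have h1 := (T.subgroupOf S).card_mul_index
    rw [Nat.card_congr (subgroupOfEquivOfLe hTS).toEquiv, hT16, hS] at h1
    omega)
  have hTsq : ∀ y ∈ T, y * y = 1 ∨ y * y = z := by
    intro y hy
    rcases (hTmem y).mp hy with hy | hy
    · exact Or.inl (hE2 y hy)
    · obtain ⟨a, ha, rfl⟩ : ∃ a ∈ E, y = (c : G) * a := ⟨_, hy, (mul_inv_cancel_left _ _).symm⟩
      rcases hcc a (hES ha) with e | e
      · right
        calc (c : G) * a * ((c : G) * a) = (c : G) * (a * c) * a := by group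
          _ = (c : G) * ((c : G) * a) * a := by rw [e]
          _ = (c : G) * c * (a * a) := by group
          _ = z := by rw [hc2, hE2 a ha, mul_one]
      · left
        calc (c : G) * a * ((c : G) * a) = (c : G) * (a * c) * a := by group
          _ = (c : G) * ((c : G) * a * z) * a := by rw [e]
          _ = (c : G) * c * (a * (z * a)) := by group
          _ = z * (a * (a * z)) := by rw [hc2, hzS a (hES ha)]
          _ = 1 := by rw [← mul_assoc a, hE2 a ha, one_mul, hz2]
  obtain ⟨q, hq, hne⟩ := hnoncomm (c : G) hcP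
    (fun e => hcZ (by rw [show c = 1 from Subtype.ext e]; exact one_mem _))
    (fun e => hcZ (by rw [show c = (⟨z, hzmem⟩ : S) from Subtype.ext e]; exact mem_zpowers _))
  have hqq : q * q = z := by
    refine (hsq q hq).resolve_left fun e => ?_
    rcases hinv q hq e with rfl | rfl
    · exact hne (by rw [mul_one, one_mul])
    · exact hne (hzS _ c.2)
  exact quat_count hS hj hPS hTS hT16 hq hqq (Or.inl hzE) hzS hz2 hTsq hsq hinv hcc
    (quat_inner hj hPS hcent hzS hz2 hinv hsq hcP hq ((hanti _ hcP q hq).resolve_left hne) hne)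

/-- Self-centralising four groups and quaternion groups. -/
theorem no_small_centric {S E P : Subgroup G} (hSp : IsPGroup 2 S) (hS : Nat.card S = 32) (hES : E ≤ S)
    (hE8 : Nat.card E = 8) (hE2 : ∀ a ∈ E, a * a = 1) (hPS : P ≤ S)
    (hcent : ∀ s ∈ S, (∀ p ∈ P, s * p = p * s) → s ∈ P) (haut : ¬ IsPGroup 2 (MulAut P)) :
    8 ≤ Nat.card P ∧ (Nat.card P = 8 → ∀ p ∈ P, p * p = 1) := by
  classical
  haveI : Fact (Nat.Prime 2) := ⟨Nat.prime_two⟩
  obtain ⟨φ, n, hn, hφn, hφ⟩ := exists_odd_aut haut
  have hEc : ∀ a ∈ E, ∀ b ∈ E, a * b = b * a := fun a ha b hb => by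
    have h1 := inv_eq_of_mul_eq_one_right (hE2 _ (mul_mem ha hb))
    rw [mul_inv_rev, inv_eq_of_mul_eq_one_right (hE2 a ha), inv_eq_of_mul_eq_one_right (hE2 b hb)] at h1
    exact h1.symm
  haveI : Nontrivial S := Finite.one_lt_card_iff_nontrivial.mp (by omega)
  haveI := hSp.center_nontrivial
  obtain ⟨z₀, hz₀⟩ := exists_prime_orderOf_dvd_card' (G := Subgroup.center S) 2 (by
    obtain ⟨i, hi, he⟩ := (hSp.to_subgroup (Subgroup.center S)).nontrivial_iff_card.mp inferInstance
    rw [he]; exact dvd_pow_self 2 (by omega))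
  obtain ⟨z, hzS, hz2, hz1⟩ : ∃ z : G, (∀ s ∈ S, s * z = z * s) ∧ z * z = 1 ∧ (z ≠ 1 ∧ z ∈ S) := by
    refine ⟨((z₀ : S) : G), fun s hs => congrArg Subtype.val (mem_center_iff.mp z₀.2 ⟨s, hs⟩), ?_, ?_, (z₀ : S).2⟩
    · have h := pow_orderOf_eq_one z₀
      rw [hz₀, pow_two] at h
      exact congrArg (fun x : Subgroup.center S => ((x : S) : G)) h
    · intro h
      have : z₀ = 1 := Subtype.ext (Subtype.ext h)
      rw [this, orderOf_one] at hz₀
      omega
  have hzP : z ∈ P := hcent z hz1.2 fun p hp => (hzS p (hPS hp)).symm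
  obtain ⟨j, hj⟩ := (hSp.to_le hPS).exists_card_eq
  by_contra hcon
  have hj3 : j ≤ 3 := by
    by_contra hc
    have : 2 ^ 4 ≤ 2 ^ j := Nat.pow_le_pow_right two_pos (by omega)
    exact hcon ⟨by omega, fun he => by omega⟩
  have hP1 : 2 ≤ Nat.card P := by
    haveI : Fintype P := Fintype.ofFinite _
    have hle := Finset.card_le_univ ({1, ⟨z, hzP⟩} : Finset P)
    rw [Finset.card_pair (by simp [Subtype.ext_iff, Ne.symm hz1.1]), ← Nat.card_eq_fintype_card] at hle
    exact hle
  haveI : Fintype P := Fintype.ofFinite _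
  set Z : P := ⟨z, hzP⟩ with hZdef
  have hZZ : Z * Z = 1 := Subtype.ext hz2
  have hZ1 : Z ≠ 1 := fun h => hz1.1 (congrArg Subtype.val h)
  interval_cases j
  · rw [hj] at hP1
    norm_num at hP1
  · refine hφ (MulEquiv.ext fun p => ?_)
    show φ p = p
    have huniv : ({1, Z} : Finset P) = Finset.univ := by
      refine Finset.eq_univ_of_card _ ?_
      rw [Finset.card_pair (Ne.symm hZ1), ← Nat.card_eq_fintype_card, hj]
      norm_num
    have hm : ∀ q : P, q = 1 ∨ q = Z := fun q => by
      have := huniv ▸ Finset.mem_univ q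
      simpa using this
    rcases hm p with rfl | rfl
    · exact map_one φ
    · exact (hm (φ Z)).resolve_left fun h => hZ1 (φ.injective (h.trans (map_one φ).symm))
  · -- order 4
    obtain ⟨q, hqZ⟩ : ∃ q : P, q ∉ ({1, Z} : Finset P) := by
      by_contra hc
      push Not at hc
      have hle := Finset.card_le_card (show (Finset.univ : Finset P) ⊆ {1, Z} from fun q _ => hc q)
      rw [Finset.card_univ, ← Nat.card_eq_fintype_card, hj] at hle
      have := hle.trans Finset.card_le_two
      omega
    simp only [Finset.mem_insert, Finset.mem_singleton, not_or] at hqZ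
    have huniv : ∀ p : P, p = 1 ∨ p = Z ∨ p = q ∨ p = q * Z := by
      intro p
      set T : Finset P := {1, Z, q, q * Z} with hT
      have hcard : T.card = 4 := by
        rw [hT, Finset.card_insert_of_notMem, Finset.card_insert_of_notMem, Finset.card_pair]
        · exact fun hh => hZ1 (mul_eq_left.mp hh.symm)
        · simp only [Finset.mem_insert, Finset.mem_singleton, not_or]
          exact ⟨Ne.symm hqZ.2, fun hh => hqZ.1 (mul_eq_right.mp hh.symm)⟩
        · simp only [Finset.mem_insert, Finset.mem_singleton, not_or]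
          exact ⟨Ne.symm hZ1, Ne.symm hqZ.1, fun hh => hqZ.2 (mul_right_cancel (hh.symm.trans hZZ.symm))⟩
      have hx : p ∈ T := (Finset.eq_univ_of_card T (by rw [hcard, ← Nat.card_eq_fintype_card, hj]; norm_num)).symm ▸
        Finset.mem_univ p
      rw [hT] at hx
      simpa using hx
    by_cases hqq : q * q = 1
    swap
    · -- cyclic
      have hqZ' : q * q = Z := by
        rcases huniv (q * q) with h | h | h | h
        · exact absurd h hqq
        · exact h
        · exact absurd (mul_eq_left.mp h) hqZ.1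
        · exact absurd (mul_left_cancel h) hqZ.2
      have hφZ : φ Z = Z := by
        rcases huniv (φ q) with h | h | h | h
        · exact absurd (φ.injective (h.trans (map_one φ).symm)) hqZ.1
        · exfalso
          have h0 : φ Z = 1 := by
            conv_lhs => rw [← hqZ']
            rw [map_mul, h, hZZ]
          exact hZ1 (φ.injective (h0.trans (map_one φ).symm))
        · rw [← hqZ', map_mul, h]
        · rw [← hqZ', map_mul, h]
          calc q * Z * (q * Z) = q * (Z * q) * Z := by group
            _ = q * (q * Z) * Z := by rw [show Z * q = q * Z from Subtype.ext (hzS q (hPS q.2)).symm]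
            _ = q * q * (Z * Z) := by group
            _ = q * q := by rw [hZZ, mul_one]
      refine hφ (MulEquiv.ext fun p => ?_)
      show φ p = p
      have hq' : φ q = q := by
        refine fix_of_pair φ hn hφn (b := q * Z) ?_ ?_
        · rcases huniv (φ q) with h | h | h | h
          · exact absurd (φ.injective (h.trans (map_one φ).symm)) hqZ.1
          · exact absurd (φ.injective (h.trans hφZ.symm)) hqZ.2
          · exact Or.inl h
          · exact Or.inr h
        · rw [map_mul, hφZ]
          rcases huniv (φ q) with h | h | h | h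
          · exact absurd (φ.injective (h.trans (map_one φ).symm)) hqZ.1
          · exact absurd (φ.injective (h.trans hφZ.symm)) hqZ.2
          · exact Or.inr (by rw [h])
          · exact Or.inl (by rw [h, mul_assoc, hZZ, mul_one])
      rcases huniv p with rfl | rfl | rfl | rfl
      · exact map_one φ
      · exact hφZ
      · exact hq'
      · rw [map_mul, hφZ, hq']
    -- a four group
    have hq2 : (q : G) * q = 1 := congrArg Subtype.val hqq
    have hCq : ∀ s ∈ S, s * q = q * s → s ∈ P ∧ (s = 1 ∨ s = z ∨ s = q ∨ s = q * z) := by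
      intro s hs hc
      have hsP : s ∈ P := hcent s hs fun p hp => by
        rcases huniv ⟨p, hp⟩ with h | h | h | h <;> obtain rfl := congrArg Subtype.val h
        · simp
        · exact hzS s hs
        · exact hc
        · show s * ((q : G) * z) = (q : G) * z * s
          rw [← mul_assoc, hc, mul_assoc, hzS s hs, mul_assoc]
      exact ⟨hsP, (huniv ⟨s, hsP⟩).imp (congrArg Subtype.val) (Or.imp (congrArg Subtype.val)
        (Or.imp (congrArg Subtype.val) (congrArg Subtype.val)))⟩
    have hzE : z ∈ E := by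
      by_contra hzE
      obtain ⟨T, hTS, hzT, hT16, hT2⟩ := sixteen_of_central hES hE8 hE2 hz1.2 hz2 hzS hzE
      exact four_case_sixteen hS hTS hT16 hT2 hzT (hPS q.2) hz2 hq2 (by rw [hj]; norm_num) hCq
    have hqE : (q : G) ∉ E := fun hqE => by
      have hle : E ≤ P := fun a ha => (hCq a (hES ha) (hEc a ha q hqE)).1
      have := card_le_of_le hle
      rw [hE8, hj] at this
      omega
    set T := S ⊓ Subgroup.normalizer (E : Set G) with hTdef
    have hfixed : ∀ x ∈ T, (q : G) * x * (q : G)⁻¹ = x → (q : G) ∉ T → x = 1 ∨ x = z := by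
      intro x hx hfix hqT
      rcases (hCq x hx.1 (mul_inv_eq_iff_eq_mul.mp hfix).symm).2 with h | h | h | h
      · exact Or.inl h
      · exact Or.inr h
      · exact absurd (h ▸ hx) hqT
      · refine absurd ?_ hqT
        have hzT : z ∈ T := ⟨hz1.2, Subgroup.le_normalizer hzE⟩
        have h2 := mul_mem (h ▸ hx : (q : G) * z ∈ T) hzT
        rwa [mul_assoc, hz2, mul_one] at h2
    have hqi : (q : G)⁻¹ = q := inv_eq_of_mul_eq_one_right hq2
    by_cases hqT : (q : G) ∈ T
    · have hnorm : ∀ a ∈ E, (q : G) * a * (q : G)⁻¹ ∈ E := fun a ha => (mem_normalizer_iff.mp hqT.2 a).mp ha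
      have hcases : ∀ a ∈ E, (q : G) * a * (q : G)⁻¹ = a ∨ (q : G) * a * (q : G)⁻¹ = a * z := by
        intro a ha
        have hfx : (a * ((q : G) * a * (q : G)⁻¹)) * q = q * (a * ((q : G) * a * (q : G)⁻¹)) := by
          rw [hqi]
          calc a * ((q : G) * a * q) * q = a * (q * a) * (q * q) := by group
            _ = a * (q * a) := by rw [hq2, mul_one]
            _ = a * (q * a * q) * q := by
                rw [mul_assoc a ((q : G) * a * q) q, mul_assoc ((q : G) * a) q q, hq2, mul_one]
            _ = q * a * q * a * q := by rw [hEc a ha _ (by have := hnorm a ha; rwa [hqi] at this)]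
            _ = q * (a * (q * a * q)) := by group
        rcases (hCq _ (hES (mul_mem ha (hnorm a ha))) hfx).2 with h | h | h | h
        · left
          rw [← inv_eq_of_mul_eq_one_right h, inv_eq_of_mul_eq_one_right (hE2 a ha)]
        · right
          rw [← h, ← mul_assoc, hE2 a ha, one_mul]
        · exact absurd (h ▸ mul_mem ha (hnorm a ha)) hqE
        · refine absurd ?_ hqE
          have h2 := mul_mem (h ▸ mul_mem ha (hnorm a ha) : (q : G) * z ∈ E) hzE
          rwa [mul_assoc, hz2, mul_one] at h2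
      -- at most four elements
      haveI : Fintype E := Fintype.ofFinite _
      let f : E → Bool := fun a => decide ((q : G) * a * (q : G)⁻¹ = a)
      have hfib : ∀ a b : E, f a = f b → (a : G) * b = 1 ∨ (a : G) * b = z := by
        intro a b hab
        have hm : (q : G) * (a * b) * (q : G)⁻¹ = a * b := by
          rw [show (q : G) * (a * b) * (q : G)⁻¹ = q * a * (q : G)⁻¹ * (q * b * (q : G)⁻¹) by group]
          rcases hcases a a.2 with h | h <;> rcases hcases b b.2 with h' | h' <;> simp [f, h, h', hz1.1] at hab ⊢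
          rw [mul_assoc, ← mul_assoc z, ← hzS b (hES b.2), mul_assoc (b : G), hz2, mul_one]
        rcases (hCq _ (hES (mul_mem a.2 b.2)) (mul_inv_eq_iff_eq_mul.mp hm).symm).2 with h | h | h | h
        · exact Or.inl h
        · exact Or.inr h
        · exact absurd (h ▸ mul_mem a.2 b.2) hqE
        · refine absurd ?_ hqE
          have h2 := mul_mem (h ▸ mul_mem a.2 b.2 : (q : G) * z ∈ E) hzE
          rwa [mul_assoc, hz2, mul_one] at h2
      have hle := Finset.card_le_mul_card_image (s := (Finset.univ : Finset E)) (f := f) 2 fun c _ => by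
        rcases Finset.eq_empty_or_nonempty ({a ∈ (Finset.univ : Finset E) | f a = c}) with h | ⟨a, ha⟩
        · simp [h]
        refine (Finset.card_le_card (t := {a, ⟨a * z, mul_mem a.2 hzE⟩}) fun b hb => ?_).trans Finset.card_le_two
        simp only [Finset.mem_filter, Finset.mem_univ, true_and] at ha hb
        simp only [Finset.mem_insert, Finset.mem_singleton]
        rcases hfib a b (ha.trans hb.symm) with h | h
        · exact Or.inl (Subtype.ext (by rw [← inv_eq_of_mul_eq_one_right h, inv_eq_of_mul_eq_one_right (hE2 a a.2)]))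
        · exact Or.inr (Subtype.ext (by
            show (b : G) = a * z
            rw [← h, ← mul_assoc, hE2 a a.2, one_mul]))
      rw [Finset.card_univ, ← Nat.card_eq_fintype_card, hE8] at hle
      have h2 := Finset.card_le_univ ((Finset.univ : Finset E).image f)
      rw [Fintype.card_bool] at h2
      omega
    -- `q` moves `E` to another subgroup of `T`
    have hTi : Nat.card T = 16 ∧ (T.subgroupOf S).Normal := by
      have hlt : T < S := lt_of_le_of_ne inf_le_left fun he => hqT (he.ge (hPS q.2))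
      have hET : E ≤ T := le_inf hES Subgroup.le_normalizer
      have h16 : Nat.card T = 16 := by
        have hne : E ≠ T := by
          intro hh
          haveI : Group.IsNilpotent S := hSp.isNilpotent
          have hN := Group.normalizerCondition_of_isNilpotent (G := S) (E.subgroupOf S) (by
            rw [lt_top_iff_ne_top, Ne, Subgroup.subgroupOf_eq_top]
            intro hle
            have := card_le_of_le hle
            rw [hS, hE8] at this
            omega)
          obtain ⟨y, hyN, hyE⟩ := SetLike.exists_of_lt hN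
          refine hyE (show (y : G) ∈ E from hh.ge ⟨y.2, Subgroup.mem_normalizer_fintype fun a ha => ?_⟩)
          exact (Subgroup.mem_normalizer_iff.mp hyN ⟨a, hES ha⟩).mp ha
        obtain ⟨i, hi⟩ := (hSp.to_le hlt.le).exists_card_eq
        have h3 : 2 ^ 3 < 2 ^ i := by
          rw [← hi, show (2 : ℕ) ^ 3 = 8 by norm_num, ← hE8]
          exact lt_of_le_of_ne (card_le_of_le hET) fun hh => hne (eq_of_le_of_card_ge hET hh.ge)
        have h4 : 2 ^ i < 2 ^ 5 := by
          rw [← hi, show (2 : ℕ) ^ 5 = 32 by norm_num, ← hS]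
          exact lt_of_le_of_ne (card_le_of_le hlt.le) fun hh => hlt.ne (eq_of_le_of_card_ge hlt.le hh.ge)
        rw [Nat.pow_lt_pow_iff_right (by norm_num)] at h3 h4
        rw [hi, show i = 4 by omega]
        norm_num
      refine ⟨h16, normal_of_index_eq_two ?_⟩
      have h1 := (T.subgroupOf S).card_mul_index
      rw [Nat.card_congr (subgroupOfEquivOfLe hlt.le).toEquiv, h16, hS] at h1
      omega
    obtain ⟨hT16, hTn⟩ := hTi
    have hTq : ∀ x ∈ T, (q : G) * x * (q : G)⁻¹ ∈ T := fun x hx => hTn.conj_mem ⟨x, hx.1⟩ hx ⟨q, hPS q.2⟩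
    set E' := E.map (MulAut.conj (q : G)).toMonoidHom with hE'
    have hET : E ≤ T := le_inf hES Subgroup.le_normalizer
    have hE'T : E' ≤ T := by
      rintro _ ⟨a, ha, rfl⟩
      exact hTq a (hET ha)
    have h4 : 4 ≤ Nat.card ↥(E ⊓ E') := by
      have h1 := (Products.card_mul_card_le E E').trans (Nat.mul_le_mul_right _ (card_le_of_le (sup_le hET hE'T)))
      rw [hE', card_map_conj, ← hE', hE8, hT16] at h1
      omega
    have hE'mem : ∀ x, x ∈ E' ↔ (q : G)⁻¹ * x * q ∈ E := fun x => mem_map_conj
    have hflip : ∀ x ∈ E ⊓ E', (q : G) * x * (q : G)⁻¹ ∈ E ⊓ E' := fun x hx => by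
      refine ⟨?_, ⟨x, hx.1, rfl⟩⟩
      have := (hE'mem x).mp hx.2
      rw [hqi] at this ⊢
      exact this
    obtain ⟨y, hy, hyz⟩ : ∃ y ∈ E ⊓ E', y ≠ 1 ∧ y ≠ z := by
      haveI : Fintype ↥(E ⊓ E') := Fintype.ofFinite _
      by_contra hc
      push Not at hc
      have hcl := Finset.card_le_card (s := (Finset.univ : Finset ↥(E ⊓ E')).image Subtype.val) (t := {1, z})
        fun a ha => by
          obtain ⟨x, -, rfl⟩ := Finset.mem_image.mp ha
          simp only [Finset.mem_insert, Finset.mem_singleton]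
          exact or_iff_not_imp_left.mpr (hc x x.2)
      rw [Finset.card_image_of_injective _ Subtype.val_injective, Finset.card_univ, ← Nat.card_eq_fintype_card] at hcl
      have := hcl.trans Finset.card_le_two
      omega
    have hyq : (q : G) * y * (q : G)⁻¹ = y * z := by
      have hy' := hflip y hy
      rw [hqi] at hy' ⊢
      have hfx : (q : G) * (y * (q * y * q)) * (q : G)⁻¹ = y * (q * y * q) := by
        rw [hqi]
        calc (q : G) * (y * (q * y * q)) * q = q * y * q * y * (q * q) := by group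
          _ = q * y * q * y := by rw [hq2, mul_one]
          _ = _ := hEc _ hy'.1 _ hy.1
      rcases hfixed _ (mul_mem (hET hy.1) (hET hy'.1)) hfx hqT with h | h
      · exfalso
        have h2 : (q : G) * y * q = y := by
          rw [← inv_eq_of_mul_eq_one_right h, inv_eq_of_mul_eq_one_right (hE2 y hy.1)]
        exact (hfixed y (hET hy.1) (by rw [hqi]; exact h2) hqT).elim hyz.1 hyz.2
      · rw [← h, ← mul_assoc, hE2 y hy.1, one_mul]
    obtain ⟨e, he, heC⟩ : ∃ e ∈ E, e ∉ E ⊓ E' := by
      by_contra hc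
      push Not at hc
      have hEE : E ≤ E' := fun a ha => (hc a ha).2
      refine hqT ⟨hPS q.2, mem_normalizer_fintype fun a ha => ?_⟩
      have := (hE'mem a).mp (hEE ha)
      rw [hqi] at this ⊢
      exact this
    set e' := (q : G) * e * (q : G)⁻¹ with he'
    have he'E' : e' ∈ E' := ⟨e, he, rfl⟩
    have hwC : e * e' * (e * e') ∈ E ⊓ E' := by
      refine ⟨?_, ?_⟩
      · have h1 := (mem_normalizer_iff.mp (hE'T he'E').2 e).mp he
        have e2 : e * e' * (e * e') = e * (e' * e * e'⁻¹) := by
          rw [show e'⁻¹ = e' by rw [he', show ((q : G) * e * (q : G)⁻¹)⁻¹ = q * e⁻¹ * (q : G)⁻¹ by group,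
            inv_eq_of_mul_eq_one_right (hE2 e he)]]
          group
        rw [e2]
        exact mul_mem he h1
      · have hcj : e * e' * e⁻¹ ∈ E' := by
          rw [hE'mem]
          have ht : (q : G)⁻¹ * e * q ∈ T := by
            have := hTq e (hET he); rw [hqi] at this ⊢; exact this
          rw [show (q : G)⁻¹ * (e * e' * e⁻¹) * q = ((q : G)⁻¹ * e * q) * e * ((q : G)⁻¹ * e * q)⁻¹ by rw [he']; group]
          exact (mem_normalizer_iff.mp ht.2 e).mp he
        have e2 : e * e' * (e * e') = e * e' * e⁻¹ * e' := by rw [inv_eq_of_mul_eq_one_right (hE2 e he)]; group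
        rw [e2]
        exact mul_mem hcj he'E'
    have hqe' : (q : G) * e' * (q : G)⁻¹ = e := by
      rw [he', show (q : G) * (q * e * (q : G)⁻¹) * (q : G)⁻¹ = q * q * e * ((q : G) * q)⁻¹ by group, hq2]; group
    have hei : e⁻¹ = e := inv_eq_of_mul_eq_one_right (hE2 e he)
    have he'i : e'⁻¹ = e' := by rw [he', show ((q : G) * e * (q : G)⁻¹)⁻¹ = q * e⁻¹ * (q : G)⁻¹ by group, hei]
    have hw : (q : G) * (e * e' * (e * e')) * (q : G)⁻¹ = e * e' * (e * e') := by
      calc (q : G) * (e * e' * (e * e')) * (q : G)⁻¹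
          = (q * e * (q : G)⁻¹) * (q * e' * (q : G)⁻¹) * ((q * e * (q : G)⁻¹) * (q * e' * (q : G)⁻¹)) := by group
        _ = e' * e * (e' * e) := by rw [hqe', ← he']
        _ = (e * e' * (e * e'))⁻¹ := by rw [mul_inv_rev, mul_inv_rev, hei, he'i]
        _ = _ := inv_eq_of_mul_eq_one_right (hE2 _ hwC.1)
    have hee : (q : G) * (e * e') * (q : G)⁻¹ = e' * e := by
      calc (q : G) * (e * e') * (q : G)⁻¹ = (q * e * (q : G)⁻¹) * (q * e' * (q : G)⁻¹) := by group
        _ = e' * e := by rw [hqe', ← he']
    obtain ⟨x, hxT, hxq, hxC⟩ : ∃ x ∈ T, (q : G) * x * (q : G)⁻¹ = x ∧ ∃ c ∈ E ⊓ E', x = e * e' * c := by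
      have hTee : e * e' ∈ T := mul_mem (hET he) (hE'T he'E')
      rcases hfixed _ (hET hwC.1) hw hqT with h | h
      · refine ⟨e * e', hTee, ?_, 1, one_mem _, (mul_one _).symm⟩
        rw [hee, ← inv_eq_of_mul_eq_one_right h, mul_inv_rev, hei, he'i]
      · refine ⟨e * e' * y, mul_mem hTee (hET hy.1), ?_, y, hy, rfl⟩
        rw [show (q : G) * (e * e' * y) * (q : G)⁻¹ = q * (e * e') * (q : G)⁻¹ * (q * y * (q : G)⁻¹) by group, hee, hyq]
        have h5 : e' * e = e * e' * z := by
          calc e' * e = (e * e')⁻¹ := by rw [mul_inv_rev, hei, he'i]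
            _ = e * e' * z := inv_eq_of_mul_eq_one_right (by rw [← mul_assoc, h, hz2])
        rw [h5]
        calc e * e' * z * (y * z) = e * e' * (z * y) * z := by group
          _ = e * e' * (y * z) * z := by rw [hzS y (hES hy.1)]
          _ = e * e' * y := by rw [mul_assoc, mul_assoc y, hz2, mul_one]
    obtain ⟨c, hc, rfl⟩ := hxC
    have hzC : e * e' * c ∈ E := by
      rcases hfixed _ hxT hxq hqT with h | h <;> rw [h]
      exacts [one_mem _, hzE]
    have he'E : e' ∈ E := by
      have := mul_mem (mul_mem (inv_mem he) hzC) (inv_mem hc.1)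
      rwa [show e⁻¹ * (e * e' * c) * c⁻¹ = e' by group] at this
    exact heC ⟨he, (hE'mem e).mpr (by rw [hqi]; rw [he', hqi] at he'E; exact he'E)⟩
  · -- order 8
    have hnsq : ∃ p ∈ P, p * p ≠ 1 := by
      by_contra hc
      push Not at hc
      exact hcon ⟨by omega, fun _ => hc⟩
    exact quat_case hSp hS hES hE8 hE2 hPS hj hcent hn hφn hφ hzP hz2 hz1.1 hzS hnsq

end CfsgLib.LenSeven
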