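import Cfsg.Agent.Lib.LenSeven.Two
import Cfsg.Agent.Lib.LenSeven.EightLemma
import Cfsg.Agent.Lib.LenSeven.Small
import Cfsg.Agent.Lib.LenSeven.AutEight
import Cfsg.Agent.Lib.FiveOrbits.Setup

/-!
How the automisers of centric subgroups of a Sylow 2-subgroup of order 32 act.
-/

set_option autoImplicit false
set_option linter.style.haveILetI false
set_option linter.unusedSectionVars false

open Subgroup

namespace CfsgLib.LenSeven

variable {G : Type*} [Group G] [Finite G]

/-- When the odd elements of `N(P)` centralise `P`, a Sylow subgroup gives all automorphisms. -/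
theorem acts_as_sylow (T : Sylow 2 G) {P : Subgroup G}
    (hT : (T : Subgroup G) ≤ Subgroup.normalizer (P : Set G))
    (hodd : ∀ x ∈ Subgroup.normalizer (P : Set G), Odd (orderOf x) → x ∈ centralizer (P : Set G))
    {g : G} (hg : g ∈ Subgroup.normalizer (P : Set G)) :
    ∃ t ∈ (T : Subgroup G), ∀ x ∈ P, g * x * g⁻¹ = t * x * t⁻¹ := by
  haveI : Fact (Nat.Prime 2) := ⟨Nat.prime_two⟩
  set N := Subgroup.normalizer (P : Set G) with hN
  set φ := Subgroup.normalizerMonoidHom P with hφ
  haveI : Finite φ.range := Set.Finite.to_subtype (Set.finite_range φ)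
  have h2 : IsPGroup 2 φ.range := by
    rintro ⟨_, ⟨y, hy⟩, rfl⟩
    have hne : orderOf y ≠ 0 := (orderOf_pos y).ne'
    obtain ⟨k, m, hm, he⟩ := Nat.exists_eq_pow_mul_and_not_dvd (orderOf_pos (⟨y, hy⟩ : N)).ne' 2 (by norm_num)
    refine ⟨k, Subtype.ext ?_⟩
    show φ ⟨y, hy⟩ ^ 2 ^ k = 1
    rw [← map_pow, ← MonoidHom.mem_ker, hφ, normalizerMonoidHom_ker]
    refine hodd _ (⟨y, hy⟩ ^ 2 ^ k : N).2 ?_
    show Odd (orderOf (((⟨y, hy⟩ : N) ^ 2 ^ k : N) : G))
    rw [orderOf_coe, orderOf_pow, he, Nat.gcd_eq_right (dvd_mul_right _ _), Nat.mul_div_cancel_left _ (by positivity)]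
    exact Nat.odd_iff.mpr (Nat.two_dvd_ne_zero.mp hm)
  set R := φ.rangeRestrict with hR
  set U := ((T : Subgroup G).subgroupOf N).map R with hU
  have hUtop : U = ⊤ := by
    have hodd' : ¬ 2 ∣ U.index := fun hd => T.not_dvd_index <|
      (hd.trans ((index_map_dvd _ φ.rangeRestrict_surjective).trans dvd_rfl)).trans (Subgroup.relIndex_dvd_index_of_le hT)
    rw [← index_eq_one]
    obtain ⟨n, hn⟩ := h2.index U
    rcases Nat.eq_zero_or_pos n with rfl | hn0
    · rw [hn, pow_zero]
    · exact absurd (hn ▸ dvd_pow_self 2 hn0.ne') hodd'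
  obtain ⟨⟨t, htN⟩, ht, he⟩ := hUtop.ge (mem_top (R ⟨g, hg⟩))
  refine ⟨t, ht, fun x hx => ?_⟩
  exact (congrArg (fun e : φ.range => (((e : MulAut P) ⟨x, hx⟩ : P) : G)) he).symm

/-- The automiser of `P` either comes from `N(S)` or lives inside an `Ess` subgroup. -/
theorem Hyp.kinds (h : Hyp G) (S : Sylow 2 G) (hS : Nat.card (S : Subgroup G) = 32) {E : Subgroup G}
    (hES : E ≤ (S : Subgroup G)) (hE8 : Nat.card E = 8) (hE2 : ∀ a ∈ E, a * a = 1) {P : Subgroup G}
    (hPS : P ≤ (S : Subgroup G))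
    (hcent : ∀ s ∈ (S : Subgroup G), (∀ p ∈ P, s * p = p * s) → s ∈ P) (haut : ¬ IsPGroup 2 (MulAut P))
    {g : G} (hg : g ∈ Subgroup.normalizer (P : Set G)) :
    (∃ n ∈ Subgroup.normalizer ((S : Subgroup G) : Set G), ∀ x ∈ P, g * x * g⁻¹ = n * x * n⁻¹) ∨
      ∃ Q, Ess (S : Subgroup G) Q ∧ P ≤ Q := by
  classical
  haveI : Fact (Nat.Prime 2) := ⟨Nat.prime_two⟩
  set N := Subgroup.normalizer (P : Set G) with hN
  obtain ⟨h8, h8'⟩ := no_small_centric S.2 hS hES hE8 hE2 hPS hcent haut
  obtain ⟨i, hi⟩ := (S.2.to_le hPS).exists_card_eq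
  have hle5 : i ≤ 5 := by
    have := card_le_of_le hPS
    rw [hi, hS, show 32 = 2 ^ 5 by norm_num] at this
    exact (Nat.pow_le_pow_iff_right (by norm_num)).mp this
  have hge3 : 3 ≤ i := by
    rw [hi, show 8 = 2 ^ 3 by norm_num] at h8
    exact (Nat.pow_le_pow_iff_right (by norm_num)).mp h8
  have hP2 : IsPGroup 2 P := S.2.to_le hPS
  have hNtop : N ≠ ⊤ := h.normalizer_ne_top (fun e => by rw [e, card_bot] at h8; omega) (h.ne_top_of_isPGroup hP2)
  interval_cases i <;> norm_num at hi
  · -- order 8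
    have hP1 := h8' hi
    by_cases hnorm : (S : Subgroup G) ≤ N
    · set φ := Subgroup.normalizerMonoidHom P with hφ
      set Sb := ((S : Subgroup G).subgroupOf N).map φ with hSb
      set X := (Sb.comap φ).map N.subtype with hX
      have hSX : (S : Subgroup G) ≤ X := fun s hs => ⟨⟨s, hnorm hs⟩, ⟨⟨s, hnorm hs⟩, hs, rfl⟩, rfl⟩
      have hXN : X ≤ N := map_subtype_le _
      rcases eq_or_lt_of_le hSX with heq | hlt
      swap
      · -- every automorphism comes from `S`
        obtain ⟨g', hg', hgg⟩ := (h.between hS hlt hXN hNtop).ge hg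
        obtain rfl : g' = ⟨g, hg⟩ := Subtype.ext hgg
        obtain ⟨⟨s, hsN⟩, hs, he⟩ := hg'
        exact Or.inl ⟨s, Subgroup.le_normalizer hs, fun x hx =>
          (congrArg (fun e : MulAut P => ((e ⟨x, hx⟩ : P) : G)) he).symm⟩
      by_cases hNS : N ≤ Subgroup.normalizer ((S : Subgroup G) : Set G)
      · exact Or.inl ⟨g, hNS hg, fun _ _ => rfl⟩
      exfalso
      haveI : Finite (MulAut P) := Finite.of_injective (fun φ : MulAut P => (φ : P → P)) DFunLike.coe_injective
      have hpre : ∀ m : N, φ m ∈ Sb ↔ (m : G) ∈ (S : Subgroup G) := fun m => by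
        refine ⟨fun hm => heq.ge ⟨m, hm, rfl⟩, fun hm => ⟨m, hm, rfl⟩⟩
      have hcomap : Sb.comap φ = (S : Subgroup G).subgroupOf N := SetLike.ext fun m => hpre m
      have hker : φ.ker = P.subgroupOf N := by
        rw [hφ, normalizerMonoidHom_ker]
        refine SetLike.ext fun m => ⟨fun hm => ?_, fun hm => ?_⟩
        · have hm1 : φ m = 1 := MonoidHom.mem_ker.mp (by rw [hφ, normalizerMonoidHom_ker]; exact hm)
          exact hcent _ ((hpre m).mp (hm1 ▸ one_mem _)) fun p hp => (mem_centralizer_iff.mp hm p hp).symm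
        · exact mem_centralizer_iff.mpr fun p hp => exp_two_comm (X := P) (fun x => Subtype.ext (hP1 x x.2))
            ⟨p, hp⟩ ⟨m, hm⟩ |> congrArg Subtype.val
      have hSb4 : Nat.card Sb = 4 := by
        have hle : φ.ker ≤ (S : Subgroup G).subgroupOf N := hker.le.trans fun m hm => hPS hm
        have h2 := Subgroup.relIndex_ker ((S : Subgroup G).subgroupOf N) φ
        have h3 := Products.card_mul_relIndex_of_le hle
        rw [h2, hker, Nat.card_congr (subgroupOfEquivOfLe (Subgroup.le_normalizer)).toEquiv, hi,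
          Nat.card_congr (subgroupOfEquivOfLe hnorm).toEquiv, hS] at h3
        rw [hSb]
        omega
      have hlt' : Sb < φ.range := by
        refine lt_of_le_of_ne (map_le_range _ _) fun e => hNS fun m hm => ?_
        exact Subgroup.le_normalizer ((hpre ⟨m, hm⟩).mp (e.ge ⟨_, rfl⟩))
      refine no_coatom_four (X := P) (fun x => Subtype.ext (hP1 x x.2)) hi hlt' hSb4 ?_ ?_ ?_
      · rw [Nat.odd_iff, ← Nat.two_dvd_ne_zero]
        intro hd
        rw [← index_comap, hcomap] at hd
        exact S.not_dvd_index (hd.trans (Subgroup.relIndex_dvd_index_of_le hnorm))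
      · intro Y hY1 hY2
        set Y' := (Y.comap φ).map N.subtype with hY'
        have hSY : (S : Subgroup G) ≤ Y' := fun s hs => ⟨⟨s, hnorm hs⟩, hY1 ⟨⟨s, hnorm hs⟩, hs, rfl⟩, rfl⟩
        rcases eq_or_lt_of_le hSY with e | e
        · refine Or.inl (le_antisymm (fun y hy => ?_) hY1)
          obtain ⟨m, rfl⟩ := hY2 hy
          exact (hpre m).mpr (e.ge ⟨m, hy, rfl⟩)
        · refine Or.inr (le_antisymm hY2 ?_)
          rintro _ ⟨m, rfl⟩
          obtain ⟨m', hm', hmm⟩ := (h.between hS e (map_subtype_le _) hNtop).ge m.2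
          obtain rfl : m' = m := Subtype.ext hmm
          exact hm'
      · obtain ⟨m, hm, hmS⟩ := SetLike.not_le_iff_exists.mp hNS
        obtain ⟨s, hs, hms⟩ : ∃ s ∈ (S : Subgroup G), m * s * m⁻¹ ∉ (S : Subgroup G) := by
          by_contra hc
          push Not at hc
          exact hmS (mem_normalizer_fintype fun s hs => hc s hs)
        refine ⟨_, ⟨⟨m, hm⟩, rfl⟩, _, ⟨⟨s, hnorm hs⟩, hs, rfl⟩, fun hc => hms ?_⟩
        rw [← map_inv, ← map_mul, ← map_mul] at hc
        exact (hpre _).mp hc
    · -- not normal in `S`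
      obtain ⟨S', hPS', hS'N⟩ := h.exists_sylow_normalizing S hS hPS hi hP1 hcent
      set W := (S : Subgroup G) ⊓ N with hW
      have hPW : P ≤ W := le_inf hPS Subgroup.le_normalizer
      have hWlt : W < (S : Subgroup G) := lt_of_le_of_ne inf_le_left fun e => hnorm (e.ge.trans inf_le_right)
      have hW16 : Nat.card W = 16 := by
        have hne : P ≠ W := by
          intro e
          haveI : Group.IsNilpotent (S : Subgroup G) := S.2.isNilpotent
          have hlt := Group.normalizerCondition_of_isNilpotent (G := (S : Subgroup G)) (P.subgroupOf (S : Subgroup G))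
            (by
              rw [lt_top_iff_ne_top, Ne, Subgroup.subgroupOf_eq_top]
              intro hle
              have := card_le_of_le hle
              omega)
          obtain ⟨y, hyN, hyP⟩ := SetLike.exists_of_lt hlt
          refine hyP (show (y : G) ∈ P from e.ge ⟨y.2, mem_normalizer_fintype fun a ha => ?_⟩)
          exact (mem_normalizer_iff.mp hyN ⟨a, hPS ha⟩).mp ha
        obtain ⟨j, hj⟩ := (S.2.to_le hWlt.le).exists_card_eq
        have h3 : 2 ^ 3 < 2 ^ j := by
          rw [← hj, show (2 : ℕ) ^ 3 = 8 by norm_num, ← hi]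
          exact lt_of_le_of_ne (card_le_of_le hPW) fun e => hne (eq_of_le_of_card_ge hPW e.ge)
        have h4 : 2 ^ j < 2 ^ 5 := by
          rw [← hj, show (2 : ℕ) ^ 5 = 32 by norm_num, ← hS]
          exact lt_of_le_of_ne (card_le_of_le hWlt.le) fun e => hWlt.ne (eq_of_le_of_card_ge hWlt.le e.ge)
        rw [Nat.pow_lt_pow_iff_right (by norm_num)] at h3 h4
        rw [hj, show j = 4 by omega]
        norm_num
      have hnW : ∀ T : Sylow 2 G, W ≤ (T : Subgroup G) → (T : Subgroup G) ≤ Subgroup.normalizer (W : Set G) := by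
        intro T hWT
        have hTc : Nat.card (T : Subgroup G) = 32 := by rw [T.card_eq_multiplicity, ← S.card_eq_multiplicity, hS]
        have hidx : (W.subgroupOf (T : Subgroup G)).index = 2 := by
          have h1 := (W.subgroupOf (T : Subgroup G)).card_mul_index
          rw [Nat.card_congr (subgroupOfEquivOfLe hWT).toEquiv, hW16, hTc] at h1
          omega
        haveI := normal_of_index_eq_two hidx
        exact le_normalizer_of_normal_subgroupOf hWT
      obtain ⟨R, hR⟩ := ((S.2.to_le hWlt.le).comap_of_injective N.subtype N.subtype_injective).exists_le_sylow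
      set T₀ := (R : Subgroup N).map N.subtype with hT₀
      have hWT₀ : W ≤ T₀ := fun w hw => ⟨⟨w, hw.2⟩, hR hw, rfl⟩
      have hT₀c : 32 ≤ Nat.card T₀ := by
        rw [hT₀, ← Nat.card_congr ((R : Subgroup N).equivMapOfInjective _ N.subtype_injective).toEquiv,
          R.card_eq_multiplicity, ← hS, S.card_eq_multiplicity]
        refine Nat.pow_le_pow_right two_pos ?_
        rw [← Nat.Prime.pow_dvd_iff_le_factorization Nat.prime_two Nat.card_pos.ne', ← S'.card_eq_multiplicity]
        exact Subgroup.card_dvd_of_le hS'N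
      obtain ⟨T, hT⟩ := ((R.2).map N.subtype).exists_le_sylow
      have hTc : Nat.card (T : Subgroup G) = 32 := by rw [T.card_eq_multiplicity, ← S.card_eq_multiplicity, hS]
      have hTT : T₀ = (T : Subgroup G) := eq_of_le_of_card_ge hT (by omega)
      have hTN : (T : Subgroup G) ≤ N := hTT ▸ map_subtype_le _
      have hSW := hnW S hWlt.le
      have hTW := hnW T (hTT ▸ hWT₀)
      refine Or.inr ⟨W, ⟨hWlt.le, hW16, hSW, fun hle => hnorm ?_, ?_⟩, hPW⟩
      · rw [← FiveOrbits.sylow_eq_of_le_normalizer T S (hTW.trans hle)]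
        exact hTN
      · by_contra hc
        push Not at hc
        refine hnorm fun s hs => mem_normalizer_fintype fun p hp => ?_
        obtain ⟨t, ht, he⟩ := acts_as_sylow T hTW (fun x hx hxo => hc x hx hxo) (hSW hs)
        rw [he p (hPW hp)]
        exact (mem_normalizer_iff.mp (hTN ht) p).mp hp
  · -- order 16
    have hidx : (P.subgroupOf (S : Subgroup G)).index = 2 := by
      have h1 := (P.subgroupOf (S : Subgroup G)).card_mul_index
      rw [Nat.card_congr (subgroupOfEquivOfLe hPS).toEquiv, hi, hS] at h1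
      omega
    haveI := normal_of_index_eq_two hidx
    have hSN : (S : Subgroup G) ≤ N := le_normalizer_of_normal_subgroupOf hPS
    by_cases hNS : N ≤ Subgroup.normalizer ((S : Subgroup G) : Set G)
    · exact Or.inl ⟨g, hNS hg, fun _ _ => rfl⟩
    by_cases hodd : ∃ x ∈ N, Odd (orderOf x) ∧ x ∉ centralizer (P : Set G)
    · exact Or.inr ⟨P, ⟨hPS, hi, hSN, hNS, hodd⟩, le_rfl⟩
    push Not at hodd
    obtain ⟨t, ht, he⟩ := acts_as_sylow S hSN hodd hg
    exact Or.inl ⟨t, Subgroup.le_normalizer ht, he⟩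
  · obtain rfl : P = (S : Subgroup G) := eq_of_le_of_card_ge hPS (by omega)
    exact Or.inl ⟨g, hg, fun _ _ => rfl⟩

end CfsgLib.LenSeven
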