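import Cfsg.Agent.Lib.LenSeven.Base
import Cfsg.Agent.Lib.SLCard
import Cfsg.Agent.Lib.PSU3Min.Borel

/-!
Chains of length eight in the three-dimensional linear and unitary groups of odd characteristic.
-/

set_option autoImplicit false
set_option linter.style.haveILetI false
set_option linter.unusedSectionVars false

open Subgroup Matrix

namespace CfsgLib.LenSeven

open CfsgLib.ChainEight (Ch ch_pgroup ch_zero)

variable {X : Type*} [Group X] [Finite X]

/-- Chains of a normal subgroup and of the quotient add up. -/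
theorem ch_ext (N : Subgroup X) [N.Normal] {d n : ℕ} (hd : Ch N d) (hn : Ch (⊤ : Subgroup (X ⧸ N)) n) :
    Ch (⊤ : Subgroup X) (n + d) := by
  have := Ch.comap (QuotientGroup.mk'_surjective N) hn (by rwa [QuotientGroup.ker_mk'])
  rwa [comap_top] at this

/-- A group whose order is divisible by 8 but is not 8 has a chain of four steps, if a power of 2 has not intervened. -/
theorem ch_four (h8 : 8 ∣ Nat.card X) (hne : Nat.card X ≠ 8) : Ch (⊤ : Subgroup X) 4 := by
  haveI : Fact (Nat.Prime 2) := ⟨Nat.prime_two⟩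
  obtain ⟨T, hT⟩ := Sylow.exists_subgroup_card_pow_prime 2 (n := 3) (G := X) (by norm_num; exact h8)
  refine (ch_pgroup 3 T hT).step (lt_top_iff_ne_top.mpr fun e => hne ?_)
  rw [← card_top (G := X), ← e, hT]
  norm_num

variable {G : Type*} [Group G] [Finite G]

/-- A chain in a group embedded in a proper subgroup. -/
theorem Hyp.no_embedded (h : Hyp G) {H : Subgroup G} (hH : H ≠ ⊤) {n : ℕ} (hn : 7 ≤ n)
    (hc : Ch (⊤ : Subgroup H) n) : False := by
  have := hc.map H.subtype H.subtype_injective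
  rw [← MonoidHom.range_eq_map, range_subtype] at this
  have := h.ch_le hH this
  omega

theorem eight_dvd_sq_sub_one {q : ℕ} (hq : Odd q) : 8 ∣ q ^ 2 - 1 := by
  obtain ⟨k, rfl⟩ := hq
  obtain ⟨m, hm⟩ := Nat.even_mul_succ_self k
  exact ⟨m, Nat.sub_eq_of_eq_add (by ring_nf at hm ⊢; omega)⟩

section Linear

variable (F : Type) [Field F] [Fintype F]

local notation "SL3" => Matrix.SpecialLinearGroup (Fin 3) F

/-- The stabiliser of the first axis. -/
def axis : Subgroup SL3 where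
  carrier := {M | M.1 1 0 = 0 ∧ M.1 2 0 = 0}
  one_mem' := by constructor <;> simp
  mul_mem' := fun {M N} hM hN => by
    constructor <;> simp [Matrix.mul_apply, Fin.sum_univ_three, hM.1, hM.2, hN.1, hN.2]
  inv_mem' := fun {M} hM => by
    constructor <;> simp [Matrix.SpecialLinearGroup.coe_inv, Matrix.adjugate_fin_three, hM.1, hM.2]

theorem mem_axis {M : SL3} : M ∈ axis F ↔ M.1 1 0 = 0 ∧ M.1 2 0 = 0 := Iff.rfl

/-- The stabiliser of the first basis vector. -/
def axisOne : Subgroup SL3 where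
  carrier := {M | M.1 0 0 = 1 ∧ M.1 1 0 = 0 ∧ M.1 2 0 = 0}
  one_mem' := by refine ⟨?_, ?_, ?_⟩ <;> simp
  mul_mem' := fun {M N} hM hN => by
    refine ⟨?_, ?_, ?_⟩ <;>
      simp [Matrix.mul_apply, Fin.sum_univ_three, hM.1, hM.2.1, hM.2.2, hN.1, hN.2.1, hN.2.2]
  inv_mem' := fun {M} hM => by
    have hd := M.2
    rw [Matrix.det_fin_three, hM.1, hM.2.1, hM.2.2] at hd
    refine ⟨?_, ?_, ?_⟩
    · simp [Matrix.SpecialLinearGroup.coe_inv, Matrix.adjugate_fin_three]
      linear_combination hd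
    all_goals simp [Matrix.SpecialLinearGroup.coe_inv, Matrix.adjugate_fin_three, hM.2.1, hM.2.2]

theorem mem_axisOne {M : SL3} : M ∈ axisOne F ↔ M.1 0 0 = 1 ∧ M.1 1 0 = 0 ∧ M.1 2 0 = 0 := Iff.rfl

/-- The action on the other two coordinates. -/
def blockHom : axisOne F →* Matrix.SpecialLinearGroup (Fin 2) F where
  toFun M := ⟨!![M.1.1 1 1, M.1.1 1 2; M.1.1 2 1, M.1.1 2 2], by
    obtain ⟨h00, h10, h20⟩ := M.2
    have hd := M.1.2
    rw [Matrix.det_fin_three, h00, h10, h20] at hd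
    rw [Matrix.det_fin_two_of]
    linear_combination hd⟩
  map_one' := Subtype.ext (by ext i j; fin_cases i <;> fin_cases j <;> simp)
  map_mul' M N := Subtype.ext (by
    obtain ⟨-, h10, h20⟩ := M.2
    change !![(M.1.1 * N.1.1) 1 1, (M.1.1 * N.1.1) 1 2; (M.1.1 * N.1.1) 2 1, (M.1.1 * N.1.1) 2 2] =
      !![M.1.1 1 1, M.1.1 1 2; M.1.1 2 1, M.1.1 2 2] * !![N.1.1 1 1, N.1.1 1 2; N.1.1 2 1, N.1.1 2 2]
    ext i j
    fin_cases i <;> fin_cases j <;> simp [Matrix.mul_apply, Fin.sum_univ_three, h10, h20])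

theorem blockHom_apply (M : axisOne F) :
    (blockHom F M).1 = !![M.1.1 1 1, M.1.1 1 2; M.1.1 2 1, M.1.1 2 2] := rfl

theorem blockHom_surj : Function.Surjective (blockHom F) := fun A => by
  have hd := A.2
  rw [Matrix.det_fin_two] at hd
  refine ⟨⟨⟨!![1, 0, 0; 0, A.1 0 0, A.1 0 1; 0, A.1 1 0, A.1 1 1], ?_⟩, ?_⟩, Subtype.ext ?_⟩
  · rw [Matrix.det_fin_three]
    simp
    linear_combination hd
  · refine ⟨?_, ?_, ?_⟩ <;> simp
  · rw [blockHom_apply]
    ext i j; fin_cases i <;> fin_cases j <;> simp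

theorem card_blockHom_ker : Nat.card (blockHom F).ker = Fintype.card F * Fintype.card F := by
  have hblock : ∀ M ∈ (blockHom F).ker, M.1.1 1 1 = 1 ∧ M.1.1 1 2 = 0 ∧ M.1.1 2 1 = 0 ∧ M.1.1 2 2 = 1 := by
    intro M hM
    have h : !![M.1.1 1 1, M.1.1 1 2; M.1.1 2 1, M.1.1 2 2] = (1 : Matrix (Fin 2) (Fin 2) F) :=
      congrArg (fun A : Matrix.SpecialLinearGroup (Fin 2) F => A.1) (MonoidHom.mem_ker.mp hM)
    exact ⟨by simpa using congrFun (congrFun h 0) 0, by simpa using congrFun (congrFun h 0) 1,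
      by simpa using congrFun (congrFun h 1) 0, by simpa using congrFun (congrFun h 1) 1⟩
  have h : Function.Bijective (fun M : (blockHom F).ker => (M.1.1.1 0 1, M.1.1.1 0 2)) := by
    constructor
    · intro M N he
      obtain ⟨e1, e2⟩ := Prod.ext_iff.mp he
      obtain ⟨a, b, c, d⟩ := hblock _ M.2
      obtain ⟨a', b', c', d'⟩ := hblock _ N.2
      obtain ⟨h00, h10, h20⟩ := M.1.2
      obtain ⟨h00', h10', h20'⟩ := N.1.2
      refine Subtype.ext (Subtype.ext (Subtype.ext ?_))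
      ext i j
      fin_cases i <;> fin_cases j
      exacts [h00.trans h00'.symm, e1, e2, h10.trans h10'.symm, a.trans a'.symm, b.trans b'.symm,
        h20.trans h20'.symm, c.trans c'.symm, d.trans d'.symm]
    · intro v
      refine ⟨⟨⟨⟨!![1, v.1, v.2; 0, 1, 0; 0, 0, 1], by rw [Matrix.det_fin_three]; simp⟩, by
        refine ⟨?_, ?_, ?_⟩ <;> simp⟩, MonoidHom.mem_ker.mpr (Subtype.ext ?_)⟩, ?_⟩
      · rw [blockHom_apply]
        ext i j; fin_cases i <;> fin_cases j <;> simp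
      · simp
  rw [Nat.card_eq_of_bijective _ h, Nat.card_prod, Nat.card_eq_fintype_card]

theorem ch_axisOne (hodd : Odd (Fintype.card F)) : Ch (⊤ : Subgroup (axisOne F)) 6 := by
  obtain ⟨p, hchar⟩ := CharP.exists F
  obtain ⟨f, hp, hpf⟩ := FiniteField.card F p
  haveI : Fact p.Prime := ⟨hp⟩
  have hSL2 : Ch (⊤ : Subgroup (Matrix.SpecialLinearGroup (Fin 2) F)) 4 := by
    have hc := CfsgLib.SLCard.card_SL_two (F := F)
    have h3 : 3 ≤ Fintype.card F := by
      obtain ⟨k, hk⟩ := hodd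
      have := Fintype.one_lt_card (α := F)
      omega
    refine ch_four (by rw [hc]; exact (eight_dvd_sq_sub_one hodd).mul_left _) (fun e8 => ?_)
    rw [hc] at e8
    have : 9 ≤ Fintype.card F ^ 2 := by nlinarith
    have h9 : 8 ≤ Fintype.card F ^ 2 - 1 := by omega
    have := Nat.mul_le_mul h3 h9
    omega
  have hK : Ch (blockHom F).ker 2 :=
    (ch_pgroup (p := p) (2 * (f : ℕ)) _ (by rw [card_blockHom_ker, hpf, ← pow_add, two_mul])).of_le
      (by have := f.pos; omega)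
  have := Ch.comap (blockHom_surj F) hSL2 hK
  rwa [comap_top] at this

theorem center_entries {z : SL3} (hz : z ∈ Subgroup.center SL3) :
    z.1 = Matrix.scalar (Fin 3) (z.1 0 0) ∧ z.1 0 0 ^ 3 = 1 := by
  obtain ⟨r, hr, hz'⟩ := Matrix.SpecialLinearGroup.mem_center_iff.mp hz
  have : z.1 0 0 = r := by rw [← hz']; simp
  rw [this]
  exact ⟨hz'.symm, by simpa using hr⟩

end Linear

/-- The linear groups of dimension 3 in odd characteristic are too long. -/
theorem Hyp.no_psl_three (h : Hyp G) {F : Type} [Field F] [Fintype F] (hodd : Odd (Fintype.card F))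
    (e : G ≃* Matrix.ProjectiveSpecialLinearGroup (Fin 3) F) : False := by
  classical
  obtain ⟨p, hchar⟩ := CharP.exists F
  obtain ⟨f, hp, hpf⟩ := FiniteField.card F p
  have h2 : (-1 : F) ≠ 1 := fun hh => by
    have h20 : ((2 : ℕ) : F) = 0 := by push_cast; linear_combination -hh
    have hd := (CharP.cast_eq_zero_iff F p 2).mp h20
    obtain rfl : p = 2 := (Nat.prime_dvd_prime_iff_eq hp Nat.prime_two).mp hd
    rw [hpf] at hodd
    exact absurd hodd (Nat.not_odd_iff_even.mpr (Nat.even_pow.mpr ⟨even_two, f.pos.ne'⟩))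
  set φ : Matrix.SpecialLinearGroup (Fin 3) F →* G :=
    e.symm.toMonoidHom.comp (QuotientGroup.mk' (Subgroup.center (Matrix.SpecialLinearGroup (Fin 3) F))) with hφ
  have hφe : ∀ {M N : Matrix.SpecialLinearGroup (Fin 3) F}, φ M = φ N →
      M⁻¹ * N ∈ Subgroup.center (Matrix.SpecialLinearGroup (Fin 3) F) := fun {M N} hh =>
    QuotientGroup.eq.mp (e.symm.injective hh)
  let ψ : axisOne F →* G := φ.comp (axisOne F).subtype
  have hψ : Function.Injective ψ := by
    rw [← MonoidHom.ker_eq_bot_iff, eq_bot_iff]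
    intro M hM
    have hM' : (M : Matrix.SpecialLinearGroup (Fin 3) F) ∈ Subgroup.center _ := by
      simpa using hφe (M := 1) (N := M) (by rw [map_one]; exact hM.symm)
    obtain ⟨he, -⟩ := center_entries F hM'
    rw [M.2.1, map_one] at he
    exact mem_bot.mpr (Subtype.ext (Subtype.ext he))
  have hR6 : Ch ψ.range 6 := by
    rw [MonoidHom.range_eq_map]
    exact (ch_axisOne F hodd).map ψ hψ
  set Q := (axis F).map φ with hQ
  have hlt : ψ.range < Q := by
    refine lt_of_le_of_ne ?_ fun hh => ?_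
    · rintro _ ⟨M, rfl⟩
      exact ⟨M, M.2.2, rfl⟩
    · set D : Matrix.SpecialLinearGroup (Fin 3) F :=
        ⟨!![-1, 0, 0; 0, -1, 0; 0, 0, 1], by rw [Matrix.det_fin_three]; simp⟩ with hD
      have hDv : D.1 = !![-1, 0, 0; 0, -1, 0; 0, 0, 1] := rfl
      obtain ⟨M, hM⟩ := hh.ge (show φ D ∈ Q from ⟨D, (mem_axis F).mpr (by rw [hDv]; simp), rfl⟩)
      obtain ⟨he, h3⟩ := center_entries F (z := D⁻¹ * (M : Matrix.SpecialLinearGroup (Fin 3) F)) (hφe hM.symm)
      have hMD : (M : Matrix.SpecialLinearGroup (Fin 3) F).1 = D.1 * (D⁻¹ * (M : Matrix.SpecialLinearGroup (Fin 3) F)).1 := by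
        exact congrArg (fun A : Matrix.SpecialLinearGroup (Fin 3) F => A.1) (mul_inv_cancel_left D (M : Matrix.SpecialLinearGroup (Fin 3) F)).symm
      rw [he] at hMD
      have h00 := congrFun (congrFun hMD 0) 0
      rw [M.2.1, hDv] at h00
      generalize (D⁻¹ * (M : Matrix.SpecialLinearGroup (Fin 3) F)).1 0 0 = l at h00 h3
      simp [Matrix.mul_apply, Fin.sum_univ_three] at h00
      have : l = -1 := by linear_combination h00
      rw [this] at h3
      exact h2 (by linear_combination h3)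
  have hQtop : Q ≠ ⊤ := by
    intro hh
    set W : Matrix.SpecialLinearGroup (Fin 3) F :=
      ⟨!![1, 0, 0; 1, 1, 0; 0, 0, 1], by rw [Matrix.det_fin_three]; simp⟩ with hW
    have hWv : W.1 = !![1, 0, 0; 1, 1, 0; 0, 0, 1] := rfl
    obtain ⟨M, hM, hMe⟩ := hh.ge (mem_top (φ W))
    have hcP : Subgroup.center (Matrix.SpecialLinearGroup (Fin 3) F) ≤ axis F := fun z hz => by
      obtain ⟨he, -⟩ := center_entries F hz
      rw [mem_axis, he]
      simp
    have hWP : W ∈ axis F := by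
      have := mul_mem hM (hcP (hφe hMe))
      rwa [mul_inv_cancel_left] at this
    have h1 := ((mem_axis F).mp hWP).1
    rw [hWv] at h1
    simp at h1
  have := h.ch_le hQtop (hR6.step hlt)
  omega

/-- The unitary groups of dimension 3 in odd characteristic with `q ≥ 7` are too long. -/
theorem Hyp.no_psu_three (h : Hyp G) {F : Type} [Field F] [Fintype F] {q : ℕ} (hF : Fintype.card F = q ^ 2)
    (hodd : Odd q) (h7 : 7 ≤ q) (e : G ≃* Cfsg.PSU 3 F q) : False := by
  classical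
  obtain ⟨-, σ, hσ⟩ := CfsgLib.UnitaryBasic.frob_exists hF
  obtain ⟨c, rfl⟩ : ∃ c : CfsgLib.PSUBorel.Conj F, c.q = q := ⟨⟨q, σ, hF, hσ⟩, rfl⟩
  obtain ⟨p, hchar⟩ := CharP.exists F
  obtain ⟨f, hp, hpf⟩ := FiniteField.card F p
  haveI : Fact p.Prime := ⟨hp⟩
  obtain ⟨E⟩ := CfsgLib.PSUBorel.exists_iso c (n := 3)
  let φ : CfsgLib.PSUBorel.SUs c 3 →* G :=
    e.symm.toMonoidHom.comp ((QuotientGroup.mk' _).comp E.toMonoidHom)
  have hφ : Function.Surjective φ := e.symm.surjective.comp ((QuotientGroup.mk'_surjective _).comp E.surjective)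
  have hker : φ.ker = Subgroup.center (CfsgLib.PSUBorel.SUs c 3) := by
    ext x
    show e.symm (QuotientGroup.mk' _ (E x)) = 1 ↔ _
    rw [map_eq_one_iff _ e.symm.injective, QuotientGroup.mk'_apply, QuotientGroup.eq_one_iff, Subgroup.mem_center_iff,
      Subgroup.mem_center_iff]
    exact ⟨fun h y => E.injective (by rw [map_mul, map_mul]; exact h _),
      fun h y => by obtain ⟨y, rfl⟩ := E.surjective y; rw [← map_mul, ← map_mul, h]⟩
  set Y := (PSU3Min.BG c).map φ with hY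
  have hYi : Y.index = c.q ^ 3 + 1 := by
    rw [hY, Subgroup.index_map_eq (PSU3Min.BG c) hφ (hker.trans_le (PSU3Min.center_le_BG c)), PSU3Min.index_BG c p]
  have hYtop : Y ≠ ⊤ := fun hh => by rw [hh, index_top] at hYi; have := Nat.pow_pos (n := 3) (show 0 < c.q by omega); omega
  have hYc : Nat.gcd 3 (c.q + 1) * Nat.card Y = c.q ^ 3 * (c.q ^ 2 - 1) := by
    have h1 := Cfsg.Agent.S0280.result hF 3 (by norm_num)
    rw [← Nat.card_congr e.toEquiv, ← Y.card_mul_index, hYi] at h1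
    norm_num [Finset.prod_range_succ, Nat.even_iff] at h1
    refine Nat.eq_of_mul_eq_mul_left (show 0 < (c.q + 1) * (c.q ^ 3 + 1) by positivity) ?_
    linear_combination h1
  obtain ⟨n, hn⟩ := (CfsgLib.PSUBorel.isPGroup_UU c p (n := 3)).exists_card_eq
  have hU := PSU3Min.card_UG c p
  set N := ((PSU3Min.UG c).map φ).subgroupOf Y with hN
  haveI hNn : N.Normal := by
    refine (normal_subgroupOf_iff_le_normalizer (map_mono (PSU3Min.UG_le c))).mpr ?_
    rintro _ ⟨b, hb, rfl⟩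
    refine mem_normalizer_fintype fun y hy => ?_
    obtain ⟨u, hu, rfl⟩ := hy
    refine ⟨b * u * b⁻¹, ?_, by simp⟩
    obtain ⟨k, hk⟩ := PSU3Min.exists_ppow c p hu
    exact PSU3Min.mem_UG_of_ppow c p (mul_mem (mul_mem hb (PSU3Min.UG_le c hu)) (inv_mem hb)) (k := k)
      (by rw [conj_pow, hk, mul_one, mul_inv_cancel])
  have hinj : ∀ u ∈ PSU3Min.UG c, φ u = 1 → u = 1 := fun u hu he => by
    have hz : u ∈ Subgroup.center (CfsgLib.PSUBorel.SUs c 3) := hker ▸ MonoidHom.mem_ker.mpr he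
    have h1 : orderOf u ∣ Nat.card (Subgroup.center (CfsgLib.PSUBorel.SUs c 3)) := Subgroup.orderOf_dvd_natCard _ hz
    obtain ⟨k, hk⟩ := PSU3Min.exists_ppow c p hu
    have h3 := h1.trans (PSU3Min.card_center c).2
    have h4 : Nat.Coprime (p ^ k) (c.q + 1) := Nat.Coprime.pow_left _ (hp.coprime_iff_not_dvd.mpr fun hd => by
      have hpq : p ∣ c.q := hp.dvd_of_dvd_pow (hF ▸ hpf ▸ dvd_pow_self p f.pos.ne')
      exact hp.one_lt.ne' (Nat.dvd_one.mp ((Nat.dvd_add_right hpq).mp hd)))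
    exact orderOf_eq_one_iff.mp (Nat.eq_one_of_dvd_coprimes h4 (orderOf_dvd_of_pow_eq_one hk) h3)
  have hNc : Nat.card N = p ^ n := by
    rw [hN, Nat.card_congr (subgroupOfEquivOfLe (map_mono (PSU3Min.UG_le c))).toEquiv, ← hn]
    refine (Nat.card_eq_of_bijective (fun u : PSU3Min.UG c => (⟨φ u, mem_map_of_mem φ u.2⟩ : (PSU3Min.UG c).map φ))
      ⟨fun u v huv => ?_, fun y => ?_⟩).symm
    · have h1 : φ u = φ v := congrArg Subtype.val huv
      refine Subtype.ext (inv_mul_eq_one.mp (hinj ((u : CfsgLib.PSUBorel.SUs c 3)⁻¹ * v)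
        (mul_mem (inv_mem u.2) v.2) (by rw [map_mul, map_inv, h1, inv_mul_cancel])))
    · obtain ⟨u, hu, he⟩ := y.2
      exact ⟨⟨u, hu⟩, Subtype.ext he⟩
  have hn3 : 3 ≤ n := by
    have hpq : p ∣ c.q := hp.dvd_of_dvd_pow (hF ▸ hpf ▸ dvd_pow_self p f.pos.ne')
    have h1 : p ^ 3 ∣ p ^ n := by rw [← hn, hU]; exact pow_dvd_pow_of_dvd hpq 3
    exact (Nat.pow_dvd_pow_iff_le_right hp.one_lt).mp h1
  have hQ : Nat.gcd 3 (c.q + 1) * Nat.card (Y ⧸ N) = c.q ^ 2 - 1 := by
    refine Nat.eq_of_mul_eq_mul_left (show 0 < p ^ n from pow_pos hp.pos n) ?_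
    rw [show p ^ n * (Nat.gcd 3 (c.q + 1) * Nat.card (Y ⧸ N)) = Nat.gcd 3 (c.q + 1) * (Nat.card N * Nat.card (Y ⧸ N))
      by rw [hNc]; ring, ← index_eq_card, card_mul_index, hYc, ← hn, hU]
  have hd : Nat.gcd 3 (c.q + 1) ≤ 3 := Nat.le_of_dvd (by norm_num) (Nat.gcd_dvd_left _ _)
  have h48 : 48 ≤ c.q ^ 2 - 1 := by
    have := Nat.mul_le_mul h7 h7
    rw [pow_two]
    omega
  have h4 : Ch (⊤ : Subgroup (Y ⧸ N)) 4 := by
    refine ch_four ?_ (fun e8 => by rw [e8] at hQ; omega)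
    refine Nat.Coprime.dvd_of_dvd_mul_left ?_ (hQ ▸ eight_dvd_sq_sub_one hodd)
    exact Nat.Coprime.coprime_dvd_right (Nat.gcd_dvd_left 3 (c.q + 1)) (by norm_num)
  exact h.no_embedded hYtop (n := 4 + 3) le_rfl (ch_ext N ((ch_pgroup (p := p) n N hNc).of_le hn3) h4)

end CfsgLib.LenSeven
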