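import Cfsg.Agent.Lib.LenSeven.AutEight
import Cfsg.Agent.S3309
import Cfsg.Agent.S3225

/-!
A simple group has no non-abelian Sylow 2-subgroup of order 16 with an elementary subgroup of order 8.
-/

set_option autoImplicit false
set_option linter.style.haveILetI false
set_option linter.unusedSectionVars false

open Subgroup

namespace CfsgLib.LenSeven

variable {G : Type*} [Group G] [Finite G]

/-- An elementary group of order 8 extended by an involution acting non-trivially. -/
theorem two_dihedral {S E : Subgroup G} (hS : Nat.card S = 16) (hES : E ≤ S) (hE8 : Nat.card E = 8)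
    (hE2 : ∀ a ∈ E, a * a = 1) (hn : S ≤ Subgroup.normalizer (E : Set G)) {u : G} (hu : u ∈ S) (huE : u ∉ E)
    (huu : u * u = 1) (hnc : ∃ a ∈ E, a * u ≠ u * a) :
    Nonempty (S ≃* Multiplicative (ZMod 2) × DihedralGroup 4) := by
  classical
  have hc : ∀ a ∈ E, ∀ b ∈ E, a * b = b * a := fun a ha b hb =>
    congrArg Subtype.val (exp_two_comm (X := E) (fun x => Subtype.ext (hE2 x x.2)) ⟨a, ha⟩ ⟨b, hb⟩)
  obtain ⟨a, ha, hau⟩ := hnc
  have hui : u⁻¹ = u := inv_eq_of_mul_eq_one_right huu
  have hai : a⁻¹ = a := inv_eq_of_mul_eq_one_right (hE2 a ha)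
  set b := u * a * u with hb
  have hbE : b ∈ E := by
    have := (mem_normalizer_iff.mp (hn hu) a).mp ha
    rwa [hui] at this
  have hab : a ≠ b := fun e => hau (by
    calc a * u = u * a * u * u := by rw [← hb, ← e]
      _ = u * a := by rw [mul_assoc, huu, mul_one])
  have hab1 : a * b ≠ 1 := fun e => hab ((eq_inv_of_mul_eq_one_left e).trans (inv_eq_of_mul_eq_one_right (hE2 b hbE)))
  set U : MulAut E := Subgroup.normalizerMonoidHom E ⟨u, hn hu⟩ with hU
  have hUU : U * U = 1 := by
    rw [hU, ← map_mul, show (⟨u, hn hu⟩ * ⟨u, hn hu⟩ : Subgroup.normalizer (E : Set G)) = 1 from Subtype.ext huu,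
      map_one]
  obtain ⟨c, hcE, hc1, hcab, hcu⟩ : ∃ c ∈ E, c ≠ 1 ∧ c ≠ a * b ∧ u * c = c * u := by
    by_contra hh
    push Not at hh
    have h2E : ∀ x : E, x * x = 1 := fun x => Subtype.ext (hE2 x x.2)
    haveI : Fintype E := Fintype.ofFinite E
    haveI : Fintype (moveHom h2E U).ker := Fintype.ofFinite _
    have h4 := four_le_moveHom_ker h2E hE8 hUU
    have hle := Finset.card_le_card (s := (Finset.univ : Finset (moveHom h2E U).ker).image Subtype.val)
      (t := ({1, ⟨a * b, mul_mem ha hbE⟩} : Finset E)) fun x hx => by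
        obtain ⟨⟨⟨y, hy⟩, hyk⟩, -, rfl⟩ := Finset.mem_image.mp hx
        simp only [Finset.mem_insert, Finset.mem_singleton]
        by_cases h1 : y = 1
        · exact Or.inl (Subtype.ext h1)
        refine Or.inr (Subtype.ext (by_contra fun h2 => hh y hy h1 h2 ?_))
        have h3 : u * y * u⁻¹ = y := congrArg Subtype.val ((moveHom_ker h2E).mp hyk)
        exact mul_inv_eq_iff_eq_mul.mp h3
    rw [Finset.card_image_of_injective _ Subtype.val_injective, Finset.card_univ, ← Nat.card_eq_fintype_card] at hle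
    have := hle.trans Finset.card_le_two
    omega
  have hca : c * a = a * c := hc c hcE a ha
  set r := a * u with hr
  have hr2 : r * r = a * b := by rw [hr, hb]; group
  have hr4 : r ^ 4 = 1 := by
    rw [show (4 : ℕ) = 2 * 2 from rfl, pow_mul, pow_two, pow_two, hr2]
    exact hE2 _ (mul_mem ha hbE)
  have hur : u * r * u⁻¹ = r⁻¹ := by
    rw [hr, mul_inv_rev, hai, hui, ← mul_assoc, mul_assoc _ u u, huu, mul_one]
  set R : ZMod 4 → G := fun i => r ^ i.val with hR
  have hRadd : ∀ i j, R (i + j) = R i * R j := fun i j => by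
    simp only [hR]
    rw [← pow_add, ZMod.val_add, ← pow_eq_pow_mod _ hr4]
  have hR0 : R 0 = 1 := by simp [hR]
  have hRsub : ∀ i j, R (j - i) = (R i)⁻¹ * R j := fun i j =>
    eq_inv_mul_of_mul_eq (by rw [← hRadd, add_sub_cancel])
  have hRu : ∀ i, R i * u = u * (R i)⁻¹ := fun i => by
    simp only [hR]
    rw [← inv_pow, ← hur, conj_pow, hui, ← mul_assoc, ← mul_assoc, huu, one_mul]
  set D : DihedralGroup 4 → G := fun d => match d with
    | .r i => R i
    | .sr i => u * R i with hD
  have hDmul : ∀ d e, D (d * e) = D d * D e := by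
    rintro (i | i) (j | j)
    · simp only [DihedralGroup.r_mul_r, hD, hRadd]
    · simp only [DihedralGroup.r_mul_sr, hD, hRsub]
      rw [← mul_assoc, ← mul_assoc, hRu]
    · simp only [DihedralGroup.sr_mul_r, hD, hRadd, mul_assoc]
    · simp only [DihedralGroup.sr_mul_sr, hD, hRsub]
      rw [← mul_assoc, mul_assoc u (R i) u, hRu, ← mul_assoc, huu, one_mul]
  have hcc : c * c = 1 := hE2 c hcE
  have hcr : c * r = r * c := by rw [hr, ← mul_assoc, hca, mul_assoc, ← hcu, ← mul_assoc]
  have hcD : ∀ d, c * D d = D d * c := by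
    have h1 : ∀ i, c * R i = R i * c := fun i => ((show Commute c r from hcr).pow_right _).eq
    rintro (i | i)
    · exact h1 i
    · show c * (u * R i) = u * R i * c
      rw [← mul_assoc, ← hcu, mul_assoc, h1, ← mul_assoc]
  set C : Multiplicative (ZMod 2) → G := fun z => c ^ z.toAdd.val with hC
  have hCmul : ∀ z w, C (z * w) = C z * C w := fun z w => by
    simp only [hC, toAdd_mul]
    rw [← pow_add, ZMod.val_add, ← pow_eq_pow_mod _ (by rw [pow_two, hcc])]
  have hCD : ∀ z d, C z * D d = D d * C z := fun z d => ((show Commute c (D d) from hcD d).pow_left _).eq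
  have hrS : r ∈ S := mul_mem (hES ha) hu
  have hDS : ∀ d, D d ∈ S := by
    rintro (i | i)
    · exact pow_mem hrS _
    · exact mul_mem hu (pow_mem hrS _)
  let f : Multiplicative (ZMod 2) × DihedralGroup 4 →* S :=
    MonoidHom.mk' (fun x => ⟨C x.1 * D x.2, mul_mem (pow_mem (hES hcE) _) (hDS _)⟩) fun x y => Subtype.ext (by
      show C (x.1 * y.1) * D (x.2 * y.2) = C x.1 * D x.2 * (C y.1 * D y.2)
      rw [hCmul, hDmul, mul_assoc, mul_assoc, ← mul_assoc (D x.2), ← hCD, mul_assoc])
  have hinj : Function.Injective f := by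
    rw [injective_iff_map_eq_one]
    rintro ⟨z, d⟩ he
    have he' : C z * D d = 1 := congrArg Subtype.val he
    have hCE : C z ∈ E := pow_mem hcE _
    have hDE : D d ∈ E := by
      rw [← inv_eq_of_mul_eq_one_right he']
      exact inv_mem hCE
    have hR2 : R 2 = a * b := by
      show r ^ 2 = a * b
      rw [pow_two, hr2]
    have hR1 : R 1 = a * u := by
      show r ^ 1 = a * u
      rw [pow_one]
    have hR3 : R 3 = a * b * (a * u) := by
      rw [show (3 : ZMod 4) = 2 + 1 from rfl, hRadd, hR2, hR1]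
    have hcab' : c * (a * b) ≠ 1 := fun e => hcab
      ((eq_inv_of_mul_eq_one_left e).trans (inv_eq_of_mul_eq_one_right (hE2 _ (mul_mem ha hbE))))
    have hnu : ∀ e ∈ E, u * e ∉ E := fun e he hh => huE (by simpa using mul_mem hh (inv_mem he))
    have hnu' : ∀ e ∈ E, e * u ∉ E := fun e he hh => huE (by simpa using mul_mem (inv_mem he) hh)
    have hz : z = 1 ∨ C z = c := by
      rcases (show ∀ x : ZMod 2, x = 0 ∨ x = 1 by decide) z.toAdd with h | h
      · exact Or.inl (by rw [← ofAdd_toAdd z, h, ofAdd_zero])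
      · refine Or.inr ?_
        show c ^ z.toAdd.val = c
        rw [h]; exact pow_one c
    rcases d with i | i
    · have hDi : D (.r i) = R i := rfl
      rw [hDi] at he' hDE
      rcases (show ∀ x : ZMod 4, x = 0 ∨ x = 1 ∨ x = 2 ∨ x = 3 by decide) i with rfl | rfl | rfl | rfl
      · rcases hz with rfl | hz
        · rfl
        · rw [hR0, mul_one, hz] at he'
          exact absurd he' hc1
      · exact absurd (hR1 ▸ hDE) (hnu' a ha)
      · rcases hz with rfl | hz
        · rw [hR2, show C 1 = 1 from pow_zero c, one_mul] at he'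
          exact absurd he' hab1
        · rw [hR2, hz] at he'
          exact absurd he' hcab'
      · rw [hR3, ← mul_assoc] at hDE
        exact absurd hDE (hnu' _ (mul_mem (mul_mem ha hbE) ha))
    · have hDi : D (.sr i) = u * R i := rfl
      rw [hDi] at he' hDE
      exfalso
      have hone : ∀ x ∈ E, u * x * u⁻¹ ≠ x → C z * x ≠ 1 := by
        intro x hx hxu e
        rcases hz with rfl | hz
        · rw [show C 1 = 1 from pow_zero c, one_mul] at e
          exact hxu (by rw [e, mul_one, mul_inv_cancel])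
        · rw [hz] at e
          have : x = c := by rw [← inv_eq_of_mul_eq_one_right e, inv_eq_of_mul_eq_one_right hcc]
          exact hxu (by rw [this, hcu, mul_inv_cancel_right])
      rcases (show ∀ x : ZMod 4, x = 0 ∨ x = 1 ∨ x = 2 ∨ x = 3 by decide) i with rfl | rfl | rfl | rfl
      · exact hnu 1 (one_mem E) (by rwa [hR0] at hDE)
      · rw [hR1, ← mul_assoc u a u] at he'
        refine hone b hbE (fun e => hab ?_) he'
        have e2 : u * b * u⁻¹ = a := by
          rw [hui, hb]
          calc u * (u * a * u) * u = u * u * a * (u * u) := by group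
            _ = a := by rw [huu, one_mul, mul_one]
        exact e2 ▸ e
      · exact hnu _ (mul_mem ha hbE) (hR2 ▸ hDE)
      · refine hone a ha (fun e => hab ?_) ?_
        · rw [hui] at e
          exact e.symm
        · rw [hR3] at he'
          have e2 : u * (a * b * (a * u)) = a := by
            rw [hc a ha b hbE, mul_assoc b a, ← mul_assoc a a u, hE2 a ha, one_mul, ← mul_assoc, hb]
            calc u * (u * a * u) * u = u * u * a * (u * u) := by group
              _ = a := by rw [huu, one_mul, mul_one]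
          rwa [e2] at he'
  refine ⟨(MulEquiv.ofBijective f ((Nat.bijective_iff_injective_and_card f).mpr ⟨hinj, ?_⟩)).symm⟩
  rw [hS, Nat.card_prod, DihedralGroup.nat_card, Nat.card_eq_fintype_card]
  rfl

/-- The case of order 16. -/
theorem no_sixteen [IsSimpleGroup G] (hG : ¬ IsMulCommutative G) (hidx : ∀ H : Subgroup G, H.index ≠ 2) (S : Sylow 2 G)
    (hS : Nat.card (S : Subgroup G) = 16) {E : Subgroup G} (hES : E ≤ (S : Subgroup G)) (hE8 : Nat.card E = 8)
    (hE2 : ∀ a ∈ E, a * a = 1) (hna : ¬ IsMulCommutative (S : Subgroup G)) : False := by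
  classical
  have hi : (E.subgroupOf (S : Subgroup G)).index = 2 := by
    have h1 := (E.subgroupOf (S : Subgroup G)).card_mul_index
    rw [Nat.card_congr (subgroupOfEquivOfLe hES).toEquiv, hE8, hS] at h1
    omega
  haveI := normal_of_index_eq_two hi
  have hn : (S : Subgroup G) ≤ Subgroup.normalizer (E : Set G) := le_normalizer_of_normal_subgroupOf hES
  have hc : ∀ a ∈ E, ∀ b ∈ E, a * b = b * a := fun a ha b hb =>
    congrArg Subtype.val (exp_two_comm (X := E) (fun x => Subtype.ext (hE2 x x.2)) ⟨a, ha⟩ ⟨b, hb⟩)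
  by_cases hinv : ∃ u ∈ (S : Subgroup G), u ∉ E ∧ u * u = 1
  · obtain ⟨u, hu, huE, huu⟩ := hinv
    refine Cfsg.Agent.S3309.result S (two_dihedral hS hES hE8 hE2 hn hu huE huu ?_) hG
    by_contra hh
    push Not at hh
    refine hna ⟨⟨fun p q => Subtype.ext ?_⟩⟩
    have hdec : ∀ s : (S : Subgroup G), (s : G) ∈ E ∨ ∃ e ∈ E, (s : G) = u * e := fun s =>
      (em ((s : G) ∈ E)).imp id fun hs => ⟨u⁻¹ * s, (mul_mem_iff_of_index_two hi (a := ⟨u, hu⟩⁻¹) (b := s)).mpr
        (iff_of_false (fun h => huE (by simpa using inv_mem (show u⁻¹ ∈ E from h))) hs), (mul_inv_cancel_left _ _).symm⟩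
    show (p : G) * q = q * p
    rcases hdec p with hp | ⟨x, hx, hp⟩ <;> rcases hdec q with hq | ⟨y, hy, hq⟩
    · exact hc _ hp _ hq
    · rw [hq, ← mul_assoc, hh _ hp, mul_assoc, hc _ hp y hy, mul_assoc]
    · rw [hp, ← mul_assoc, hh _ hq, mul_assoc, hc x hx _ hq, mul_assoc]
    · rw [hp, hq]
      calc u * x * (u * y) = u * (x * u) * y := by group
        _ = u * (u * (x * y)) := by rw [hh x hx]; group
        _ = u * (u * (y * x)) := by rw [hc x hx y hy]
        _ = u * (u * y) * x := by group
        _ = u * (y * u) * x := by rw [hh y hy]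
        _ = _ := by group
  · push Not at hinv
    have hord : ∀ y ∈ (S : Subgroup G), y ∉ E → orderOf y = 2 ^ 2 := by
      intro y hy hyE
      refine orderOf_eq_prime_pow (p := 2) (n := 1) ?_ ?_
      · rw [pow_one, pow_two]
        exact hinv y hy hyE
      · have h1 : y * y ∈ E := mul_self_mem_of_index_two hi ⟨y, hy⟩
        rw [show 2 ^ (1 + 1) = 2 * 2 from rfl, pow_mul, pow_two, pow_two]
        exact hE2 _ h1
    obtain ⟨x, hx, hxE⟩ : ∃ x ∈ (S : Subgroup G), x ∉ E := SetLike.not_le_iff_exists.mp fun hle => by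
      have := card_le_of_le hle
      omega
    obtain ⟨g, hg⟩ := Cfsg.Agent.S3225.result
      (even_iff_two_dvd.mpr ((show 2 ∣ Nat.card (S : Subgroup G) by rw [hS]; norm_num).trans (card_subgroup_dvd_card _)))
      hidx S E hES hi 2 (by norm_num) (fun y hy hyE => by rw [hord y hy hyE]; norm_num) x hx (hord x hx hxE)
    have h2 := hE2 _ hg
    rw [show g * x * g⁻¹ * (g * x * g⁻¹) = g * (x * x) * g⁻¹ by group, conj_eq_one_iff] at h2
    exact hinv x hx hxE h2

end CfsgLib.LenSeven
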