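import Cfsg.Agent.Lib.LenSeven.Main32
import Cfsg.Agent.Lib.LenSeven.Models
import Cfsg.Agent.Lib.LenSeven.Sixteen
import Cfsg.Agent.Lib.ChainEight.Main
import Cfsg.Agent.Lib.WalterUse.Ward.Final
import Cfsg.Agent.Lib.UnitaryFourSylow
import Cfsg.Agent.Lib.M11Det.Basic
import Cfsg.Agent.Lib.SimpleM11.Recognition
import Cfsg.Agent.S0482

/-!
The simple groups with no chain of eight steps.
-/

set_option autoImplicit false
set_option linter.style.haveILetI false
set_option linter.unusedSectionVars false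

open Subgroup

namespace CfsgLib.LenSeven

open CfsgLib.ChainEight (Ch ch_pgroup)

variable {G : Type*} [Group G] [Finite G]

/-- Of order `2^6` the Sylow 2-subgroups are dihedral. -/
theorem Hyp.dihedral_six (h : Hyp G) (S : Sylow 2 G) (hS : Nat.card (S : Subgroup G) = 2 ^ 6) :
    Nonempty ((S : Subgroup G) ≃* DihedralGroup 32) := by
  haveI : Fact (Nat.Prime 2) := ⟨Nat.prime_two⟩
  have h' : CfsgLib.ChainEight.Hyp G 6 :=
    { simple := h.simple
      na := h.na
      ha := Or.inr (Or.inl rfl)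
      card := fun P => by rw [P.card_eq_multiplicity, ← S.card_eq_multiplicity, hS]
      chain := h.chain }
  exact (h'.cit S).1

/-- A dihedral group of order 64 has no elementary subgroup of order 8. -/
theorem no_elementary_dihedral {E : Subgroup G} (hE8 : Nat.card E = 8) (hE2 : ∀ a ∈ E, a * a = 1) {S : Subgroup G}
    (hES : E ≤ S) (e : S ≃* DihedralGroup 32) : False := by
  classical
  haveI : Fintype E := Fintype.ofFinite E
  have hc : ∀ a b : E, a * b = b * a := exp_two_comm fun x => Subtype.ext (hE2 x x.2)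
  let f : E →* DihedralGroup 32 := e.toMonoidHom.comp (Subgroup.inclusion hES)
  have hf : Function.Injective f := e.injective.comp (Subgroup.inclusion_injective hES)
  have h2 : ∀ x : E, f x * f x = 1 := fun x => by
    rw [← map_mul, show x * x = 1 from Subtype.ext (hE2 x x.2), map_one]
  have hz : ∀ i : ZMod 32, i + i = 0 → i = 0 ∨ i = 16 := by decide
  have hrot : ∀ x : E, ∀ i, f x = .r i → i = 0 ∨ i = 16 := fun x i hx => hz i (by
    have := h2 x
    rw [hx, DihedralGroup.r_mul_r, DihedralGroup.one_def, DihedralGroup.r.injEq] at this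
    exact this)
  have hrefl : ∀ x y : E, ∀ i j, f x = .sr i → f y = .sr j → j = i ∨ j = i + 16 := fun x y i j hx hy => by
    have := congrArg f (hc x y)
    rw [map_mul, map_mul, hx, hy, DihedralGroup.sr_mul_sr, DihedralGroup.sr_mul_sr, DihedralGroup.r.injEq] at this
    rcases hz (j - i) (by linear_combination this) with h | h
    · exact Or.inl (sub_eq_zero.mp h)
    · exact Or.inr (by rw [← h]; ring)
  obtain ⟨T, hT, hall⟩ : ∃ T : Finset (DihedralGroup 32), T.card ≤ 4 ∧ ∀ x : E, f x ∈ T := by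
    by_cases hex : ∃ x : E, ∃ i, f x = .sr i
    · obtain ⟨x₀, i₀, hx₀⟩ := hex
      refine ⟨{.r 0, .r 16, .sr i₀, .sr (i₀ + 16)}, Finset.card_le_four, fun x => ?_⟩
      rcases hx : f x with i | i
      · rcases hrot x i hx with rfl | rfl <;> simp
      · rcases hrefl x₀ x i₀ i hx₀ hx with rfl | rfl <;> simp
    · refine ⟨{.r 0, .r 16}, Finset.card_le_two.trans (by norm_num), fun x => ?_⟩
      rcases hx : f x with i | i
      · rcases hrot x i hx with rfl | rfl <;> simp
      · exact absurd ⟨x, i, hx⟩ hex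
  have hle := Finset.card_le_card_of_injOn (s := (Finset.univ : Finset E)) f (fun x _ => hall x) hf.injOn
  rw [Finset.card_univ, ← Nat.card_eq_fintype_card, hE8] at hle
  omega

/-- Without rank at most 2 some Sylow 2-subgroup contains an elementary subgroup of order 8. -/
theorem exists_eight (hr : ¬ Cfsg.PRankLE 2 2 G) :
    ∃ (S : Sylow 2 G) (E : Subgroup G), E ≤ (S : Subgroup G) ∧ Nat.card E = 8 ∧ ∀ a ∈ E, a * a = 1 := by
  haveI : Fact (Nat.Prime 2) := ⟨Nat.prime_two⟩
  simp only [Cfsg.PRankLE, not_forall] at hr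
  obtain ⟨A, hA, hA2, hA4⟩ := hr
  have hAp : IsPGroup 2 A := fun x => ⟨1, Subtype.ext (by simpa using hA2 x x.2)⟩
  obtain ⟨n, hn⟩ := hAp.exists_card_eq
  have hn3 : 3 ≤ n := by
    by_contra hlt
    exact hA4 (hn.trans_le (Nat.pow_le_pow_right two_pos (by omega)))
  obtain ⟨X, hX⟩ := Sylow.exists_subgroup_card_pow_prime (G := A) 2 (n := 3) (hn ▸ pow_dvd_pow 2 hn3)
  have hXp : IsPGroup 2 (X.map A.subtype) := (hAp.to_subgroup X).map _
  obtain ⟨S, hS⟩ := hXp.exists_le_sylow
  refine ⟨S, X.map A.subtype, hS, ?_, fun a ha => ?_⟩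
  · rw [← Nat.card_congr (X.equivMapOfInjective A.subtype A.subtype_injective).toEquiv, hX]
    norm_num
  · rw [← pow_two]
    exact hA2 a (map_subtype_le X ha)

/-- The unitary group over sixteen elements is too long. -/
theorem Hyp.no_psu_four (h : Hyp G) {F : Type} [Field F] [Fintype F] (hF : Fintype.card F = 16)
    (e : G ≃* Cfsg.PSU 3 F 4) : False := by
  haveI : Fact (Nat.Prime 2) := ⟨Nat.prime_two⟩
  obtain ⟨T⟩ : Nonempty (Sylow 2 (Cfsg.PSU 3 F 4)) := inferInstance
  obtain ⟨h64, hK, -, -, -, hsq⟩ := CfsgLib.UnitaryFour.main hF T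
  obtain ⟨S⟩ : Nonempty (Sylow 2 G) := inferInstance
  have hS : Nat.card (S : Subgroup G) = 2 ^ 6 := by
    rw [S.card_eq_multiplicity, Nat.card_congr e.toEquiv, ← T.card_eq_multiplicity, h64]
    norm_num
  obtain ⟨ed⟩ := h.dihedral_six S hS
  let x := ed.symm (DihedralGroup.r 1)
  have hx : orderOf x = 32 := by rw [MulEquiv.orderOf_eq, DihedralGroup.orderOf_r_one]
  have hp : IsPGroup 2 ↥((S : Subgroup G).map e.toMonoidHom) := S.2.map _
  obtain ⟨P, hP⟩ := hp.exists_le_sylow
  obtain ⟨-, hKP, -, -, -, hsqP⟩ := CfsgLib.UnitaryFour.main hF P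
  set y : (P : Subgroup (Cfsg.PSU 3 F 4)) := ⟨e (x : G), hP ⟨x, x.2, rfl⟩⟩ with hy
  have hy2 : y ^ 2 ∈ Subgroup.center (P : Subgroup (Cfsg.PSU 3 F 4)) := by
    rw [← QuotientGroup.eq_one_iff, QuotientGroup.mk_pow]
    exact hsqP _
  have hy4 : y ^ 4 = 1 := by
    haveI := hKP
    have h4 : (⟨y ^ 2, hy2⟩ : Subgroup.center (P : Subgroup (Cfsg.PSU 3 F 4))) * ⟨y ^ 2, hy2⟩ = 1 :=
      IsKleinFour.mul_self _
    exact (pow_add y 2 2).trans (congrArg Subtype.val h4)
  have hd := orderOf_dvd_of_pow_eq_one hy4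
  rw [← Subgroup.orderOf_coe y, hy, MulEquiv.orderOf_eq, Subgroup.orderOf_coe, hx] at hd
  norm_num at hd

/-- The classification. -/
theorem Hyp.classify (h : Hyp G) :
    (∃ (F : Type) (_ : Field F) (_ : Fintype F), Nonempty (G ≃* Matrix.ProjectiveSpecialLinearGroup (Fin 2) F)) ∨
      (∃ (F : Type) (_ : Field F) (_ : Fintype F), Fintype.card F = 9 ∧ Nonempty (G ≃* Cfsg.PSU 3 F 3)) ∨
      Nonempty (G ≃* ↥(alternatingGroup (Fin 7))) ∨ Cfsg.Spor.IsoM11 G ∨ Cfsg.Spor.IsoJ1 G ∨ Nat.card G = 126000 := by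
  classical
  haveI := h.simple
  haveI : Fact (Nat.Prime 2) := ⟨Nat.prime_two⟩
  by_cases hr : Cfsg.PRankLE 2 2 G
  · rcases Cfsg.Agent.S0482.result h.na hr with ⟨F, iF, iF', -, -, he⟩ | ⟨F, iF, iF', hodd, ⟨e⟩⟩ |
      ⟨F, iF, iF', q, hF, hq, ⟨e⟩⟩ | ⟨F, iF, iF', hF, ⟨e⟩⟩ | hA7 | hM
    · exact Or.inl ⟨F, iF, iF', he⟩
    · exact (h.no_psl_three hodd e).elim
    · have hq1 : q ≠ 1 := by
        rintro rfl
        have := Fintype.one_lt_card (α := F)
        rw [hF] at this
        norm_num at this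
      obtain ⟨k, hk⟩ := hq
      rcases (show q = 3 ∨ q = 5 ∨ 7 ≤ q by omega) with rfl | rfl | h7
      · exact Or.inr (Or.inl ⟨F, iF, iF', by rw [hF]; norm_num, ⟨e⟩⟩)
      · refine Or.inr (Or.inr (Or.inr (Or.inr (Or.inr ?_))))
        rw [Nat.card_congr e.toEquiv]
        have h1 := Cfsg.Agent.S0280.result hF 3 (by norm_num)
        rw [show Nat.gcd 3 (5 + 1) = 3 from rfl] at h1
        norm_num [Finset.prod_range_succ, Nat.even_iff] at h1
        simp only [← Nat.card_eq_fintype_card] at h1; omega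
      · exact (h.no_psu_three hF ⟨k, hk⟩ h7 e).elim
    · exact (h.no_psu_four hF e).elim
    · exact Or.inr (Or.inr (Or.inl hA7))
    · haveI := Fintype.ofFinite G
      exact Or.inr (Or.inr (Or.inr (Or.inl
        (CfsgSimpleM11.unique7920 hM CfsgM11Det.isM11_spor))))
  obtain ⟨S, E, hES, hE8, hE2⟩ := exists_eight hr
  obtain ⟨a, ha⟩ := S.2.exists_card_eq
  have ha6 := h.sylow_le_six S ha
  have ha5 : a ≤ 5 := by
    by_contra hc
    obtain rfl : a = 6 := by omega
    obtain ⟨ed⟩ := h.dihedral_six S ha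
    exact no_elementary_dihedral hE8 hE2 hES ed
  have ha3 : 3 ≤ a := by
    have := card_le_of_le hES
    rw [hE8, ha, show 8 = 2 ^ 3 by norm_num] at this
    exact (Nat.pow_le_pow_iff_right (by norm_num)).mp this
  by_cases hab : IsMulCommutative (S : Subgroup G)
  · haveI := Fintype.ofFinite G
    rcases CfsgLib.WalterUse.Ward.abKind_of h.na S hab with ⟨F, h4, hq, e⟩ | hree | hJ
    · exact Or.inl ⟨F, inferInstance, inferInstance, ⟨e⟩⟩
    · exfalso
      obtain ⟨F, iF, iF', iP, C, -, R⟩ := hree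
      obtain ⟨m, hm, hq⟩ := R.pow
      haveI : Fact (Nat.Prime 3) := ⟨Nat.prime_three⟩
      have h27 : 3 ^ 9 ∣ Nat.card G := by
        rw [R.card, hq, mul_assoc]
        refine Dvd.dvd.mul_right ?_ _
        rw [← pow_mul]
        exact pow_dvd_pow 3 (by omega)
      obtain ⟨T, hT⟩ := Sylow.exists_subgroup_card_pow_prime 3 h27
      have hTtop : T ≠ ⊤ := fun e => by
        have h1 : (2 : ℕ) ∣ 3 ^ 9 := by
          rw [← hT, e, card_top]
          exact (show 2 ∣ Nat.card (S : Subgroup G) by rw [ha]; exact dvd_pow_self 2 (by omega)).trans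
            (card_subgroup_dvd_card _)
        norm_num at h1
      have := h.ch_le hTtop (ch_pgroup 9 T hT)
      omega
    · exact Or.inr (Or.inr (Or.inr (Or.inr (Or.inl hJ))))
  exfalso
  interval_cases a <;> norm_num at ha
  · obtain rfl : E = (S : Subgroup G) := eq_of_le_of_card_ge hES (by omega)
    exact hab ⟨⟨fun x y => exp_two_comm (fun z => Subtype.ext (hE2 z z.2)) x y⟩⟩
  · exact no_sixteen h.na h.no_index_two S ha hES hE8 hE2 hab
  · exact h.no_thirty_two S ha hES hE8 hE2 hab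

end CfsgLib.LenSeven
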