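import Cfsg.Agent.Lib.LenSeven.Kinds32
import Cfsg.Agent.Lib.LocalFusion
import Cfsg.Agent.S1169
import Cfsg.Agent.S0222
import Cfsg.Agent.Lib.StrongEmbDim.Models
import Cfsg.Agent.Lib.JTType.PSLTwo

/-!
No simple group without a chain of eight steps has a non-abelian Sylow 2-subgroup of order 32 with an elementary
subgroup of order 8.
-/

set_option autoImplicit false
set_option linter.style.haveILetI false
set_option linter.unusedSectionVars false

open Subgroup

namespace CfsgLib.LenSeven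

universe u

variable {G : Type u} [Group G] [Finite G]

theorem mem_conjSubgroup_normalizer {Q : Subgroup G} {n g : G} :
    g ∈ Subgroup.normalizer ((Q.map (MulAut.conj n).toMonoidHom : Subgroup G) : Set G) ↔
      n⁻¹ * g * n ∈ Subgroup.normalizer (Q : Set G) := by
  constructor
  · refine fun hg => mem_normalizer_fintype fun q hq => ?_
    have := mem_map_conj.mp ((mem_normalizer_iff.mp hg (n * q * n⁻¹)).mp (mem_map_conj.mpr (by
      simpa [mul_assoc] using hq)))
    simpa [mul_assoc, mul_inv_rev] using this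
  · refine fun hg => mem_normalizer_fintype fun q hq => ?_
    have := (mem_normalizer_iff.mp hg (n⁻¹ * q * n)).mp (mem_map_conj.mp hq)
    show g * q * g⁻¹ ∈ Q.map (MulAut.conj n).toMonoidHom
    rw [mem_map_conj]
    simpa [mul_assoc, mul_inv_rev] using this

theorem Ess.map (n : G) {S Q : Subgroup G} (hn : n ∈ Subgroup.normalizer (S : Set G)) (e : Ess S Q) :
    Ess S (Q.map (MulAut.conj n).toMonoidHom) := by
  refine ⟨?_, by rw [card_map_conj, e.card], fun s hs => ?_, fun hle => e.not_le fun m hm => ?_, ?_⟩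
  · rintro _ ⟨q, hq, rfl⟩
    exact (mem_normalizer_iff.mp hn q).mp (e.le hq)
  · rw [mem_conjSubgroup_normalizer]
    refine e.norm ?_
    have := (mem_normalizer_iff.mp (inv_mem hn) s).mp hs
    rwa [inv_inv] at this
  · have h1 := hle (mem_conjSubgroup_normalizer.mpr (show n⁻¹ * (n * m * n⁻¹) * n ∈ _ by simpa [mul_assoc] using hm))
    have := mul_mem (mul_mem (inv_mem hn) h1) hn
    simpa [mul_assoc] using this
  · obtain ⟨x, hx, hxo, hxC⟩ := e.odd
    refine ⟨n * x * n⁻¹, mem_conjSubgroup_normalizer.mpr (by simpa [mul_assoc] using hx), ?_, fun hC => hxC ?_⟩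
    · rwa [show n * x * n⁻¹ = MulAut.conj n x from rfl, MulEquiv.orderOf_eq]
    · refine mem_centralizer_iff.mpr fun q hq => ?_
      have h1 := mem_centralizer_iff.mp hC (n * q * n⁻¹) (mem_map_conj.mpr (by simpa [mul_assoc] using hq))
      have h2 : n⁻¹ * (n * q * n⁻¹ * (n * x * n⁻¹)) * n = n⁻¹ * (n * x * n⁻¹ * (n * q * n⁻¹)) * n := by rw [h1]
      simpa [mul_assoc] using h2

/-- A group with a non-abelian Sylow 2-subgroup of order at most 32 has no strongly embedded subgroup. -/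
theorem Hyp.no_stronglyEmbedded (h : Hyp G) (S : Sylow 2 G) (hS : Nat.card (S : Subgroup G) ≤ 32)
    (hna : ¬ IsMulCommutative (S : Subgroup G)) (H : Subgroup G) : ¬ Cfsg.IsStronglyEmbedded H := by
  intro hH
  haveI := h.simple
  haveI : Fact (Nat.Prime 2) := ⟨Nat.prime_two⟩
  have hnc : ∃ a b : G, a * b ≠ b * a := by
    by_contra hc
    push Not at hc
    exact h.na ⟨⟨hc⟩⟩
  have hcard : ∀ {L : Type} [Group L] [Finite L], (G ≃* L) → ∀ T : Sylow 2 L,
      Nat.card (T : Subgroup L) = Nat.card (S : Subgroup G) := fun {L} _ _ e T => by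
    rw [S.card_eq_multiplicity, T.card_eq_multiplicity, Nat.card_congr e.toEquiv]
  rcases Cfsg.Agent.S0222.result hnc H hH with ⟨F, _, _, hch, -, ⟨e⟩⟩ | hsz | ⟨F, _, _, q, hF, hqe, h4, ⟨e⟩⟩
  · haveI := hch
    have hT : IsPGroup 2 ↥((S : Subgroup G).map e.toMonoidHom) := S.2.map _
    obtain ⟨T, hT'⟩ := hT.exists_le_sylow
    obtain ⟨g, hg⟩ := CfsgLib.JT.even_sylow T
    refine hna ⟨⟨fun a b => Subtype.ext (e.injective ?_)⟩⟩
    obtain ⟨s, hs⟩ := (hg _).mp (hT' ⟨a, a.2, rfl⟩)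
    obtain ⟨t, ht⟩ := (hg _).mp (hT' ⟨b, b.2, rfl⟩)
    simp only [MulEquiv.coe_toMonoidHom] at hs ht
    show e ((a : G) * b) = e ((b : G) * a)
    rw [map_mul, map_mul, ← hs, ← ht]
    simp only [CfsgLib.PSL2.uu, mul_assoc, inv_mul_cancel_left, mul_right_inj]
    rw [← mul_assoc, ← map_mul, mul_comm, map_mul, mul_assoc]
  · obtain ⟨-, m, hm, hG⟩ := hsz
    have h1 : 2 ^ 6 ∣ Nat.card G := by
      rw [hG]
      refine Dvd.dvd.mul_right (Dvd.dvd.mul_right ?_ _) _
      rw [← pow_mul]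
      exact pow_dvd_pow 2 (by omega)
    have h2 := (Nat.Prime.pow_dvd_iff_le_factorization Nat.prime_two Nat.card_pos.ne').mp h1
    rw [S.card_eq_multiplicity] at hS
    have := (Nat.pow_le_pow_iff_right (show 1 < 2 by norm_num)).mp (hS.trans_eq (show (32 : ℕ) = 2 ^ 5 by norm_num))
    omega
  · obtain ⟨n, rfl⟩ : ∃ n, q = 2 ^ n := by
      obtain ⟨l, hl⟩ := CharP.exists F
      obtain ⟨m, hlp, hm⟩ := FiniteField.card F l
      have h2 : 2 ∣ l ^ (m : ℕ) := hm ▸ hF ▸ dvd_pow (even_iff_two_dvd.1 hqe) two_ne_zero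
      have h2l := (Nat.prime_dvd_prime_iff_eq Nat.prime_two hlp).1 (Nat.prime_two.dvd_of_dvd_pow h2)
      obtain ⟨i, -, hi⟩ := (Nat.dvd_prime_pow Nat.prime_two).1
        (show q ∣ 2 ^ (m : ℕ) by rw [h2l, ← hm, hF]; exact dvd_pow_self q two_ne_zero)
      exact ⟨i, hi⟩
    have hn2 : 2 ≤ n := by
      by_contra hlt
      have := Nat.pow_le_pow_right (show 0 < 2 by norm_num) (show n ≤ 1 by omega)
      omega
    obtain ⟨T⟩ : Nonempty (Sylow 2 (Cfsg.PSU 3 F (2 ^ n))) := inferInstance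
    have h1 := hcard e T
    rw [(CfsgLib.StrongEmbDim.data_psu hn2 hF).card_sylow T] at h1
    rw [← h1] at hS
    have := (Nat.pow_le_pow_iff_right (show 1 < 2 by norm_num)).mp (hS.trans_eq (show (32 : ℕ) = 2 ^ 5 by norm_num))
    omega

/-- The main result on Sylow 2-subgroups of order 32. -/
theorem Hyp.no_thirty_two (h : Hyp G) (S : Sylow 2 G) (hS : Nat.card (S : Subgroup G) = 32) {E : Subgroup G}
    (hES : E ≤ (S : Subgroup G)) (hE8 : Nat.card E = 8) (hE2 : ∀ a ∈ E, a * a = 1)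
    (hna : ¬ IsMulCommutative (S : Subgroup G)) : False := by
  classical
  haveI : Fact (Nat.Prime 2) := ⟨Nat.prime_two⟩
  haveI := h.simple
  set NS := Subgroup.normalizer ((S : Subgroup G) : Set G) with hNS
  have hEc : ∀ a ∈ E, ∀ b ∈ E, a * b = b * a := fun a ha b hb =>
    congrArg Subtype.val (exp_two_comm (X := E) (fun x => Subtype.ext (hE2 x x.2)) ⟨a, ha⟩ ⟨b, hb⟩)
  have huniq : ∀ {Q₁ Q₂ : Subgroup G}, Ess (S : Subgroup G) Q₁ → Ess (S : Subgroup G) Q₂ → Q₁ = Q₂ :=
    fun e₁ e₂ => Ess.unique h S.2 hS hES hE8 hEc hE2 e₁ e₂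
  have hkinds : ∀ P : Subgroup G, P ≤ (S : Subgroup G) → Cfsg.FusionSystem.centralizerIn (S : Subgroup G) P ≤ P →
      ¬ IsPGroup 2 (MulAut P) → ∀ g ∈ Subgroup.normalizer (P : Set G),
      (∃ n ∈ NS, ∀ x ∈ P, g * x * g⁻¹ = n * x * n⁻¹) ∨ ∃ Q, Ess (S : Subgroup G) Q ∧ P ≤ Q :=
    fun P hPS hcen haut g hg => h.kinds S hS hES hE8 hE2 hPS
      (fun s hs hc => hcen ⟨hs, mem_centralizer_iff.mpr fun p hp => (hc p hp).symm⟩) haut hg
  by_cases hN : NS ≤ (S : Subgroup G)
  · -- at most one subgroup carries fusion: a normal subgroup of index 2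
    obtain ⟨M₀, hM₀S, hM₀c, hM₀⟩ : ∃ M₀ ≤ (S : Subgroup G), Nat.card M₀ = 16 ∧
        ∀ Q, Ess (S : Subgroup G) Q → Q ≤ M₀ := by
      by_cases hQ : ∃ Q, Ess (S : Subgroup G) Q
      · obtain ⟨Q, e⟩ := hQ
        exact ⟨Q, e.le, e.card, fun Q' e' => (huniq e' e).le⟩
      · obtain ⟨X, hX⟩ := Sylow.exists_subgroup_card_pow_prime 2 (n := 4) (G := (S : Subgroup G))
          (by rw [hS]; norm_num)
        refine ⟨X.map (S : Subgroup G).subtype, map_subtype_le _, ?_, fun Q e => absurd ⟨Q, e⟩ hQ⟩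
        rw [← Nat.card_congr (X.equivMapOfInjective _ (S : Subgroup G).subtype_injective).toEquiv, hX]
        norm_num
    have hidx : (M₀.subgroupOf (S : Subgroup G)).index = 2 := by
      have h1 := (M₀.subgroupOf (S : Subgroup G)).card_mul_index
      rw [Nat.card_congr (subgroupOfEquivOfLe hM₀S).toEquiv, hM₀c, hS] at h1
      omega
    haveI hMn := normal_of_index_eq_two hidx
    let r : G → G → Prop := fun x y => x * y⁻¹ ∈ M₀
    have hr : Equivalence r := ⟨fun x => by show x * x⁻¹ ∈ M₀; rw [mul_inv_cancel]; exact one_mem _,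
      fun {x y} hxy => by
        show y * x⁻¹ ∈ M₀
        have := inv_mem hxy
        rwa [mul_inv_rev, inv_inv] at this,
      fun {x y z} h1 h2 => by
        show x * z⁻¹ ∈ M₀
        have := mul_mem h1 h2
        rwa [show x * y⁻¹ * (y * z⁻¹) = x * z⁻¹ by group] at this⟩
    have hcomm : ∀ s ∈ (S : Subgroup G), ∀ x ∈ (S : Subgroup G), r x (s * x * s⁻¹) := by
      intro s hs x hx
      show x * (s * x * s⁻¹)⁻¹ ∈ M₀
      rw [show x * (s * x * s⁻¹)⁻¹ = x * s * (x⁻¹ * s⁻¹) by group]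
      refine (mul_mem_iff_of_index_two hidx (a := ⟨x * s, mul_mem hx hs⟩)
        (b := ⟨x⁻¹ * s⁻¹, mul_mem (inv_mem hx) (inv_mem hs)⟩)).mpr ?_
      have h1 := mul_mem_iff_of_index_two hidx (a := ⟨x, hx⟩) (b := ⟨s, hs⟩)
      have h2 := mul_mem_iff_of_index_two hidx (a := ⟨x, hx⟩⁻¹) (b := ⟨s, hs⟩⁻¹)
      rw [inv_mem_iff, inv_mem_iff] at h2
      exact h1.trans h2.symm
    obtain ⟨K, -, -, hK⟩ := CfsgLib.LocalFusion.exists_normal_inf S hM₀S
      (fun s hs x hx => hMn.conj_mem ⟨x, hM₀S hx⟩ hx ⟨s, hs⟩)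
      (fun x hx g hg => CfsgLib.LocalFusion.fusion_rel S r hr hcomm (fun P hPS hcen haut g hg x hx => by
        rcases hkinds P hPS hcen haut g hg with ⟨n, hn, he⟩ | ⟨Q, e, hPQ⟩
        · rw [he x hx]
          exact hcomm n (hN hn) x (hPS hx)
        · exact mul_mem (hM₀ Q e (hPQ hx)) (inv_mem (hM₀ Q e (hPQ ((mem_normalizer_iff.mp hg x).mp hx))))) hx hg)
    refine h.no_index_two K ?_
    rw [hK]
    exact hidx
  · -- `N(S)` controls fusion: a strongly closed abelian subgroup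
    obtain ⟨n, hn, hnS⟩ := SetLike.not_le_iff_exists.mp hN
    have hnoEss : ∀ Q, ¬ Ess (S : Subgroup G) Q := fun Q e => by
      have he := huniq (e.map n hn) e
      refine hnS (e.self h S.2 hS (mem_normalizer_fintype fun q hq => ?_) hn)
      exact he.le (mem_map_conj.mpr (by simpa [mul_assoc] using hq))
    set A : Subgroup G :=
      { carrier := {a | a ∈ (S : Subgroup G) ∧ a * a = 1 ∧ ∀ s ∈ (S : Subgroup G), s * a = a * s}
        one_mem' := ⟨one_mem _, one_mul 1, fun s _ => by rw [mul_one, one_mul]⟩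
        mul_mem' := fun {a b} ha hb => ⟨mul_mem ha.1 hb.1, by
          calc a * b * (a * b) = a * (b * a) * b := by group
            _ = a * a * (b * b) := by rw [ha.2.2 b hb.1]; group
            _ = 1 := by rw [ha.2.1, hb.2.1, mul_one],
          fun s hs => by rw [← mul_assoc, ha.2.2 s hs, mul_assoc, hb.2.2 s hs, mul_assoc]⟩
        inv_mem' := fun {a} ha => by
          rw [inv_eq_of_mul_eq_one_right ha.2.1]
          exact ha } with hA
    have hmA : ∀ a, a ∈ A ↔ a ∈ (S : Subgroup G) ∧ a * a = 1 ∧ ∀ s ∈ (S : Subgroup G), s * a = a * s :=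
      fun a => Iff.rfl
    have hnA : ∀ m ∈ NS, ∀ a ∈ A, m * a * m⁻¹ ∈ A := by
      intro m hm a ha
      refine (hmA _).mpr ⟨(mem_normalizer_iff.mp hm a).mp ha.1, ?_, fun s hs => ?_⟩
      · rw [show m * a * m⁻¹ * (m * a * m⁻¹) = m * (a * a) * m⁻¹ by group, ha.2.1, mul_one, mul_inv_cancel]
      · have h1 : m⁻¹ * s * m ∈ (S : Subgroup G) := by
          have := (mem_normalizer_iff.mp (inv_mem hm) s).mp hs
          rwa [inv_inv] at this
        calc s * (m * a * m⁻¹) = m * ((m⁻¹ * s * m) * a) * m⁻¹ := by group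
          _ = m * (a * (m⁻¹ * s * m)) * m⁻¹ := by rw [ha.2.2 _ h1]
          _ = _ := by group
    have hAiff : ∀ m ∈ NS, ∀ a, (a ∈ A ↔ m * a * m⁻¹ ∈ A) := fun m hm a => by
      refine ⟨hnA m hm a, fun ha => ?_⟩
      have := hnA m⁻¹ (inv_mem hm) _ ha
      simpa [mul_assoc] using this
    have hA1 : A ≠ ⊥ := by
      haveI : Nontrivial (S : Subgroup G) := by
        rw [← Finite.one_lt_card_iff_nontrivial, hS]
        norm_num
      haveI := S.2.center_nontrivial
      obtain ⟨z, hz⟩ := exists_prime_orderOf_dvd_card' (G := Subgroup.center (S : Subgroup G)) 2 (by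
        obtain ⟨j, hj⟩ := (S.2.to_subgroup (center (S : Subgroup G))).exists_card_eq
        have := Finite.one_lt_card (α := center (S : Subgroup G))
        rw [hj] at this ⊢
        exact dvd_pow_self 2 (by intro e; rw [e] at this; norm_num at this))
      have hzz : z * z = 1 := by
        have h1 := pow_orderOf_eq_one z
        rwa [hz, pow_two] at h1
      intro hb
      have hmem : ((z : (S : Subgroup G)) : G) ∈ A := (hmA _).mpr ⟨(z : (S : Subgroup G)).2,
        congrArg (fun w : center (S : Subgroup G) => ((w : (S : Subgroup G)) : G)) hzz,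
        fun s hs => congrArg Subtype.val (mem_center_iff.mp z.2 ⟨s, hs⟩)⟩
      rw [hb, mem_bot] at hmem
      have : z = 1 := Subtype.ext (Subtype.ext hmem)
      rw [this, orderOf_one] at hz
      omega
    have hsc : Cfsg.IsStronglyClosed A (S : Subgroup G) := ⟨fun a ha => ha.1, fun x hx g hg =>
      (CfsgLib.LocalFusion.fusion_rel S (fun x y => (x ∈ A ↔ y ∈ A))
        ⟨fun _ => Iff.rfl, fun h1 => h1.symm, fun h1 h2 => h1.trans h2⟩
        (fun s hs x _ => hAiff s (Subgroup.le_normalizer hs) x) (fun P hPS hcen haut g hg x hx => by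
          rcases hkinds P hPS hcen haut g hg with ⟨m, hm, he⟩ | ⟨Q, e, -⟩
          · rw [he x hx]
            exact hAiff m hm x
          · exact absurd e (hnoEss Q)) hx.1 hg).mp hx⟩
    have hAc : IsMulCommutative A := ⟨⟨fun a b => Subtype.ext (b.2.2.2 a a.2.1)⟩⟩
    rcases Cfsg.Agent.S1169.result S A hA1 hAc hsc with hc | ⟨H, hH⟩
    · exact hna hc
    · exact h.no_stronglyEmbedded S hS.le hna H hH

end CfsgLib.LenSeven
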