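import Cfsg.Agent.Lib.LenSeven.Base
import Cfsg.Agent.Lib.LenSeven.Squares

/-!
Two subgroups of index 2 of a Sylow 2-subgroup of order 32 cannot both carry fusion.
-/

set_option autoImplicit false
set_option linter.style.haveILetI false
set_option linter.unusedSectionVars false

open Subgroup

namespace CfsgLib.LenSeven

variable {G : Type*} [Group G] [Finite G]

/-- A subgroup of index 2 of `S` with an automorphism of odd order not coming from `N(S)`. -/
structure Ess (S Q : Subgroup G) : Prop where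
  le : Q ≤ S
  card : Nat.card Q = 16
  norm : S ≤ Subgroup.normalizer (Q : Set G)
  not_le : ¬ Subgroup.normalizer (Q : Set G) ≤ Subgroup.normalizer (S : Set G)
  odd : ∃ x ∈ Subgroup.normalizer (Q : Set G), Odd (orderOf x) ∧ x ∉ Subgroup.centralizer (Q : Set G)

variable {S Q : Subgroup G}

theorem Ess.ne_top (h : Hyp G) (hS : IsPGroup 2 S) (e : Ess S Q) : Subgroup.normalizer (Q : Set G) ≠ ⊤ :=
  h.normalizer_ne_top (fun hb => by have := e.card; rw [hb, card_bot] at this; omega)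
    (h.ne_top_of_isPGroup (hS.to_le e.le))

theorem Ess.lt (e : Ess S Q) : S < Subgroup.normalizer (Q : Set G) :=
  lt_of_le_of_ne e.norm fun he => e.not_le (he.symm.le.trans Subgroup.le_normalizer)

theorem Ess.self (h : Hyp G) (hS : IsPGroup 2 S) (hS32 : Nat.card S = 32) (e : Ess S Q) {m : G}
    (hm : m ∈ Subgroup.normalizer (Q : Set G)) (hm' : m ∈ Subgroup.normalizer (S : Set G)) : m ∈ S := by
  by_contra hmS
  have hle : S ≤ Subgroup.normalizer (Q : Set G) ⊓ Subgroup.normalizer (S : Set G) :=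
    le_inf e.norm Subgroup.le_normalizer
  have h1 := h.between hS32 (lt_of_le_of_ne hle fun he => hmS (he.ge ⟨hm, hm'⟩)) inf_le_left (e.ne_top h hS)
  exact e.not_le (h1 ▸ inf_le_right)

theorem Ess.exists_outside (h : Hyp G) (e : Ess S Q) : ∃ m ∈ Subgroup.normalizer (Q : Set G), m ∉ S :=
  (SetLike.exists_of_lt e.lt)

/-- What is centralised by two Sylow subgroups of `N(Q)` is central in it. -/
theorem Ess.eq_of_two (h : Hyp G) (hS : IsPGroup 2 S) (hS32 : Nat.card S = 32) (e : Ess S Q) {X : Subgroup G}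
    (hle : S ≤ X) {m : G} (hm : m ∈ Subgroup.normalizer (Q : Set G)) (hmS : m ∉ S)
    (hconj : ∀ s ∈ S, m * s * m⁻¹ ∈ X) : Subgroup.normalizer (Q : Set G) ≤ X := by
  have h1 : S < X ⊓ Subgroup.normalizer (Q : Set G) := by
    refine lt_of_le_of_ne (le_inf hle e.norm) fun he => hmS (e.self h hS hS32 hm (mem_normalizer_fintype fun s hs => ?_))
    have hsN : s ∈ Subgroup.normalizer (Q : Set G) := e.norm hs
    exact he.ge ⟨hconj s hs, Subgroup.mul_mem _ (Subgroup.mul_mem _ hm hsN) (Subgroup.inv_mem _ hm)⟩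
  exact (h.between hS32 h1 inf_le_right (e.ne_top h hS)).ge.trans inf_le_left

/-- A central normal subset of `N(Q)` is centralised by it. -/
theorem Ess.central (h : Hyp G) (hS : IsPGroup 2 S) (hS32 : Nat.card S = 32) (e : Ess S Q) {A : Set G}
    (hA : ∀ a ∈ A, ∀ s ∈ S, s * a = a * s)
    (hN : ∀ m ∈ Subgroup.normalizer (Q : Set G), ∀ a ∈ A, m * a * m⁻¹ ∈ A) {a : G} (ha : a ∈ A) :
    Subgroup.normalizer (Q : Set G) ≤ centralizer ({a} : Set G) := by
  obtain ⟨m, hm, hmS⟩ := e.exists_outside h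
  refine e.eq_of_two h hS hS32 (fun s hs => mem_centralizer_singleton_iff.mpr (hA a ha s hs)) hm hmS
    fun s hs => mem_centralizer_singleton_iff.mpr ?_
  have h1 := hA _ (hN m⁻¹ (inv_mem hm) a ha) s hs
  rw [inv_inv] at h1
  calc m * s * m⁻¹ * a = m * (s * (m⁻¹ * a * m)) * m⁻¹ := by group
    _ = m * (m⁻¹ * a * m * s) * m⁻¹ := by rw [h1]
    _ = a * (m * s * m⁻¹) := by group

theorem Ess.ne_normalizer (h : Hyp G) (hS : IsPGroup 2 S) (hS32 : Nat.card S = 32) {Q₁ Q₂ : Subgroup G}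
    (e₁ : Ess S Q₁) (e₂ : Ess S Q₂) (hne : Q₁ ≠ Q₂) :
    Subgroup.normalizer (Q₁ : Set G) ≠ Subgroup.normalizer (Q₂ : Set G) := by
  intro he
  have hsup : Q₁ ⊔ Q₂ = S := by
    refine eq_of_le_of_card_ge (sup_le e₁.le e₂.le) ?_
    have h1 : Nat.card ↥(Q₁ ⊓ Q₂) < 16 := by
      rw [← e₁.card]
      refine lt_of_le_of_ne (card_le_of_le inf_le_left) fun hc => hne ?_
      have : Q₁ ⊓ Q₂ = Q₁ := eq_of_le_of_card_ge inf_le_left hc.ge
      exact eq_of_le_of_card_ge (this ▸ inf_le_right) (by rw [e₁.card, e₂.card])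
    have h2 := Products.card_mul_card_le Q₁ Q₂
    rw [e₁.card, e₂.card] at h2
    have h3 := card_le_of_le (sup_le e₁.le e₂.le : Q₁ ⊔ Q₂ ≤ S)
    have h4 : Nat.card ↥(Q₁ ⊓ Q₂) ∣ 2 ^ 4 := by
      rw [show (2 : ℕ) ^ 4 = 16 by norm_num, ← e₁.card]
      exact Subgroup.card_dvd_of_le inf_le_left
    obtain ⟨i, hi, hi'⟩ := (Nat.dvd_prime_pow Nat.prime_two).mp h4
    rw [hi'] at h1 h2
    have : i ≤ 3 := by
      by_contra hc
      obtain rfl : i = 4 := by omega
      norm_num at h1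
    have : 2 ^ i ≤ 2 ^ 3 := Nat.pow_le_pow_right two_pos this
    rw [hS32]
    nlinarith
  refine e₁.not_le fun m hm => mem_normalizer_fintype fun s hs => ?_
  have : S ≤ S.comap (MulAut.conj m).toMonoidHom := by
    conv_lhs => rw [← hsup]
    refine sup_le (fun q hq => e₁.le ((mem_normalizer_iff.mp hm q).mp hq)) fun q hq =>
      e₂.le ((mem_normalizer_iff.mp (he ▸ hm : m ∈ Subgroup.normalizer (Q₂ : Set G)) q).mp hq)
  exact this hs

theorem Ess.common (h : Hyp G) (hS : IsPGroup 2 S) (hS32 : Nat.card S = 32) {Q₁ Q₂ : Subgroup G}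
    (e₁ : Ess S Q₁) (e₂ : Ess S Q₂) (hne : Q₁ ≠ Q₂) {a : G} (ha : a ≠ 1)
    (h₁ : Subgroup.normalizer (Q₁ : Set G) ≤ centralizer ({a} : Set G))
    (h₂ : Subgroup.normalizer (Q₂ : Set G) ≤ centralizer ({a} : Set G)) : False :=
  e₁.ne_normalizer h hS hS32 e₂ hne ((h.between hS32 e₁.lt h₁ (h.centralizer_ne_top ha)).trans
    (h.between hS32 e₂.lt h₂ (h.centralizer_ne_top ha)).symm)

/-- The square of a non-abelian one is central in its normaliser. -/
theorem Ess.nonabelian (e : Ess S Q) (hna : ¬ ∀ a ∈ Q, ∀ b ∈ Q, a * b = b * a) :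
    ∃ u : G, u ≠ 1 ∧ (∀ q ∈ Q, q * q = 1 ∨ q * q = u) ∧
      Subgroup.normalizer (Q : Set G) ≤ centralizer ({u} : Set G) ∧
      ¬ ∃ R ≤ Q, Nat.card R = 8 ∧ ∀ r ∈ R, r * r = 1 := by
  obtain ⟨x, hx, hxo, hxC⟩ := e.odd
  have hna' : ¬ ∀ a b : Q, a * b = b * a := fun hc => hna fun a ha b hb =>
    congrArg Subtype.val (hc ⟨a, ha⟩ ⟨b, hb⟩)
  set φ := Subgroup.normalizerMonoidHom Q ⟨x, hx⟩ with hφdef
  have hφn : φ ^ orderOf x = 1 := by
    rw [hφdef, ← map_pow]
    convert map_one Q.normalizerMonoidHom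
    exact Subtype.ext (pow_orderOf_eq_one x)
  have hφ : φ ≠ 1 := fun hh => hxC (by
    have := (MonoidHom.mem_ker (f := Q.normalizerMonoidHom) (x := ⟨x, hx⟩)).mpr hh
    rw [normalizerMonoidHom_ker] at this
    exact this)
  obtain ⟨u, hu1, -, hsq, hψ, hR⟩ := squares_of_odd_aut (X := Q) e.card hna' φ hxo hφn hφ
  refine ⟨u, fun he => hu1 (Subtype.ext he), fun q hq => ?_, fun m hm => mem_centralizer_singleton_iff.mpr ?_, ?_⟩
  · exact (hsq ⟨q, hq⟩).imp (congrArg Subtype.val) (congrArg Subtype.val)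
  · have := congrArg Subtype.val (hψ (Subgroup.normalizerMonoidHom Q ⟨m, hm⟩))
    exact mul_inv_eq_iff_eq_mul.mp this
  · rintro ⟨R, hR', hR8, hsqR⟩
    exact hR ⟨R.subgroupOf Q, by rw [Nat.card_congr (subgroupOfEquivOfLe hR').toEquiv, hR8],
      fun r hr => Subtype.ext (hsqR r hr)⟩

/-- Only one such subgroup. -/
theorem Ess.unique (h : Hyp G) (hS : IsPGroup 2 S) (hS32 : Nat.card S = 32) {E : Subgroup G} (hE : E ≤ S)
    (hE8 : Nat.card E = 8) (hEc : ∀ a ∈ E, ∀ b ∈ E, a * b = b * a) (hE2 : ∀ a ∈ E, a * a = 1)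
    {Q₁ Q₂ : Subgroup G} (e₁ : Ess S Q₁) (e₂ : Ess S Q₂) : Q₁ = Q₂ := by
  by_contra hne
  have hfix := fun a ha => e₁.common h hS hS32 e₂ hne (a := a) ha
  set R := Q₁ ⊓ Q₂ with hR
  have hsupcard : ∀ X Y : Subgroup G, X ≤ S → Y ≤ S → Nat.card X * Nat.card Y ≤ 32 * Nat.card ↥(X ⊓ Y) := by
    intro X Y hX hY
    refine (Products.card_mul_card_le X Y).trans (Nat.mul_le_mul_right _ ?_)
    rw [← hS32]
    exact card_le_of_le (sup_le hX hY)
  have hR8 : 8 ≤ Nat.card R := by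
    have := hsupcard Q₁ Q₂ e₁.le e₂.le
    rw [e₁.card, e₂.card, ← hR] at this
    omega
  have hsup : ∀ s ∈ S, s ∈ Q₁ ⊔ Q₂ := by
    intro s hs
    have hlt : Q₁ < Q₁ ⊔ Q₂ := lt_of_le_of_ne le_sup_left fun he =>
      hne (eq_of_le_of_card_ge (he.symm ▸ le_sup_right : Q₂ ≤ Q₁) (by rw [e₁.card, e₂.card])).symm
    have h1 := card_dvd_of_le (le_sup_left : Q₁ ≤ Q₁ ⊔ Q₂)
    rw [e₁.card] at h1
    have h2 : 16 < Nat.card ↥(Q₁ ⊔ Q₂) := by
      rw [← e₁.card]
      by_contra hc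
      exact hlt.ne (eq_of_le_of_card_ge le_sup_left (by omega))
    have h3 := eq_of_le_of_card_ge (sup_le e₁.le e₂.le : Q₁ ⊔ Q₂ ≤ S) (by rw [hS32]; omega)
    exact h3.ge hs
  -- one of them is non-abelian unless `R` is central
  by_cases hc : (∀ a ∈ Q₁, ∀ b ∈ Q₁, a * b = b * a) ∧ ∀ a ∈ Q₂, ∀ b ∈ Q₂, a * b = b * a
  · have hcen : ∀ r ∈ R, ∀ s ∈ S, s * r = r * s := fun r hr s hs => by
      have hle : Q₁ ⊔ Q₂ ≤ centralizer ({r} : Set G) := sup_le
        (fun q hq => mem_centralizer_singleton_iff.mpr (hc.1 q hq r hr.1))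
        (fun q hq => mem_centralizer_singleton_iff.mpr (hc.2 q hq r hr.2))
      exact mem_centralizer_singleton_iff.mp (hle (hsup s hs))
    have hW : ∀ {Q : Subgroup G}, Ess S Q → R ≤ Q → ∃ W ≤ R, 4 ≤ Nat.card W ∧
        ∀ w ∈ W, Subgroup.normalizer (Q : Set G) ≤ centralizer ({w} : Set G) := by
      intro Q e hRQ
      obtain ⟨m, hm, hmS⟩ := e.exists_outside h
      set R' := R.map (MulAut.conj m).toMonoidHom with hR'
      refine ⟨R ⊓ R', inf_le_left, ?_, fun w hw => ?_⟩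
      · have hR'Q : R' ≤ Q := by
          rintro _ ⟨r, hr, rfl⟩
          exact (mem_normalizer_iff.mp hm r).mp (hRQ hr)
        have h1 := (Products.card_mul_card_le R R').trans
          (Nat.mul_le_mul_right _ (card_le_of_le (sup_le hRQ hR'Q)))
        rw [e.card, hR', card_map_conj, ← hR'] at h1
        nlinarith
      · obtain ⟨r, hr, hrw⟩ := hw.2
        refine e.eq_of_two h hS hS32 (fun s hs => mem_centralizer_singleton_iff.mpr (hcen w hw.1 s hs)) hm hmS
          fun s hs => mem_centralizer_singleton_iff.mpr ?_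
        rw [← hrw]
        show m * s * m⁻¹ * (m * r * m⁻¹) = m * r * m⁻¹ * (m * s * m⁻¹)
        calc m * s * m⁻¹ * (m * r * m⁻¹) = m * (s * r) * m⁻¹ := by group
          _ = m * (r * s) * m⁻¹ := by rw [hcen r hr s hs]
          _ = _ := by group
    obtain ⟨W₁, hW₁, hc₁, hf₁⟩ := hW e₁ inf_le_left
    obtain ⟨W₂, hW₂, hc₂, hf₂⟩ := hW e₂ inf_le_right
    have h1 := (Products.card_mul_card_le W₁ W₂).trans
      (Nat.mul_le_mul_right _ (card_le_of_le (sup_le hW₁ hW₂)))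
    have hR8' : Nat.card R ≤ 8 := by
      have h2 := card_dvd_of_le (inf_le_left : R ≤ Q₁)
      rw [e₁.card] at h2
      have h3 : R ≠ Q₁ := fun he => hne (eq_of_le_of_card_ge (he.symm.le.trans inf_le_right : Q₁ ≤ Q₂)
        (by rw [e₁.card, e₂.card]))
      have h4 : Nat.card R < 16 := by
        rw [← e₁.card]
        exact lt_of_le_of_ne (card_le_of_le inf_le_left) fun he => h3 (eq_of_le_of_card_ge inf_le_left he.ge)
      have h5 : Nat.card R ∣ 2 ^ 4 := by norm_num; exact h2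
      obtain ⟨i, hi, hi'⟩ := (Nat.dvd_prime_pow Nat.prime_two).mp h5
      interval_cases i <;> simp [hi'] at h4 ⊢
    have h2 : W₁ ⊓ W₂ ≠ ⊥ := fun hb => by rw [hb, card_bot] at h1; nlinarith
    obtain ⟨⟨w, hw⟩, hw1⟩ : ∃ w : ↥(W₁ ⊓ W₂), w ≠ 1 := by
      haveI := (Subgroup.nontrivial_iff_ne_bot _).mpr h2
      exact exists_ne 1
    exact hfix w (fun he => hw1 (Subtype.ext he)) (hf₁ w hw.1) (hf₂ w hw.2)
  · wlog hna : ¬ ∀ a ∈ Q₂, ∀ b ∈ Q₂, a * b = b * a generalizing Q₁ Q₂ with H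
    · push Not at hna
      refine H e₂ e₁ (Ne.symm hne) (fun a ha h1 h2 => hfix a ha h2 h1) rfl ?_ (fun s hs => by rw [sup_comm]; exact hsup s hs)
        (fun hh => hc ⟨hh.2, hh.1⟩) (fun h1 => hc ⟨h1, hna⟩)
      rw [inf_comm]; exact hR ▸ hR8
    obtain ⟨u, hu, hsq₂, hM₂, hnoR⟩ := e₂.nonabelian hna
    obtain ⟨r, hr, hrr⟩ : ∃ r ∈ R, r * r ≠ 1 := by
      by_contra hh
      push Not at hh
      haveI : Fact (Nat.Prime 2) := ⟨Nat.prime_two⟩
      obtain ⟨X, hX, hXR⟩ : ∃ X : Subgroup R, Nat.card X = 2 ^ 3 ∧ ⊥ ≤ X := by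
        refine Sylow.exists_subgroup_card_pow_prime_le 2 ?_ ⊥ (n := 0) (by simp) (by norm_num)
        obtain ⟨i, hi⟩ := ((hS.to_le (inf_le_left.trans e₁.le)) : IsPGroup 2 R).exists_card_eq
        rw [hi] at hR8 ⊢
        exact pow_dvd_pow 2 (by
          by_contra hlt
          have : 2 ^ i ≤ 2 ^ 2 := Nat.pow_le_pow_right two_pos (by omega)
          omega)
      refine hnoR ⟨X.map R.subtype, (map_subtype_le X).trans inf_le_right, ?_, fun q hq => hh q (map_subtype_le X hq)⟩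
      rw [← Nat.card_congr (X.equivMapOfInjective R.subtype R.subtype_injective).toEquiv, hX]
      norm_num
    have hru : r * r = u := (hsq₂ r hr.2).resolve_left hrr
    have huS : ∀ s ∈ S, s * u = u * s := fun s hs => mem_centralizer_singleton_iff.mp (hM₂ (e₂.norm hs))
    by_cases hab : ∀ a ∈ Q₁, ∀ b ∈ Q₁, a * b = b * a
    swap
    · obtain ⟨u₁, -, hsq₁, hM₁, -⟩ := e₁.nonabelian hab
      have : r * r = u₁ := (hsq₁ r hr.1).resolve_left hrr
      exact hfix u hu (by rw [← hru, this]; exact hM₁) hM₂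
    by_cases hU : ∀ q ∈ Q₁, q * q = 1 ∨ q * q = u
    · refine hfix u hu (fun m hm => mem_centralizer_singleton_iff.mpr (mul_inv_eq_iff_eq_mul.mp ?_)) hM₂
      have hmr := (mem_normalizer_iff.mp hm r).mp hr.1
      have he : m * r * m⁻¹ * (m * r * m⁻¹) = m * u * m⁻¹ := by rw [← hru]; group
      rcases hU _ hmr with h1 | h1
      · rw [he, conj_eq_one_iff] at h1
        exact absurd h1 hu
      · exact he ▸ h1
    push Not at hU
    obtain ⟨q₀, hq₀, hq₀1, hq₀u⟩ := hU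
    let f : Q₁ →* Q₁ :=
      { toFun := fun q => q * q
        map_one' := mul_one 1
        map_mul' := fun p q => Subtype.ext (by
          show (p : G) * q * (p * q) = p * p * (q * q)
          calc (p : G) * q * (p * q) = p * (q * p) * q := by group
            _ = p * (p * q) * q := by rw [hab q q.2 p p.2]
            _ = p * p * (q * q) := by group) }
    set Ω := f.ker with hΩ
    have hΩ4 : Nat.card Ω ≤ 4 := by
      have h1 := Ω.card_mul_index
      rw [index_ker, e₁.card] at h1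
      haveI : Fintype f.range := Fintype.ofFinite _
      have h3 : 3 ≤ Nat.card f.range := by
        have hm1 : ∀ {g : G} (hg : g ∈ Q₁), (⟨g * g, mul_mem hg hg⟩ : Q₁) ∈ f.range := fun {g} hg => ⟨⟨g, hg⟩, rfl⟩
        classical
        have hle := Finset.card_le_univ ({1, ⟨_, hm1 hq₀⟩, ⟨_, hm1 hr.1⟩} : Finset f.range)
        rw [Finset.card_insert_of_notMem (by simp [Subtype.ext_iff, Ne.symm hq₀1, Ne.symm hrr]),
          Finset.card_insert_of_notMem (by simp [Subtype.ext_iff, hru, hq₀u]), Finset.card_singleton,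
          ← Nat.card_eq_fintype_card] at hle
        omega
      have h5 : Nat.card Ω ≤ 5 := by nlinarith
      have h6 : Nat.card Ω ∣ 16 := ⟨_, h1.symm⟩
      by_contra hlt
      rw [show Nat.card Ω = 5 by omega] at h6
      norm_num at h6
    have hEQ : Nat.card ↥(E ⊓ Q₁) ≥ 4 := by
      have := hsupcard E Q₁ hE e₁.le
      rw [hE8, e₁.card] at this
      omega
    have hΩE : Ω.map Q₁.subtype = E ⊓ Q₁ := by
      symm
      refine eq_of_le_of_card_ge (fun a ha => ⟨⟨a, ha.2⟩, Subtype.ext (hE2 a ha.1), rfl⟩) ?_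
      rw [← Nat.card_congr (Ω.equivMapOfInjective Q₁.subtype Q₁.subtype_injective).toEquiv]
      omega
    set A : Set G := ↑(E ⊓ Q₁) with hA
    have hAS : ∀ a ∈ A, ∀ s ∈ S, s * a = a * s := by
      intro a ha s hs
      have hle : E ⊔ Q₁ ≤ centralizer ({a} : Set G) := sup_le
        (fun b hb => mem_centralizer_singleton_iff.mpr (hEc b hb a ha.1))
        (fun b hb => mem_centralizer_singleton_iff.mpr (hab b hb a ha.2))
      have hES : E ⊔ Q₁ = S := by
        refine eq_of_le_of_card_ge (sup_le hE e₁.le) ?_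
        rw [hS32]
        have h1 := Products.card_mul_card_le E Q₁
        rw [hE8, e₁.card] at h1
        have h2 : Nat.card ↥(E ⊓ Q₁) ≤ 4 := by
          rw [← hΩE, ← Nat.card_congr (Ω.equivMapOfInjective Q₁.subtype Q₁.subtype_injective).toEquiv]
          exact hΩ4
        nlinarith
      exact mem_centralizer_singleton_iff.mp (hle (hES.ge hs))
    have hAN : ∀ m ∈ Subgroup.normalizer (Q₁ : Set G), ∀ a ∈ A, m * a * m⁻¹ ∈ A := by
      intro m hm a ha
      show m * a * m⁻¹ ∈ E ⊓ Q₁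
      rw [← hΩE]
      refine ⟨⟨_, (mem_normalizer_iff.mp hm a).mp ha.2⟩, Subtype.ext ?_, rfl⟩
      show m * a * m⁻¹ * (m * a * m⁻¹) = 1
      calc m * a * m⁻¹ * (m * a * m⁻¹) = m * (a * a) * m⁻¹ := by group
        _ = 1 := by rw [hE2 a ha.1, mul_one, mul_inv_cancel]
    have huA : u ∈ A := by
      show u ∈ E ⊓ Q₁
      rw [← hΩE]
      refine ⟨⟨u, hru ▸ mul_mem hr.1 hr.1⟩, Subtype.ext ?_, rfl⟩
      show u * u = 1
      rcases hsq₂ u (hru ▸ mul_mem hr.2 hr.2) with h1 | h1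
      · exact h1
      · exact absurd (mul_eq_left.mp h1) hu
    exact hfix u hu (e₁.central h hS hS32 hAS hAN huA) hM₂

end CfsgLib.LenSeven
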